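import Mathlib
import Cfsg.Agent.Lib.Coprime
import Cfsg.Agent.Lib.CoprimeB
import Cfsg.Agent.Lib.Nilp
import Cfsg.Agent.H2.PUtil
import Cfsg.Agent.Lib.MinAct
import Cfsg.Agent.Lib.Cores

/-! Fixed point free automorphisms `t` with `t⁴ = 1`. -/

namespace Cfsg.Agent.H2.FpfFour

open Subgroup Cfsg.Agent.Lib Cfsg.Agent.Lib.Coprime Cfsg.Agent.Lib.CoprimeB
open scoped commutatorElement

section frob

variable {V : Type*} [CommGroup V] [Finite V]

/-- `K⟨t⟩` Frobenius group of automorphisms, `t` without fixed points: `K = 1`. -/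
theorem frob_trivial {K : Subgroup (MulAut V)} {t : MulAut V} (htK : t ∈ normalizer (K : Set (MulAut V)))
    (hfree : ∀ s ∈ zpowers t, s ≠ 1 → K ⊓ centralizer ({s} : Set (MulAut V)) = ⊥)
    (htV : ∀ v, t v = v → v = 1) (hcop : (Nat.card K).Coprime (Nat.card V)) : K = ⊥ := by
  classical
  haveI : Fintype K := Fintype.ofFinite _
  haveI : Fintype (zpowers t) := Fintype.ofFinite _
  have hK : ∀ s ∈ zpowers t, ∀ k ∈ K, s * k * s⁻¹ ∈ K := by
    intro s hs k hk
    exact (mem_normalizer_iff.1 ((zpowers_le.2 htK) hs) k).1 hk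
  have hK' : ∀ s ∈ zpowers t, ∀ k ∈ K, s⁻¹ * k * s ∈ K := by
    intro s hs k hk
    have := hK s⁻¹ (inv_mem hs) k hk
    rwa [inv_inv] at this
  let N : V → V := fun v => ∏ k : K, (k : MulAut V) v
  have hNfix : ∀ v, ∀ k ∈ K, k (N v) = N v := by
    intro v k hk
    show k (∏ k : K, (k : MulAut V) v) = ∏ k : K, (k : MulAut V) v
    rw [map_prod]
    exact Equiv.prod_comp (Equiv.mulLeft (⟨k, hk⟩ : K)) (fun k : K => (k : MulAut V) v)
  -- norms of t vanish
  have hT : ∀ w : V, ∏ s : zpowers t, (s : MulAut V) w = 1 := by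
    intro w
    apply htV
    rw [map_prod]
    exact Equiv.prod_comp (Equiv.mulLeft (⟨t, mem_zpowers t⟩ : zpowers t)) (fun s : zpowers t => (s : MulAut V) w)
  have h1 : ∀ v : V, ∏ x : K, ∏ s : zpowers t, ((x : MulAut V) * s * (x : MulAut V)⁻¹) v = 1 := by
    intro v
    apply Finset.prod_eq_one
    intro x _
    have : ∀ s : zpowers t, ((x : MulAut V) * s * (x : MulAut V)⁻¹) v = (x : MulAut V) ((s : MulAut V) ((x : MulAut V)⁻¹ v)) :=
      fun s => rfl
    simp only [this]
    rw [← map_prod, hT, map_one]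
  have h2 : ∀ v : V, ∀ s : zpowers t, (s : MulAut V) ≠ 1 →
      ∏ x : K, ((x : MulAut V) * s * (x : MulAut V)⁻¹) v = (s : MulAut V) (N v) := by
    intro v s hs
    let β : K → K := fun x => ⟨(s : MulAut V)⁻¹ * x * s * (x : MulAut V)⁻¹,
      K.mul_mem (hK' s s.2 x x.2) (K.inv_mem x.2)⟩
    have hβ : Function.Injective β := by
      intro x y hxy
      have h3 : (s : MulAut V)⁻¹ * x * s * (x : MulAut V)⁻¹ = (s : MulAut V)⁻¹ * y * s * (y : MulAut V)⁻¹ :=
        congrArg Subtype.val hxy
      have h4 : (y : MulAut V)⁻¹ * x ∈ K ⊓ centralizer ({(s : MulAut V)} : Set (MulAut V)) := by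
        refine ⟨K.mul_mem (K.inv_mem y.2) x.2, mem_centralizer_singleton_iff.2 ?_⟩
        have h5 : (x : MulAut V) * s * (x : MulAut V)⁻¹ = y * s * (y : MulAut V)⁻¹ := by
          have : (s : MulAut V) * ((s : MulAut V)⁻¹ * x * s * (x : MulAut V)⁻¹) = s * ((s : MulAut V)⁻¹ * y * s * (y : MulAut V)⁻¹) :=
            congrArg (fun z => (s : MulAut V) * z) h3
          calc (x : MulAut V) * s * (x : MulAut V)⁻¹ = s * ((s : MulAut V)⁻¹ * x * s * (x : MulAut V)⁻¹) := by group
            _ = s * ((s : MulAut V)⁻¹ * y * s * (y : MulAut V)⁻¹) := this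
            _ = y * s * (y : MulAut V)⁻¹ := by group
        calc (y : MulAut V)⁻¹ * x * s = (y : MulAut V)⁻¹ * (x * s * (x : MulAut V)⁻¹) * x := by group
          _ = (y : MulAut V)⁻¹ * (y * s * (y : MulAut V)⁻¹) * x := by rw [h5]
          _ = s * ((y : MulAut V)⁻¹ * x) := by group
      rw [hfree s s.2 hs, mem_bot, inv_mul_eq_one] at h4
      exact Subtype.ext h4.symm
    have hβ' : Function.Bijective β := Finite.injective_iff_bijective.1 hβ
    have h3 : ∀ x : K, ((x : MulAut V) * s * (x : MulAut V)⁻¹) v = (s : MulAut V) ((β x : MulAut V) v) := by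
      intro x
      have : (x : MulAut V) * s * (x : MulAut V)⁻¹ = (s : MulAut V) * ((s : MulAut V)⁻¹ * x * s * (x : MulAut V)⁻¹) := by
        group
      rw [this]; rfl
    simp only [h3]
    rw [← map_prod]
    congr 1
    exact Equiv.prod_comp (Equiv.ofBijective β hβ') (fun k : K => (k : MulAut V) v)
  -- conclusion
  have h3 : ∀ v : V, ∀ k ∈ K, k (v ^ Nat.card K) = v ^ Nat.card K := by
    intro v k hk
    have h4 := h1 v
    rw [Finset.prod_comm, ← Finset.mul_prod_erase _ _ (Finset.mem_univ (1 : zpowers t))] at h4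
    have h5 : ∏ x : K, ((x : MulAut V) * ((1 : zpowers t) : MulAut V) * (x : MulAut V)⁻¹) v = v ^ Nat.card K := by
      have : ∀ x : K, ((x : MulAut V) * ((1 : zpowers t) : MulAut V) * (x : MulAut V)⁻¹) v = v := by
        intro x
        rw [OneMemClass.coe_one, mul_one, mul_inv_cancel, MulAut.one_apply]
      simp only [this]
      rw [Finset.prod_const, Finset.card_univ, Nat.card_eq_fintype_card]
    rw [h5] at h4
    have h6 : v ^ Nat.card K = (∏ s ∈ Finset.univ.erase (1 : zpowers t),
        ∏ x : K, ((x : MulAut V) * (s : MulAut V) * (x : MulAut V)⁻¹) v)⁻¹ := eq_inv_of_mul_eq_one_left h4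
    rw [h6, map_inv, map_prod]
    congr 1
    apply Finset.prod_congr rfl
    intro s hs
    have hs1 : (s : MulAut V) ≠ 1 := fun h => (Finset.mem_erase.1 hs).1 (Subtype.ext h)
    rw [h2 v s hs1]
    have h7 := hNfix v _ (hK' s s.2 k hk)
    have h8 : k ((s : MulAut V) (N v)) = (s : MulAut V) (((s : MulAut V)⁻¹ * k * s) (N v)) := by
      have : k * (s : MulAut V) = s * ((s : MulAut V)⁻¹ * k * s) := by group
      exact congrArg (fun z : MulAut V => z (N v)) this
    rw [h8, h7]
  rw [eq_bot_iff]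
  intro k hk
  rw [mem_bot]
  ext v
  rw [MulAut.one_apply]
  obtain ⟨m, hm⟩ := exists_pow_eq_self_of_coprime (x := v) (n := Nat.card K)
    (hcop.coprime_dvd_right (orderOf_dvd_natCard v))
  rw [← hm, map_pow, h3 v k hk]

end frob

/-- odd order from a fixed point free `2`-element -/
theorem odd_of_fpf {X : Type*} [Group X] [Finite X] {N : Subgroup X} {t : X} {m : ℕ} (ht : t ^ (2 ^ m) = 1)
    (htN : t ∈ normalizer (N : Set X)) (hfpf : N ⊓ centralizer ({t} : Set X) = ⊥) : Odd (Nat.card N) := by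
  haveI : Fact (Nat.Prime 2) := ⟨Nat.prime_two⟩
  have hle : zpowers t ≤ normalizer (N : Set X) := by rwa [zpowers_le]
  have hp : IsPGroup 2 (zpowers t) := by
    obtain ⟨k, -, hk⟩ := (Nat.dvd_prime_pow Nat.prime_two).1 (orderOf_dvd_of_pow_eq_one ht)
    exact IsPGroup.of_card (n := k) (by rw [Nat.card_zpowers, hk])
  letI : MulAction (zpowers t) N := MulAction.compHom N (act hle)
  have h1 := hp.card_modEq_card_fixedPoints (α := N)
  have h2 : MulAction.fixedPoints (zpowers t) N = {1} := by
    ext x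
    rw [MulAction.mem_fixedPoints, Set.mem_singleton_iff]
    constructor
    · intro h
      have h3 : t * (x : X) * t⁻¹ = x := congrArg Subtype.val (h ⟨t, mem_zpowers t⟩)
      have h4 : (x : X) ∈ N ⊓ centralizer ({t} : Set X) := ⟨x.2, mem_centralizer_singleton_iff.2 (by
        calc (x : X) * t = (t * x * t⁻¹) * t := by rw [h3]
          _ = t * x := by group)⟩
      rw [hfpf, mem_bot] at h4
      exact Subtype.ext h4
    · rintro rfl s
      exact map_one (act hle s)
  rw [h2] at h1
  have h3 : Nat.card ({1} : Set N) = 1 := by simp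
  rw [h3] at h1
  rw [Nat.odd_iff]
  exact h1

theorem le_normalizer_centralizer {X : Type*} [Group X] {K A : Subgroup X}
    (h : K ≤ normalizer (A : Set X)) : K ≤ normalizer ((centralizer (A : Set X) : Subgroup X) : Set X) := by
  have key : ∀ k ∈ K, ∀ x ∈ centralizer (A : Set X), k * x * k⁻¹ ∈ centralizer (A : Set X) := by
    intro k hk x hx
    rw [mem_centralizer_iff] at hx ⊢
    intro a ha
    have h1 : k⁻¹ * a * k ∈ A := by
      have := (mem_normalizer_iff.1 (h (K.inv_mem hk)) a).1 ha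
      rwa [inv_inv] at this
    have h2 := hx _ h1
    calc a * (k * x * k⁻¹) = k * ((k⁻¹ * a * k) * x) * k⁻¹ := by group
      _ = k * (x * (k⁻¹ * a * k)) * k⁻¹ := by rw [h2]
      _ = k * x * k⁻¹ * a := by group
  intro k hk
  rw [mem_normalizer_iff]
  intro x
  refine ⟨key k hk x, fun hx => ?_⟩
  have h1 := key k⁻¹ (K.inv_mem hk) _ hx
  have h2 : k⁻¹ * (k * x * k⁻¹) * k⁻¹⁻¹ = x := by group
  rwa [h2] at h1

theorem claimC {V : Type*} [CommGroup V] [Finite V] {q : ℕ} [hq : Fact q.Prime] (hqV : (Nat.card V).Coprime q)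
    {Q : Subgroup (MulAut V)} (hQ : IsPGroup q Q) {t : MulAut V} (ht4 : t ^ 4 = 1)
    (htV : ∀ v, t v = v → v = 1) (htQ : t ∈ normalizer (Q : Set (MulAut V)))
    (hQt : Q ⊓ centralizer ({t} : Set (MulAut V)) = ⊥) : Q ≤ centralizer ((zpowers (t ^ 2) : Subgroup (MulAut V)) : Set (MulAut V)) := by
  classical
  have hQodd : Odd (Nat.card Q) := odd_of_fpf (m := 2) ht4 htQ hQt
  set T := zpowers (t ^ 2) with hT
  have hTt : T ≤ zpowers t := by rw [hT, zpowers_le]; exact pow_mem (mem_zpowers t) 2
  have hTc : Nat.card T ∣ 2 := by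
    rw [hT, Nat.card_zpowers]
    exact orderOf_dvd_of_pow_eq_one (by rw [← pow_mul]; exact ht4)
  have hTs : Group.IsSolvable T := isSolvable_of_comm inferInstance
  have htT : t ∈ normalizer (T : Set (MulAut V)) := by
    apply centralizer_le_normalizer (T : Set (MulAut V))
    rw [mem_centralizer_iff]
    intro s hs
    obtain ⟨i, hi⟩ := hTt hs
    rw [← hi]
    exact ((Commute.refl t).zpow_left i).eq
  by_contra hne
  obtain ⟨Q₁, hQ₁⟩ := (Set.toFinite {U : Subgroup (MulAut V) | U ≤ Q ∧ t ∈ normalizer (U : Set (MulAut V)) ∧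
    ¬ U ≤ centralizer (T : Set (MulAut V))}).exists_minimal ⟨Q, le_rfl, htQ, hne⟩
  obtain ⟨hQ₁Q, htQ₁, hQ₁T⟩ := hQ₁.prop
  have hQ₁p : IsPGroup q Q₁ := hQ.to_le hQ₁Q
  have hzt : ∀ U : Subgroup (MulAut V), t ∈ normalizer (U : Set (MulAut V)) → T ≤ normalizer (U : Set (MulAut V)) :=
    fun U hU => hTt.trans (by rwa [zpowers_le])
  have hcop₁ : ∀ U : Subgroup (MulAut V), U ≤ Q → (Nat.card T).Coprime (Nat.card U) := by
    intro U hU
    apply Nat.Coprime.coprime_dvd_left hTc
    apply Nat.Coprime.coprime_dvd_right (card_dvd_of_le hU)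
    exact hQodd.coprime_two_left
  have hmin : ∀ U : Subgroup (MulAut V), U ≤ Q₁ → U ≠ Q₁ → t ∈ normalizer (U : Set (MulAut V)) →
      U ≤ centralizer (T : Set (MulAut V)) := by
    intro U hU hne' htU
    by_contra h
    exact hne' (le_antisymm hU (hQ₁.le_of_le ⟨hU.trans hQ₁Q, htU, h⟩ hU))
  have hcc := commutator_commutator_eq (hzt Q₁ htQ₁) (hcop₁ Q₁ hQ₁Q) (Or.inl hTs)
  have hD : ⁅Q₁, T⁆ = Q₁ := by
    by_contra hne'
    have htD : t ∈ normalizer ((⁅Q₁, T⁆ : Subgroup (MulAut V)) : Set (MulAut V)) := by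
      have := le_normalizer_commutator (A := zpowers t) (B := Q₁) (C := T) (by rwa [zpowers_le]) (by rwa [zpowers_le])
      exact this (mem_zpowers t)
    have h1 := hmin _ (commutator_le_of_normalizes (hzt Q₁ htQ₁)) hne' htD
    rw [← commutator_eq_bot_iff_le_centralizer, hcc, commutator_eq_bot_iff_le_centralizer] at h1
    exact hQ₁T h1
  have hcopV : ∀ U : Subgroup (MulAut V), U ≤ Q → (Nat.card U).Coprime (Nat.card V) := by
    intro U hU
    obtain ⟨k, hk⟩ := (hQ.to_le hU).exists_card_eq
    rw [hk]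
    exact (hqV.symm).pow_left k
  have hbot : Q₁ ≠ ⊥ := by
    intro h
    apply hQ₁T
    rw [h]; exact bot_le
  by_cases hcomm : IsMulCommutative Q₁
  · -- abelian case
    have h1 := abelian_inf_eq_bot hcomm (hzt Q₁ htQ₁) (hcop₁ Q₁ hQ₁Q)
    rw [hD, inf_eq_left.2 inf_le_left] at h1
    apply hbot
    apply frob_trivial htQ₁ _ htV (hcopV Q₁ hQ₁Q)
    rintro s ⟨i, rfl⟩ hs
    rw [eq_bot_iff, ← h1]
    intro x hx
    refine ⟨hx.1, mem_centralizer_iff.2 ?_⟩
    rintro _ ⟨j, rfl⟩
    have hxs : Commute x (t ^ i) := mem_centralizer_singleton_iff.1 hx.2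
    -- t ^ 2 is a power of t ^ i as t ^ i ≠ 1 and t ^ 4 = 1
    have h4 : (t : MulAut V) ^ (4 : ℤ) = 1 := by exact_mod_cast ht4
    have hi4 : ¬ (4 : ℤ) ∣ i := by
      rintro ⟨c, rfl⟩
      apply hs
      show t ^ (4 * c) = 1
      rw [zpow_mul, h4, one_zpow]
    have h5 : Commute x (t ^ (2 : ℤ)) := by
      rcases Int.emod_two_eq_zero_or_one i with he | ho
      · obtain ⟨c, hc⟩ := Int.dvd_of_emod_eq_zero he
        have hcodd : c % 2 = 1 := by omega
        obtain ⟨d, hd⟩ : ∃ d, c = 2 * d + 1 := ⟨c / 2, by omega⟩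
        have : (t : MulAut V) ^ i = t ^ (2 : ℤ) := by
          rw [hc, hd, show (2 : ℤ) * (2 * d + 1) = 4 * d + 2 by ring, zpow_add, zpow_mul, h4, one_zpow, one_mul]
        rwa [this] at hxs
      · obtain ⟨d, hd⟩ : ∃ d, i = 2 * d + 1 := ⟨i / 2, by omega⟩
        have h6 : Commute x ((t ^ i) ^ (2 : ℤ)) := hxs.zpow_right 2
        have : ((t : MulAut V) ^ i) ^ (2 : ℤ) = t ^ (2 : ℤ) := by
          rw [← zpow_mul, hd, show ((2 : ℤ) * d + 1) * 2 = 4 * d + 2 by ring, zpow_add, zpow_mul, h4, one_zpow, one_mul]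
        rwa [this] at h6
    have h6 : Commute x (t ^ 2) := by exact_mod_cast h5
    exact (h6.zpow_right j).symm.eq
  · -- nonabelian case
    have hnil : Group.IsNilpotent Q₁ := hQ₁p.isNilpotent
    have hcne : commutator Q₁ ≠ ⊥ := by
      intro h
      apply hcomm
      refine ⟨⟨fun a b => ?_⟩⟩
      have : ⁅a, b⁆ ∈ commutator Q₁ := commutator_mem_commutator (mem_top a) (mem_top b)
      rw [h, mem_bot, commutatorElement_eq_one_iff_mul_comm] at this
      exact this
    have h1 := Nilp.normal_inf_center_ne_bot (commutator Q₁) hcne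
    set Z₀ : Subgroup (MulAut V) := ⁅Q₁, Q₁⁆ ⊓ centralizer (Q₁ : Set (MulAut V)) with hZ₀
    have hle : ⁅Q₁, Q₁⁆ ≤ Q₁ := commutator_le_of_normalizes le_normalizer
    have hZ₀bot : Z₀ ≠ ⊥ := by
      intro h
      apply h1
      rw [eq_bot_iff]
      rintro x ⟨hx1, hx2⟩
      have h2 : (x : MulAut V) ∈ Z₀ := by
        refine ⟨?_, ?_⟩
        · rw [← map_subtype_commutator]
          exact mem_map_of_mem _ hx1
        · refine mem_centralizer_iff.2 ?_
          intro y hy
          exact congrArg Subtype.val (mem_center_iff.1 hx2 ⟨y, hy⟩)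
      rw [h, mem_bot] at h2
      rw [mem_bot]
      exact Subtype.ext h2
    have hZ₀Q : Z₀ ≤ Q₁ := inf_le_left.trans hle
    have htZ : t ∈ normalizer (Z₀ : Set (MulAut V)) := by
      have h2 : zpowers t ≤ normalizer (Q₁ : Set (MulAut V)) := by rwa [zpowers_le]
      exact SchurZas.le_normalizer_inf (le_normalizer_commutator h2 h2) (le_normalizer_centralizer h2) (mem_zpowers t)
    have hne1 : ⁅Q₁, Q₁⁆ ≠ Q₁ := (commutator_lt_of_pgroup hQ₁p hQ₁p le_normalizer hbot).ne
    have hZ₀T : Z₀ ≤ centralizer (T : Set (MulAut V)) := by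
      have h2 : zpowers t ≤ normalizer (Q₁ : Set (MulAut V)) := by rwa [zpowers_le]
      exact inf_le_left.trans (hmin _ hle hne1 (le_normalizer_commutator h2 h2 (mem_zpowers t)))
    have hZcomm : ∀ x ∈ Z₀, ∀ y ∈ Q₁, x * y = y * x := by
      intro x hx y hy
      exact (mem_centralizer_iff.1 hx.2 y hy).symm
    have hinv : ∀ z ∈ Z₀, t * z * t⁻¹ = z⁻¹ := by
      intro z hz
      have hz1 : t * z * t⁻¹ ∈ Z₀ := (mem_normalizer_iff.1 htZ z).1 hz
      have hz2 : t ^ 2 * z = z * t ^ 2 := mem_centralizer_iff.1 (hZ₀T hz) _ (mem_zpowers _)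
      have h3 : (t * z * t⁻¹) * z ∈ Q ⊓ centralizer ({t} : Set (MulAut V)) := by
        refine ⟨hQ₁Q (Q₁.mul_mem (hZ₀Q hz1) (hZ₀Q hz)), mem_centralizer_singleton_iff.2 ?_⟩
        calc (t * z * t⁻¹) * z * t = z * (t * z * t⁻¹) * t := by rw [hZcomm _ hz1 z (hZ₀Q hz)]
          _ = (z * t ^ 2) * (t⁻¹ * z) := by group
          _ = (t ^ 2 * z) * (t⁻¹ * z) := by rw [hz2]
          _ = t * ((t * z * t⁻¹) * z) := by rw [pow_two]; group
      rw [hQt, mem_bot] at h3
      exact eq_inv_of_mul_eq_one_left h3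
    letI : Fintype Z₀ := Fintype.ofFinite _
    let N₀ : V →* V := ∏ z : Z₀, ((z : MulAut V) : V ≃* V).toMonoidHom
    have hN₀ : ∀ v, N₀ v = ∏ z : Z₀, (z : MulAut V) v := by
      intro v
      show (∏ z : Z₀, ((z : MulAut V) : V ≃* V).toMonoidHom) v = _
      rw [MonoidHom.finsetProd_apply]
      rfl
    have hinvar : ∀ g ∈ normalizer (Z₀ : Set (MulAut V)), ∀ v, N₀ v = 1 → N₀ (g v) = 1 := by
      intro g hg v hv
      have hconj : ∀ z ∈ Z₀, g⁻¹ * z * g ∈ Z₀ := by
        intro z hz
        have := (mem_normalizer_iff.1 (inv_mem hg) z).1 hz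
        rwa [inv_inv] at this
      let γ : Z₀ → Z₀ := fun z => ⟨g⁻¹ * z * g, hconj z z.2⟩
      have hγ : Function.Injective γ := by
        intro x y hxy
        have h3 : g⁻¹ * (x : MulAut V) * g = g⁻¹ * y * g := congrArg Subtype.val hxy
        exact Subtype.ext (mul_left_cancel (mul_right_cancel h3))
      have hγ' : Function.Bijective γ := Finite.injective_iff_bijective.1 hγ
      have h3 : ∀ z : Z₀, (z : MulAut V) (g v) = g ((γ z : MulAut V) v) := by
        intro z
        have : (z : MulAut V) * g = g * (g⁻¹ * z * g) := by group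
        exact congrArg (fun w : MulAut V => w v) this
      rw [hN₀]
      simp only [h3]
      have h4 : ∏ z : Z₀, (γ z : MulAut V) v = ∏ z : Z₀, (z : MulAut V) v :=
        Equiv.prod_comp (Equiv.ofBijective γ hγ') (fun k : Z₀ => (k : MulAut V) v)
      rw [← map_prod, h4, ← hN₀, hv, map_one]
    have hN₀z : ∀ z ∈ Z₀, ∀ v, N₀ (z v) = N₀ v := by
      intro z hz v
      rw [hN₀, hN₀]
      exact Equiv.prod_comp (Equiv.mulRight (⟨z, hz⟩ : Z₀)) (fun k : Z₀ => (k : MulAut V) v)
    have hfix1 : ∀ v, N₀ v = 1 → (∀ z ∈ Z₀, z v = v) → v = 1 := by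
      intro v hv hz
      rw [hN₀] at hv
      have h3 : ∏ z : Z₀, (z : MulAut V) v = ∏ _z : Z₀, v := Finset.prod_congr rfl (fun z _ => hz z z.2)
      rw [h3, Finset.prod_const, Finset.card_univ, ← Nat.card_eq_fintype_card] at hv
      have h4 : orderOf v ∣ Nat.card Z₀ := orderOf_dvd_of_pow_eq_one hv
      have h5 : orderOf v ∣ Nat.card V := orderOf_dvd_natCard v
      rw [← orderOf_eq_one_iff]
      exact Nat.eq_one_of_dvd_coprimes (hcopV Z₀ (hZ₀Q.trans hQ₁Q)) h4 h5
    have hQ₁N : Q₁ ≤ normalizer (Z₀ : Set (MulAut V)) :=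
      SchurZas.le_normalizer_inf (le_normalizer_commutator le_normalizer le_normalizer) (le_normalizer_centralizer le_normalizer)
    have hoddZ : Odd (Nat.card Z₀) := hQodd.of_dvd_nat (card_dvd_of_le (hZ₀Q.trans hQ₁Q))
    have hfix2 : ∀ v, N₀ v = 1 → (t ^ 2) v = v → v = 1 := by
      intro v hv h2v
      have hkey : ∀ w, N₀ w = 1 → (t ^ 2) w = w → t w = w⁻¹ := by
        intro w hw h2w
        have h3 : t (t w) = w := h2w
        have h4 : t w * w = 1 := htV _ (by rw [map_mul, h3, mul_comm])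
        exact eq_inv_of_mul_eq_one_left h4
      apply hfix1 v hv
      intro z hz
      have h3 : t v = v⁻¹ := hkey v hv h2v
      have hz2 : t ^ 2 * z = z * t ^ 2 := mem_centralizer_iff.1 (hZ₀T hz) _ (mem_zpowers _)
      have h4 : (t ^ 2) (z v) = z v := by
        have h5 : (t ^ 2) (z v) = z ((t ^ 2) v) := congrArg (fun w : MulAut V => w v) hz2
        rw [h5, h2v]
      have h5 : t (z v) = (z v)⁻¹ := hkey (z v) (by rw [hN₀z z hz, hv]) h4
      have h6 : t (z v) = z⁻¹ (t v) := by
        have h7 : t * z = z⁻¹ * t := by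
          rw [← hinv z hz]; group
        exact congrArg (fun w : MulAut V => w v) h7
      rw [h6, h3, map_inv, inv_inj] at h5
      -- z⁻¹ v = z v
      have h7 : (z ^ 2) v = v := by
        have h8 : z (z⁻¹ v) = z (z v) := congrArg z h5
        have h9 : z (z⁻¹ v) = v := MulAut.apply_inv_self _ z v
        rw [h9] at h8
        exact h8.symm
      -- z is a power of z ^ 2
      have hoz : (orderOf z).Coprime 2 := by
        have h8 : orderOf z ∣ Nat.card Z₀ := Z₀.orderOf_dvd_natCard hz
        exact (Nat.coprime_two_right.2 (hoddZ.of_dvd_nat h8))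
      obtain ⟨m, hm⟩ := exists_pow_eq_self_of_coprime (x := z) (n := 2) hoz.symm
      have h8 : ∀ k : ℕ, ((z ^ 2) ^ k) v = v := by
        intro k
        induction k with
        | zero => rw [pow_zero, MulAut.one_apply]
        | succ k ih => rw [pow_succ, MulAut.mul_apply, h7, ih]
      have h9 := h8 m
      rwa [hm] at h9
    have hfix3 : ∀ v, N₀ v = 1 → (t ^ 2) v = v⁻¹ := by
      intro v hv
      have h3 : (t ^ 2) ((t ^ 2) v) = v := by
        have : (t ^ 2 * t ^ 2 : MulAut V) = 1 := by rw [← pow_add]; exact ht4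
        exact congrArg (fun w : MulAut V => w v) this
      have ht2 : t ^ 2 ∈ normalizer (Z₀ : Set (MulAut V)) := pow_mem htZ 2
      have h4 : (t ^ 2) v * v = 1 := by
        apply hfix2
        · rw [map_mul, hinvar _ ht2 v hv, hv, mul_one]
        · rw [map_mul, h3, mul_comm]
      exact eq_inv_of_mul_eq_one_left h4
    -- elements of T act as powers
    have hTpow : ∀ s ∈ T, ∃ n : ℤ, ∀ v, N₀ v = 1 → s v = v ^ n := by
      rintro _ ⟨i, rfl⟩
      have h4 : (t : MulAut V) ^ (4 : ℤ) = 1 := by exact_mod_cast ht4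
      have h2 : (t ^ 2 : MulAut V) = t ^ (2 : ℤ) := by exact_mod_cast rfl
      rcases Int.emod_two_eq_zero_or_one i with he | ho
      · obtain ⟨c, hc⟩ := Int.dvd_of_emod_eq_zero he
        refine ⟨1, fun v _ => ?_⟩
        show ((t ^ 2) ^ i : MulAut V) v = v ^ (1 : ℤ)
        rw [h2, ← zpow_mul, hc, ← mul_assoc, zpow_mul, show (2 : ℤ) * 2 = 4 by norm_num, h4, one_zpow, MulAut.one_apply, zpow_one]
      · obtain ⟨d, hd⟩ : ∃ d, i = 2 * d + 1 := ⟨i / 2, by omega⟩
        refine ⟨-1, fun v hv => ?_⟩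
        show ((t ^ 2) ^ i : MulAut V) v = v ^ (-1 : ℤ)
        have h5 : ((t ^ 2) ^ i : MulAut V) = t ^ 2 := by
          rw [h2, ← zpow_mul, hd, show (2 : ℤ) * (2 * d + 1) = 4 * d + 2 by ring, zpow_add, zpow_mul, h4, one_zpow, one_mul]
        rw [h5, hfix3 v hv, zpow_neg_one]
    have hQ₁triv : ∀ g ∈ Q₁, ∀ v, N₀ v = 1 → g v = v := by
      let S : Subgroup (MulAut V) :=
        { carrier := {g | g ∈ Q₁ ∧ ∀ v, N₀ v = 1 → g v = v}
          mul_mem' := by
            rintro a b ⟨ha, ha'⟩ ⟨hb, hb'⟩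
            refine ⟨Q₁.mul_mem ha hb, fun v hv => ?_⟩
            rw [MulAut.mul_apply, hb' v hv, ha' v hv]
          one_mem' := ⟨Q₁.one_mem, fun v _ => MulAut.one_apply _ v⟩
          inv_mem' := by
            rintro a ⟨ha, ha'⟩
            refine ⟨Q₁.inv_mem ha, fun v hv => ?_⟩
            have h3 : a⁻¹ (a v) = v := MulAut.inv_apply_self _ a v
            rwa [ha' v hv] at h3 }
      have hS : Q₁ ≤ S := by
        have h3 : ⁅Q₁, T⁆ ≤ S := by
          rw [commutator_le]
          intro x hx s hs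
          refine ⟨?_, fun v hv => ?_⟩
          · have := commutator_mem_commutator hx hs
            rwa [hD] at this
          · obtain ⟨n, hn⟩ := hTpow s⁻¹ (T.inv_mem hs)
            rw [commutatorElement_def]
            show x (s (x⁻¹ (s⁻¹ v))) = v
            have hx' : N₀ (x⁻¹ v) = 1 := hinvar _ (hQ₁N (Q₁.inv_mem hx)) v hv
            rw [hn v hv, map_zpow, ← hn _ hx', MulAut.apply_inv_self, MulAut.apply_inv_self]
        rwa [hD] at h3
      intro g hg v hv
      exact (hS hg).2 v hv
    apply hZ₀bot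
    rw [eq_bot_iff]
    intro z hz
    rw [mem_bot]
    ext v
    rw [MulAut.one_apply]
    have h3 : N₀ (v⁻¹ * z v) = 1 := by
      rw [map_mul, hN₀z z hz, map_inv, inv_mul_cancel]
    have h4 : v⁻¹ * z v = 1 := hfix1 _ h3 (fun z' hz' => hQ₁triv z' (hZ₀Q hz') _ h3)
    exact (inv_mul_eq_one.1 h4).symm

/-- a normalizing element -/
theorem conj_mem {X : Type*} [Group X] {A : Subgroup X} {t : X} (h : t ∈ normalizer (A : Set X)) {a : X}
    (ha : a ∈ A) : t * a * t⁻¹ ∈ A := (mem_normalizer_iff.1 h a).1 ha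

theorem conj_mem' {X : Type*} [Group X] {A : Subgroup X} {t : X} (h : t ∈ normalizer (A : Set X)) {a : X}
    (ha : a ∈ A) : t⁻¹ * a * t ∈ A := by
  have := (mem_normalizer_iff.1 (inv_mem h) a).1 ha
  rwa [inv_inv] at this

theorem core_eq_bot {V : Type*} [CommGroup V] [Finite V] {r : ℕ} [Fact r.Prime] (hr : IsPGroup r V)
    {N : Subgroup (MulAut V)} {t : MulAut V} (htN : t ∈ normalizer (N : Set (MulAut V)))
    (hirr : ∀ W : Subgroup V, (∀ n ∈ N, ∀ w ∈ W, n w ∈ W) → (∀ w ∈ W, t w ∈ W) → W = ⊥ ∨ W = ⊤) :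
    (pCore r N).map N.subtype = ⊥ := by
  set R := (pCore r N).map N.subtype with hR
  have hRp : IsPGroup r R := (Cores.pCore_isPGroup (G := N) r).map _
  have htR : t ∈ normalizer (R : Set (MulAut V)) := by
    have := Cores.pCore_characteristic (G := N) r
    exact MinAct.normalizer_le_normalizer_char (pCore r N) htN
  have hNR : N ≤ normalizer (R : Set (MulAut V)) := by
    have := Cores.pCore_characteristic (G := N) r
    exact le_normalizer.trans (MinAct.normalizer_le_normalizer_char (pCore r N))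
  let W : Subgroup V :=
    { carrier := {v | ∀ k ∈ R, k v = v}
      mul_mem' := by
        intro a b ha hb k hk
        rw [map_mul, ha k hk, hb k hk]
      one_mem' := fun k _ => map_one k
      inv_mem' := by
        intro a ha k hk
        rw [map_inv, ha k hk] }
  have hW : ∀ g ∈ normalizer (R : Set (MulAut V)), ∀ w ∈ W, g w ∈ W := by
    intro g hg w hw k hk
    have h1 := hw _ (conj_mem' hg hk)
    have h2 : k * g = g * (g⁻¹ * k * g) := by group
    have h3 : k (g w) = g ((g⁻¹ * k * g) w) := congrArg (fun z : MulAut V => z w) h2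
    rw [h3, h1]
  rcases hirr W (fun n hn => hW n (hNR hn)) (hW t htR) with h | h
  · -- no fixed points: then V is trivial
    letI : MulAction R V := MulAction.compHom V (R.subtype)
    have h1 := hRp.card_modEq_card_fixedPoints (α := V)
    have h2 : MulAction.fixedPoints R V = {1} := by
      ext x
      rw [MulAction.mem_fixedPoints, Set.mem_singleton_iff]
      constructor
      · intro hx
        have : x ∈ W := fun k hk => hx ⟨k, hk⟩
        rwa [h, mem_bot] at this
      · rintro rfl s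
        exact map_one (s : MulAut V)
    rw [h2] at h1
    have h3 : Nat.card ({1} : Set V) = 1 := by simp
    rw [h3] at h1
    obtain ⟨k, hk⟩ := IsPGroup.iff_card.1 hr
    have hrp : r.Prime := Fact.out
    rcases Nat.eq_zero_or_pos k with h0 | h0
    · rw [h0, pow_zero] at hk
      have hs : Subsingleton V := (Nat.card_eq_one_iff_unique.1 hk).1
      rw [eq_bot_iff]
      intro x _
      rw [mem_bot]
      ext v
      exact Subsingleton.elim _ _
    · exfalso
      have h4 : r ∣ Nat.card V := by rw [hk]; exact dvd_pow_self r h0.ne'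
      have h5 : Nat.card V % r = 1 % r := h1
      rw [Nat.mod_eq_zero_of_dvd h4, Nat.mod_eq_of_lt hrp.one_lt] at h5
      omega
  · rw [eq_bot_iff]
    intro k hk
    rw [mem_bot]
    ext v
    have : v ∈ W := by rw [h]; exact mem_top v
    exact this k hk

theorem comm_of_irred {V : Type*} [CommGroup V] [Finite V] {r : ℕ} [Fact r.Prime] (hr : IsPGroup r V)
    {N : Subgroup (MulAut V)} {t : MulAut V} (ht4 : t ^ 4 = 1) (htV : ∀ v, t v = v → v = 1)
    (htN : t ∈ normalizer (N : Set (MulAut V))) (hNt : N ⊓ centralizer ({t} : Set (MulAut V)) = ⊥)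
    (hsol : Group.IsSolvable N)
    (hirr : ∀ W : Subgroup V, (∀ n ∈ N, ∀ w ∈ W, n w ∈ W) → (∀ w ∈ W, t w ∈ W) → W = ⊥ ∨ W = ⊤) :
    ∀ a ∈ N, ∀ b ∈ N, a * b = b * a := by
  classical
  set T := zpowers (t ^ 2) with hT
  set F := (fittingSubgroup N).map N.subtype with hF
  have hTt : T ≤ zpowers t := by rw [hT, zpowers_le]; exact pow_mem (mem_zpowers t) 2
  have hTN : T ≤ normalizer (N : Set (MulAut V)) := hTt.trans (by rwa [zpowers_le])
  have hTc : Nat.card T ∣ 2 := by
    rw [hT, Nat.card_zpowers]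
    exact orderOf_dvd_of_pow_eq_one (by rw [← pow_mul]; exact ht4)
  have hTs : Group.IsSolvable T := isSolvable_of_comm inferInstance
  have hodd : Odd (Nat.card N) := odd_of_fpf (m := 2) ht4 htN hNt
  have hcop : (Nat.card T).Coprime (Nat.card N) := Nat.Coprime.coprime_dvd_left hTc hodd.coprime_two_left
  have hFT : F ≤ centralizer (T : Set (MulAut V)) := by
    rw [hF, Cores.fitting_eq_iSup_pCore, Subgroup.map_iSup]
    apply iSup_le
    rintro ⟨q, hq⟩
    haveI : Fact q.Prime := ⟨hq⟩
    show (pCore q N).map N.subtype ≤ _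
    by_cases hqr : q = r
    · subst hqr
      rw [core_eq_bot hr htN hirr]
      exact bot_le
    · have htQ : t ∈ normalizer (((pCore q N).map N.subtype : Subgroup (MulAut V)) : Set (MulAut V)) := by
        have := Cores.pCore_characteristic (G := N) q
        exact MinAct.normalizer_le_normalizer_char (pCore q N) htN
      apply claimC (q := q) _ ((Cores.pCore_isPGroup (G := N) q).map _) ht4 htV htQ
      · rw [eq_bot_iff, ← hNt]
        exact inf_le_inf_right _ (map_subtype_le _)
      · obtain ⟨k, hk⟩ := IsPGroup.iff_card.1 hr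
        rw [hk]
        apply Nat.Coprime.pow_left
        exact (Nat.coprime_primes Fact.out hq).2 (Ne.symm hqr)
  have hFN : F ≤ N := map_subtype_le _
  have hNF : N ≤ normalizer (F : Set (MulAut V)) := by
    have := Cores.fitting_characteristic (G := N)
    exact le_normalizer.trans (MinAct.normalizer_le_normalizer_char (fittingSubgroup N))
  have hCF : N ⊓ centralizer (F : Set (MulAut V)) ≤ F := by
    rintro x ⟨hx1, hx2⟩
    refine ⟨⟨x, hx1⟩, Nilp.centralizer_fitting_le (G := N) ?_, rfl⟩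
    refine mem_centralizer_iff.2 ?_
    intro y hy
    exact Subtype.ext (mem_centralizer_iff.1 hx2 y ⟨y, hy, rfl⟩)
  have hNT : N ≤ centralizer (T : Set (MulAut V)) := by
    have h1 : ⁅⁅N, F⁆, T⁆ = ⊥ := by
      rw [eq_bot_iff, ← commutator_eq_bot_iff_le_centralizer.2 hFT]
      apply commutator_mono _ le_rfl
      rw [commutator_comm]
      exact commutator_le_of_normalizes hNF
    have h2 : ⁅⁅F, T⁆, N⁆ = ⊥ := by
      rw [commutator_eq_bot_iff_le_centralizer.2 hFT, commutator_bot_left]
    have h3 : ⁅⁅T, N⁆, F⁆ = ⊥ := three_subgroups h1 h2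
    have h4 : ⁅N, T⁆ ≤ F := by
      refine le_trans (le_inf (commutator_le_of_normalizes hTN) ?_) hCF
      rw [commutator_comm]
      exact commutator_eq_bot_iff_le_centralizer.1 h3
    rw [← commutator_eq_bot_iff_le_centralizer]
    exact le_centralizer_of_commutator_le hTN hcop (Or.inl hTs) h4 (commutator_eq_bot_iff_le_centralizer.2 hFT)
  -- `t` inverts `N`
  have hinv : ∀ n ∈ N, t * n * t⁻¹ = n⁻¹ := by
    let c : N → N := fun x => ⟨(x : MulAut V)⁻¹ * (t * x * t⁻¹), N.mul_mem (N.inv_mem x.2) (conj_mem htN x.2)⟩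
    have hc : Function.Injective c := by
      intro x y hxy
      have h1 : (x : MulAut V)⁻¹ * (t * x * t⁻¹) = (y : MulAut V)⁻¹ * (t * y * t⁻¹) := congrArg Subtype.val hxy
      have h2 : (y : MulAut V) * (x : MulAut V)⁻¹ ∈ N ⊓ centralizer ({t} : Set (MulAut V)) := by
        refine ⟨N.mul_mem y.2 (N.inv_mem x.2), mem_centralizer_singleton_iff.2 ?_⟩
        calc (y : MulAut V) * (x : MulAut V)⁻¹ * t = y * ((x : MulAut V)⁻¹ * (t * x * t⁻¹)) * t * (x : MulAut V)⁻¹ := by group
          _ = y * ((y : MulAut V)⁻¹ * (t * y * t⁻¹)) * t * (x : MulAut V)⁻¹ := by rw [h1]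
          _ = t * (y * (x : MulAut V)⁻¹) := by group
      rw [hNt, mem_bot, mul_inv_eq_one] at h2
      exact Subtype.ext h2.symm
    have hc' : Function.Surjective c := Finite.injective_iff_surjective.1 hc
    intro n hn
    obtain ⟨x, hx⟩ := hc' ⟨n, hn⟩
    have h1 : (x : MulAut V)⁻¹ * (t * x * t⁻¹) = n := congrArg Subtype.val hx
    have h2 : t ^ 2 * (x : MulAut V) = x * t ^ 2 := mem_centralizer_iff.1 (hNT x.2) _ (mem_zpowers _)
    have h3 : t * t * (x : MulAut V) * t⁻¹ * t⁻¹ = x := by
      rw [← pow_two, h2, pow_two]; group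
    rw [← h1]
    calc t * ((x : MulAut V)⁻¹ * (t * x * t⁻¹)) * t⁻¹ = (t * x * t⁻¹)⁻¹ * (t * t * x * t⁻¹ * t⁻¹) := by group
      _ = (t * x * t⁻¹)⁻¹ * x := by rw [h3]
      _ = ((x : MulAut V)⁻¹ * (t * x * t⁻¹))⁻¹ := by group
  intro a ha b hb
  have h1 := hinv _ (N.mul_mem ha hb)
  have h2 : t * (a * b) * t⁻¹ = (t * a * t⁻¹) * (t * b * t⁻¹) := by group
  rw [h2, hinv a ha, hinv b hb, ← mul_inv_rev, inv_inj] at h1
  exact h1.symm

open scoped Pointwise in
theorem mem_normalizer_of {X : Type*} [Group X] [Finite X] {A : Subgroup X} {t : X}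
    (h : ∀ x ∈ A, t * x * t⁻¹ ∈ A) : t ∈ normalizer (A : Set X) := by
  apply mem_normalizer_of_conj_smul_eq
  apply eq_of_le_of_card_ge
  · rintro _ ⟨x, hx, rfl⟩
    exact h x hx
  · have : Nat.card (MulAut.conj t • A : Subgroup X) = Nat.card A :=
      card_map_of_injective (MulAut.conj t).injective
    rw [this]

section quot

variable {G : Type*} [Group G]

/-- induced automorphism of an invariant subgroup -/
def res (σ : MulAut G) (V : Subgroup G) (h : V.map (σ : G ≃* G).toMonoidHom = V) : MulAut V :=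
  ((σ : G ≃* G).subgroupMap V).trans (MulEquiv.subgroupCongr h)

theorem res_apply (σ : MulAut G) (V : Subgroup G) (h : V.map (σ : G ≃* G).toMonoidHom = V) (v : V) :
    ((res σ V h v : V) : G) = σ v := rfl

theorem res_pow_apply (σ : MulAut G) (V : Subgroup G) (h : V.map (σ : G ≃* G).toMonoidHom = V) (n : ℕ) (v : V) :
    (((res σ V h) ^ n : MulAut V) v : G) = (σ ^ n) v := by
  induction n generalizing v with
  | zero => rfl
  | succ n ih =>
    rw [pow_succ, pow_succ, MulAut.mul_apply, MulAut.mul_apply, ih, res_apply]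

/-- induced automorphism of a quotient -/
def quo (σ : MulAut G) (V : Subgroup G) [V.Normal] (h : V.map (σ : G ≃* G).toMonoidHom = V) : MulAut (G ⧸ V) :=
  QuotientGroup.congr V V (σ : G ≃* G) h

theorem quo_mk (σ : MulAut G) (V : Subgroup G) [V.Normal] (h : V.map (σ : G ≃* G).toMonoidHom = V) (g : G) :
    quo σ V h (g : G ⧸ V) = ((σ g : G) : G ⧸ V) := rfl

theorem quo_pow_mk (σ : MulAut G) (V : Subgroup G) [V.Normal] (h : V.map (σ : G ≃* G).toMonoidHom = V) (n : ℕ) (g : G) :
    (quo σ V h ^ n) (g : G ⧸ V) = (((σ ^ n) g : G) : G ⧸ V) := by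
  induction n generalizing g with
  | zero => rfl
  | succ n ih => rw [pow_succ, pow_succ, MulAut.mul_apply, MulAut.mul_apply, quo_mk, ih]

theorem quo_fpf [Finite G] (σ : MulAut G) (V : Subgroup G) [V.Normal] (h : V.map (σ : G ≃* G).toMonoidHom = V)
    (hfpf : ∀ g, σ g = g → g = 1) : ∀ g, (σ g : G ⧸ V) = (g : G ⧸ V) → g ∈ V := by
  intro g hg
  have hσ : ∀ v ∈ V, σ v ∈ V := fun v hv => by
    have := mem_map_of_mem (σ : G ≃* G).toMonoidHom hv
    rwa [h] at this
  let c : V → V := fun x => ⟨(x : G)⁻¹ * σ x, V.mul_mem (V.inv_mem x.2) (hσ x x.2)⟩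
  have key : ∀ x y : G, x⁻¹ * σ x = y⁻¹ * σ y → x = y := by
    intro x y hxy
    have h1 : σ (y * x⁻¹) = y * x⁻¹ := by
      rw [map_mul, map_inv]
      calc σ y * (σ x)⁻¹ = y * (y⁻¹ * σ y) * (σ x)⁻¹ := by group
        _ = y * (x⁻¹ * σ x) * (σ x)⁻¹ := by rw [hxy]
        _ = y * x⁻¹ := by group
    exact (mul_inv_eq_one.1 (hfpf _ h1)).symm
  have hc : Function.Injective c := fun x y hxy => Subtype.ext (key x y (congrArg Subtype.val hxy))
  obtain ⟨v, hv⟩ := Finite.injective_iff_surjective.1 hc ⟨g⁻¹ * σ g, by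
    rw [← QuotientGroup.eq]; exact hg.symm⟩
  have h1 : (v : G)⁻¹ * σ v = g⁻¹ * σ g := congrArg Subtype.val hv
  rw [← key v g h1]
  exact v.2

end quot

theorem main : ∀ (n : ℕ) (G : Type*) [Group G] [Finite G], Nat.card G = n → Group.IsSolvable G →
    ∀ σ : MulAut G, σ ^ 4 = 1 → (∀ g, σ g = g → g = 1) → Group.IsNilpotent (commutator G) := by
  intro n
  induction n using Nat.strong_induction_on with
  | _ n ih =>
    intro G _ _ hn hsol σ h4 hfpf
    by_cases htriv : Subsingleton G
    · have h1 : Subsingleton (commutator G) := inferInstance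
      infer_instance
    have hnontriv := not_subsingleton_iff_nontrivial.1 htriv
    have hne : (⊤ : Subgroup G) ≠ ⊥ := top_ne_bot
    obtain ⟨V, hV⟩ := (Set.toFinite {U : Subgroup G | U.Normal ∧ U.map (σ : G ≃* G).toMonoidHom = U ∧ U ≠ ⊥}).exists_minimal
      ⟨⊤, inferInstance, map_top_of_surjective _ (σ : G ≃* G).surjective, hne⟩
    obtain ⟨hVn, hVσ, hVbot⟩ := hV.prop
    have hmin : ∀ U : Subgroup G, U.Normal → (∀ u ∈ U, σ u ∈ U) → U ≤ V → U = ⊥ ∨ U = V := by
      intro U hU hσU hUV
      by_contra hcon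
      push Not at hcon
      have h1 : U.map (σ : G ≃* G).toMonoidHom = U := by
        apply eq_of_le_of_card_ge
        · rintro _ ⟨u, hu, rfl⟩
          exact hσU u hu
        · rw [card_map_of_injective (σ : G ≃* G).injective]
      exact hcon.2 (le_antisymm hUV (hV.le_of_le ⟨hU, h1, hcon.1⟩ hUV))
    have hσV : ∀ v ∈ V, σ v ∈ V := fun v hv => by
      have := mem_map_of_mem (σ : G ≃* G).toMonoidHom hv
      rwa [hVσ] at this
    -- V is abelian
    have hVab : ⁅V, V⁆ = ⊥ := by
      have h1 : (⁅V, V⁆ : Subgroup G).Normal := inferInstance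
      have h2 : ⁅V, V⁆ ≤ V := commutator_le_of_normalizes le_normalizer
      have h3 : ∀ u ∈ ⁅V, V⁆, σ u ∈ ⁅V, V⁆ := by
        intro u hu
        have h4 := mem_map_of_mem (σ : G ≃* G).toMonoidHom hu
        rw [map_commutator, hVσ] at h4
        exact h4
      rcases hmin _ h1 h3 h2 with h | h
      · exact h
      · exfalso
        have hVs : Group.IsSolvable V := inferInstance
        have hnt : Nontrivial V := (nontrivial_iff_ne_bot V).2 hVbot
        have h4 := Group.IsSolvable.commutator_lt_top_of_nontrivial V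
        apply h4.ne
        rw [← map_subtype_commutator] at h
        have h5 : (commutator V).map V.subtype = (⊤ : Subgroup V).map V.subtype := by
          rw [h, ← MonoidHom.range_eq_map, range_subtype]
        exact map_injective V.subtype_injective h5
    have hVcomm : ∀ a ∈ V, ∀ b ∈ V, a * b = b * a := by
      intro a ha b hb
      have : ⁅a, b⁆ ∈ (⁅V, V⁆ : Subgroup G) := commutator_mem_commutator ha hb
      rw [hVab, mem_bot, commutatorElement_eq_one_iff_mul_comm] at this
      exact this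
    obtain ⟨r, hr, hrV⟩ : ∃ r : ℕ, r.Prime ∧ r ∣ Nat.card V := by
      refine Nat.exists_prime_and_dvd ?_
      intro h
      exact hVbot (Subgroup.card_eq_one.1 h)
    haveI : Fact r.Prime := ⟨hr⟩
    have hVr : ∀ v ∈ V, v ^ r = 1 := by
      let W : Subgroup G :=
        { carrier := {v | v ∈ V ∧ v ^ r = 1}
          mul_mem' := by
            rintro a b ⟨ha, ha'⟩ ⟨hb, hb'⟩
            refine ⟨V.mul_mem ha hb, ?_⟩
            rw [(show Commute a b from hVcomm a ha b hb).mul_pow, ha', hb', one_mul]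
          one_mem' := ⟨V.one_mem, one_pow r⟩
          inv_mem' := by
            rintro a ⟨ha, ha'⟩
            exact ⟨V.inv_mem ha, by rw [inv_pow, ha', inv_one]⟩ }
      have hWn : W.Normal := ⟨by
        rintro a ⟨ha, ha'⟩ g
        exact ⟨hVn.conj_mem a ha g, by rw [conj_pow, ha', mul_one, mul_inv_cancel]⟩⟩
      rcases hmin W hWn (fun u hu => ⟨hσV u hu.1, by rw [← map_pow, hu.2, map_one]⟩) (fun u hu => hu.1) with h | h
      · exfalso
        obtain ⟨x, hx⟩ := exists_prime_orderOf_dvd_card' (G := V) r hrV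
        have h1 : (x : G) ∈ W := ⟨x.2, by
          have := pow_orderOf_eq_one x
          rw [hx] at this
          exact congrArg Subtype.val this⟩
        rw [h, mem_bot] at h1
        have h2 : x = 1 := Subtype.ext h1
        rw [h2, orderOf_one] at hx
        exact hr.one_lt.ne hx
      · intro v hv
        rw [← h] at hv
        exact hv.2
    have hVp : IsPGroup r V := fun v => ⟨1, by rw [pow_one]; exact Subtype.ext (hVr v v.2)⟩
    letI : CommGroup V := { (inferInstance : Group V) with mul_comm := fun a b => Subtype.ext (hVcomm a a.2 b b.2) }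
    set t := res σ V hVσ with ht
    let φ : G →* MulAut V := MulAut.conjNormal
    have hφ : ∀ g (v : V), ((φ g v : V) : G) = g * v * g⁻¹ := fun g v => MulAut.conjNormal_apply g v
    have htφ : ∀ g, t * φ g = φ (σ g) * t := by
      intro g
      ext v
      rw [MulAut.mul_apply, MulAut.mul_apply, res_apply, hφ, hφ, res_apply, map_mul, map_mul, map_inv]
    have htφ' : ∀ g, t * φ g * t⁻¹ = φ (σ g) := by
      intro g; rw [htφ]; group
    have hker : ∀ g, φ g = 1 ↔ g ∈ centralizer (V : Set G) := by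
      intro g
      rw [mem_centralizer_iff]
      constructor
      · intro h v hv
        have h1 : ((φ g ⟨v, hv⟩ : V) : G) = v := by rw [h]; rfl
        rw [hφ] at h1
        calc v * g = (g * v * g⁻¹) * g := by rw [h1]
          _ = g * v := by group
      · intro h
        ext v
        rw [hφ, MulAut.one_apply, ← h v v.2]
        group
    have hN : ∀ a ∈ φ.range, ∀ b ∈ φ.range, a * b = b * a := by
      apply comm_of_irred (r := r) (t := t) hVp
      · ext v
        rw [res_pow_apply, h4]; rfl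
      · intro v hv
        have h1 : σ (v : G) = v := by rw [← res_apply σ V hVσ, ← ht, hv]
        exact Subtype.ext (hfpf _ h1)
      · have h1 : ∀ x ∈ φ.range, t * x * t⁻¹ ∈ φ.range := by
          rintro _ ⟨g, rfl⟩
          exact ⟨σ g, (htφ' g).symm⟩
        exact mem_normalizer_of h1
      · rw [eq_bot_iff]
        rintro _ ⟨⟨g, rfl⟩, hg⟩
        rw [mem_bot, hker]
        have h1 : φ g * t = t * φ g := mem_centralizer_singleton_iff.1 hg
        rw [htφ] at h1
        have h2 : φ g = φ (σ g) := mul_right_cancel h1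
        have hCn : (centralizer (V : Set G)).Normal := inferInstance
        have hCσ : (centralizer (V : Set G)).map (σ : G ≃* G).toMonoidHom = centralizer (V : Set G) := by
          apply eq_of_le_of_card_ge
          · rintro _ ⟨u, hu, rfl⟩
            apply (hker _).1
            have h3 := htφ' u
            rw [(hker u).2 hu, mul_one, mul_inv_cancel] at h3
            exact h3.symm
          · rw [card_map_of_injective (σ : G ≃* G).injective]
        apply quo_fpf σ _ hCσ hfpf g
        rw [eq_comm, QuotientGroup.eq, ← hker, map_mul, map_inv, h2, inv_mul_cancel]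
      · have : Group.IsSolvable φ.range := Group.isSolvable_of_surjective φ.rangeRestrict_surjective
        exact this
      · intro W hW1 hW2
        have h1 : (W.map V.subtype).Normal := ⟨by
          rintro _ ⟨w, hw, rfl⟩ g
          exact ⟨φ g w, hW1 _ ⟨g, rfl⟩ w hw, hφ g w⟩⟩
        rcases hmin _ h1 (by
          rintro _ ⟨w, hw, rfl⟩
          exact ⟨t w, hW2 w hw, rfl⟩) (map_subtype_le _) with h | h
        · left
          exact (map_eq_bot_iff_of_injective _ V.subtype_injective).1 h
        · right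
          apply map_injective V.subtype_injective
          rw [h, ← MonoidHom.range_eq_map, range_subtype]
    -- the commutator subgroup centralizes V
    have hcV : commutator G ≤ centralizer (V : Set G) := by
      rw [commutator_def, commutator_le]
      intro a _ b _
      rw [← hker, map_commutatorElement, commutatorElement_eq_one_iff_mul_comm]
      exact hN _ ⟨a, rfl⟩ _ ⟨b, rfl⟩
    -- induction
    have hcard : Nat.card (G ⧸ V) < n := by
      rw [← hn, Subgroup.card_eq_card_quotient_mul_card_subgroup V]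
      have h1 : 1 < Nat.card V := by
        rcases Nat.lt_or_ge 1 (Nat.card V) with h | h
        · exact h
        · exfalso
          apply hVbot
          exact Subgroup.card_eq_one.1 (le_antisymm h Nat.card_pos)
      exact lt_mul_of_one_lt_right Nat.card_pos h1
    have hnq := ih _ hcard (G ⧸ V) rfl inferInstance (quo σ V hVσ) (by
      ext x
      obtain ⟨g, rfl⟩ := QuotientGroup.mk_surjective x
      rw [quo_pow_mk, h4]; rfl) (by
      intro x hx
      obtain ⟨g, rfl⟩ := QuotientGroup.mk_surjective x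
      rw [QuotientGroup.eq_one_iff]
      exact quo_fpf σ V hVσ hfpf g hx)
    -- the restriction G' → (G/V)'
    let f : commutator G →* commutator (G ⧸ V) :=
      (((QuotientGroup.mk' V).comp (commutator G).subtype).codRestrict (commutator (G ⧸ V)) (by
        intro x
        have h1 : (commutator G).map (QuotientGroup.mk' V) ≤ commutator (G ⧸ V) := by
          rw [commutator_def, commutator_def, map_commutator]
          exact commutator_mono le_top le_top
        exact h1 (mem_map_of_mem _ x.2)))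
    have hfk : f.ker ≤ center (commutator G) := by
      intro x hx
      have h1 : QuotientGroup.mk' V (x : G) = 1 := congrArg Subtype.val hx
      have h2 : (x : G) ∈ V := by
        rwa [QuotientGroup.mk'_apply, QuotientGroup.eq_one_iff] at h1
      rw [mem_center_iff]
      intro y
      exact Subtype.ext (mem_centralizer_iff.1 (hcV y.2) _ h2).symm
    exact _root_.isNilpotent_of_ker_le_center f hfk

end Cfsg.Agent.H2.FpfFour
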