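import Mathlib
set_option autoImplicit false

namespace Cfsg.Agent.H2.MetacNT

section NT
variable {p : ℕ} [hp : Fact p.Prime]

theorem val_pow_sub_one (hp2 : p ≠ 2) {d u : ℕ} (hd : 0 < d) (hu : ¬ p ∣ u) {j : ℕ} (hj : j ≠ 0) :
    padicValNat p ((1 + p ^ d * u) ^ j - 1) = d + padicValNat p j := by
  have hodd : Odd p := hp.out.odd_of_ne_two hp2
  have hu0 : u ≠ 0 := fun h => hu (h ▸ dvd_zero p)
  have hpd : p ^ d ≠ 0 := pow_ne_zero _ hp.out.ne_zero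
  have h1 : (1 : ℕ) < 1 + p ^ d * u := by
    have : 0 < p ^ d * u := Nat.pos_of_ne_zero (mul_ne_zero hpd hu0)
    omega
  have h2 : p ∣ (1 + p ^ d * u) - 1 := by
    rw [Nat.add_sub_cancel_left]
    exact Dvd.dvd.mul_right (dvd_pow_self p hd.ne') _
  have h3 : ¬ p ∣ (1 + p ^ d * u) := by
    intro h
    have h4 : p ∣ p ^ d * u := Dvd.dvd.mul_right (dvd_pow_self p hd.ne') _
    have h5 := (Nat.dvd_add_left h4).mp h
    exact hp.out.one_lt.ne' (Nat.dvd_one.mp h5)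
  have h6 := padicValNat.pow_sub_pow hodd h1 h2 h3 hj
  rw [one_pow, Nat.add_sub_cancel_left, padicValNat.mul hpd hu0, padicValNat.prime_pow,
    padicValNat.eq_zero_of_not_dvd hu, add_zero] at h6
  exact h6

theorem pow_gt_one {d u : ℕ} (hu : ¬ p ∣ u) {j : ℕ} (hj : j ≠ 0) :
    1 < (1 + p ^ d * u) ^ j := by
  have hu0 : u ≠ 0 := fun h => hu (h ▸ dvd_zero p)
  have hpd : p ^ d ≠ 0 := pow_ne_zero _ hp.out.ne_zero
  apply Nat.one_lt_pow hj
  have : 0 < p ^ d * u := Nat.pos_of_ne_zero (mul_ne_zero hpd hu0)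
  omega

/-- `p^e ∣ i (R^j - 1) ↔ p^e ∣ i p^d j` -/
theorem dvd_mul_pow_sub_one_iff (hp2 : p ≠ 2) {d u : ℕ} (hd : 0 < d) (hu : ¬ p ∣ u) (e i j : ℕ) :
    p ^ e ∣ i * ((1 + p ^ d * u) ^ j - 1) ↔ p ^ e ∣ i * (p ^ d * j) := by
  rcases Nat.eq_zero_or_pos i with rfl | hi
  · simp
  rcases Nat.eq_zero_or_pos j with rfl | hj
  · simp
  have hR := pow_gt_one (p := p) (d := d) hu hj.ne'
  have hR0 : (1 + p ^ d * u) ^ j - 1 ≠ 0 := by omega
  have hpd : p ^ d ≠ 0 := pow_ne_zero _ hp.out.ne_zero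
  rw [padicValNat_dvd_iff_le (mul_ne_zero hi.ne' hR0),
    padicValNat_dvd_iff_le (mul_ne_zero hi.ne' (mul_ne_zero hpd hj.ne')),
    padicValNat.mul hi.ne' hR0, padicValNat.mul hi.ne' (mul_ne_zero hpd hj.ne'),
    padicValNat.mul hpd hj.ne', padicValNat.prime_pow, val_pow_sub_one hp2 hd hu hj.ne']

/-- `p^e ∣ i (1 + R^j + ... + R^{j(k-1)}) ↔ p^e ∣ i k` -/
theorem dvd_mul_geom_iff (hp2 : p ≠ 2) {d u : ℕ} (hd : 0 < d) (hu : ¬ p ∣ u) (e i j k : ℕ) :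
    p ^ e ∣ i * (∑ l ∈ Finset.range k, ((1 + p ^ d * u) ^ j) ^ l) ↔ p ^ e ∣ i * k := by
  rcases Nat.eq_zero_or_pos i with rfl | hi
  · simp
  rcases Nat.eq_zero_or_pos k with rfl | hk
  · simp
  rcases Nat.eq_zero_or_pos j with rfl | hj
  · simp
  have hR := pow_gt_one (p := p) (d := d) hu hj.ne'
  have hR0 : (1 + p ^ d * u) ^ j - 1 ≠ 0 := by omega
  have hgeom : (∑ l ∈ Finset.range k, ((1 + p ^ d * u) ^ j) ^ l) * ((1 + p ^ d * u) ^ j - 1) =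
      (1 + p ^ d * u) ^ (j * k) - 1 := by
    have h1 := Nat.geomSum_eq hR k
    have h2 : (∑ l ∈ Finset.range k, ((1 + p ^ d * u) ^ j) ^ l) * ((1 + p ^ d * u) ^ j - 1) =
      ((1 + p ^ d * u) ^ j) ^ k - 1 := by
      have h3 : ((∑ l ∈ Finset.range k, ((1 + p ^ d * u) ^ j) ^ l : ℕ) : ℤ) *
          (((1 + p ^ d * u) ^ j : ℕ) - 1) = (((1 + p ^ d * u) ^ j : ℕ) : ℤ) ^ k - 1 := by
        rw [← geom_sum_mul]; push_cast; rfl
      have h4 : 1 ≤ (1 + p ^ d * u) ^ j := hR.le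
      have h5 : 1 ≤ ((1 + p ^ d * u) ^ j) ^ k := Nat.one_le_pow _ _ (by omega)
      zify [h4, h5]
      push_cast at h3 ⊢
      exact h3
    rw [h2, pow_mul]
  have hS0 : (∑ l ∈ Finset.range k, ((1 + p ^ d * u) ^ j) ^ l) ≠ 0 := by
    intro h
    rw [h, zero_mul] at hgeom
    have := pow_gt_one (p := p) (d := d) hu (mul_ne_zero hj.ne' hk.ne')
    omega
  have hval : padicValNat p (∑ l ∈ Finset.range k, ((1 + p ^ d * u) ^ j) ^ l) = padicValNat p k := by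
    have h1 := congrArg (padicValNat p) hgeom
    rw [padicValNat.mul hS0 hR0, val_pow_sub_one hp2 hd hu hj.ne',
      val_pow_sub_one hp2 hd hu (mul_ne_zero hj.ne' hk.ne'), padicValNat.mul hj.ne' hk.ne'] at h1
    omega
  rw [padicValNat_dvd_iff_le (mul_ne_zero hi.ne' hS0), padicValNat_dvd_iff_le
    (mul_ne_zero hi.ne' hk.ne'), padicValNat.mul hi.ne' hS0, padicValNat.mul hi.ne' hk.ne', hval]

end NT

end Cfsg.Agent.H2.MetacNT
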