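import Mathlib
import Cfsg.Agent.Lib.SchurMult
set_option autoImplicit false

open scoped commutatorElement
open Cfsg.Agent.Lib.SchurMult

namespace Cfsg.Agent.H2.SchurMeta

universe u v w

/-- the commutator subgroup is contained in a normal subgroup containing the commutators of
generators -/
theorem commutator_le_of_gen {Γ : Type*} [Group Γ] {S : Set Γ} (hS : Subgroup.closure S = ⊤)
    (N : Subgroup Γ) [N.Normal] (h : ∀ a ∈ S, ∀ b ∈ S, ⁅a, b⁆ ∈ N) : commutator Γ ≤ N := by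
  have h1 : ∀ x y : Γ ⧸ N, x * y = y * x := by
    have hgen : Subgroup.closure (QuotientGroup.mk' N '' S) = ⊤ := by
      rw [← MonoidHom.map_closure, hS, Subgroup.map_top_of_surjective _
        (QuotientGroup.mk'_surjective N)]
    have hc : ∀ x ∈ (QuotientGroup.mk' N '' S), ∀ y ∈ (QuotientGroup.mk' N '' S),
        x * y = y * x := by
      rintro _ ⟨a, ha, rfl⟩ _ ⟨b, hb, rfl⟩
      have := h a ha b hb
      rw [← commutatorElement_eq_one_iff_mul_comm, ← map_commutatorElement]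
      exact (QuotientGroup.eq_one_iff _).mpr this
    intro x y
    have hx : x ∈ Subgroup.closure (QuotientGroup.mk' N '' S) := by rw [hgen]; trivial
    have hy : y ∈ Subgroup.closure (QuotientGroup.mk' N '' S) := by rw [hgen]; trivial
    have h3 := @Subgroup.isMulCommutative_closure _ _ _ hc
    exact congrArg Subtype.val (h3.is_comm.comm ⟨x, hx⟩ ⟨y, hy⟩)
  rw [commutator_def, Subgroup.commutator_le]
  intro a _ b _
  rw [← QuotientGroup.eq_one_iff]
  change (QuotientGroup.mk' N) ⁅a, b⁆ = 1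
  rw [map_commutatorElement, commutatorElement_eq_one_iff_mul_comm]
  exact h1 _ _

theorem closure_union_ker {Γ G : Type*} [Group Γ] [Group G] (σ : Γ →* G) (S : Set Γ)
    (h : Subgroup.closure (σ '' S) = ⊤) : Subgroup.closure (S ∪ σ.ker) = ⊤ := by
  rw [eq_top_iff]
  intro x _
  have h1 : σ x ∈ Subgroup.closure (σ '' S) := by rw [h]; trivial
  rw [← MonoidHom.map_closure] at h1
  obtain ⟨y, hy, hyx⟩ := h1
  have h2 : y⁻¹ * x ∈ σ.ker := by rw [MonoidHom.mem_ker, map_mul, map_inv, hyx, inv_mul_cancel]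
  have h3 : y ∈ Subgroup.closure (S ∪ σ.ker) := Subgroup.closure_mono Set.subset_union_left hy
  have h4 : y⁻¹ * x ∈ Subgroup.closure (S ∪ σ.ker) :=
    Subgroup.subset_closure (Set.mem_union_right _ h2)
  have := mul_mem h3 h4
  rwa [mul_inv_cancel_left] at this

theorem card_commutator_stem {Γ G : Type*} [Group Γ] [Group G] [Finite Γ] (σ : Γ →* G)
    (hσ : Cfsg.IsStemExtension σ) :
    Nat.card (commutator Γ) = Nat.card σ.ker * Nat.card (commutator G) := by
  have h0 : (commutator Γ).map σ = commutator G := by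
    rw [commutator_def, commutator_def, Subgroup.map_commutator,
      Subgroup.map_top_of_surjective _ hσ.1]
  let f : commutator Γ →* G := σ.comp (commutator Γ).subtype
  have h1 : f.range = commutator G := by
    rw [← h0]
    ext x
    constructor
    · rintro ⟨y, rfl⟩
      exact ⟨y, y.2, rfl⟩
    · rintro ⟨y, hy, rfl⟩
      exact ⟨⟨y, hy⟩, rfl⟩
  have h2 : Nat.card f.ker = Nat.card σ.ker := by
    apply Nat.card_congr
    exact
      { toFun := fun x => ⟨x.1.1, x.2⟩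
        invFun := fun x => ⟨⟨x.1, hσ.2.2 x.2⟩, x.2⟩
        left_inv := fun x => rfl
        right_inv := fun x => rfl }
  have h3 := f.ker.card_mul_index
  rw [Subgroup.index_ker, h1, h2] at h3
  exact h3.symm

/-- key: a finite central extension `Γ` of a group `⟨a,b⟩` with `b a b⁻¹ = a ^ r` -/
theorem commutator_eq_zpowers {Γ G : Type*} [Group Γ] [Group G] [Finite Γ] (σ : Γ →* G)
    (hc : σ.ker ≤ Subgroup.center Γ) (A B : Γ) (hgen : Subgroup.closure {σ A, σ B} = ⊤)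
    (r : ℤ) (hr : σ (B * A * B⁻¹) = σ (A ^ r)) :
    (commutator Γ = Subgroup.zpowers ⁅B, A⁆) ∧ A * ⁅B, A⁆ = ⁅B, A⁆ * A ∧
      B * ⁅B, A⁆ * B⁻¹ = ⁅B, A⁆ ^ r := by
  obtain ⟨z, hz, hz'⟩ : ∃ z ∈ σ.ker, B * A * B⁻¹ = A ^ r * z := by
    refine ⟨(A ^ r)⁻¹ * (B * A * B⁻¹), ?_, by rw [mul_inv_cancel_left]⟩
    rw [MonoidHom.mem_ker, map_mul, map_inv, hr, inv_mul_cancel]
  have hzc : ∀ x : Γ, x * z = z * x := fun x => Subgroup.mem_center_iff.mp (hc hz) x
  have hcz : ∀ x : Γ, Commute z x := fun x => (hzc x).symm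
  have h1 : ⁅B, A⁆ = A ^ (r - 1) * z := by
    rw [commutatorElement_def, hz', mul_assoc, ← hzc A⁻¹, ← mul_assoc, zpow_sub_one]
  have hAc : Commute A ⁅B, A⁆ := by
    rw [h1]
    exact ((Commute.refl A).zpow_right _).mul_right (hcz A).symm
  have hBc : B * ⁅B, A⁆ * B⁻¹ = ⁅B, A⁆ ^ r := by
    have e1 : B * ⁅B, A⁆ * B⁻¹ = (B * A * B⁻¹) ^ (r - 1) * z := by
      rw [h1, conj_zpow]
      have : B * (A ^ (r - 1) * z) * B⁻¹ = B * A ^ (r - 1) * (z * B⁻¹) := by group
      rw [this, ← hzc B⁻¹]; group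
    have e2 : (A ^ r * z) ^ (r - 1) = (A ^ r) ^ (r - 1) * z ^ (r - 1) :=
      ((hcz (A ^ r)).symm).mul_zpow _
    have e3 : (A ^ (r - 1) * z) ^ r = (A ^ (r - 1)) ^ r * z ^ r :=
      ((hcz (A ^ (r - 1))).symm).mul_zpow _
    rw [e1, hz', h1, e2, e3, ← zpow_mul, ← zpow_mul, mul_assoc, ← zpow_add_one, sub_add_cancel,
      mul_comm r (r - 1)]
  refine ⟨?_, hAc, hBc⟩
  -- normality
  have hle : ∀ x : Γ, (∃ k : ℤ, x * ⁅B, A⁆ * x⁻¹ = ⁅B, A⁆ ^ k) →
      x ∈ Subgroup.normalizer (Subgroup.zpowers ⁅B, A⁆ : Set Γ) := by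
    rintro x ⟨k, hk⟩
    have hmap : (Subgroup.zpowers ⁅B, A⁆).map (MulAut.conj x).toMonoidHom ≤
        Subgroup.zpowers ⁅B, A⁆ := by
      rw [MonoidHom.map_zpowers, Subgroup.zpowers_le]
      exact ⟨k, hk.symm⟩
    have heq : (Subgroup.zpowers ⁅B, A⁆).map (MulAut.conj x).toMonoidHom =
        Subgroup.zpowers ⁅B, A⁆ := by
      apply Subgroup.eq_of_le_of_card_ge hmap
      rw [Subgroup.card_map_of_injective (MulAut.conj x).injective]
    rw [Subgroup.mem_normalizer_iff]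
    intro h
    constructor
    · intro hh
      exact hmap ⟨h, hh, rfl⟩
    · intro hh
      change x * h * x⁻¹ ∈ Subgroup.zpowers ⁅B, A⁆ at hh
      rw [← heq] at hh
      obtain ⟨y, hy, hyx⟩ := hh
      have : y = h := (MulAut.conj x).injective hyx
      rwa [← this]
  have hgen' : Subgroup.closure (({A, B} : Set Γ) ∪ (σ.ker : Set Γ)) = ⊤ := by
    apply closure_union_ker
    rw [Set.image_pair]; exact hgen
  have hnorm : (Subgroup.zpowers ⁅B, A⁆).Normal := by
    rw [← Subgroup.normalizer_eq_top_iff, eq_top_iff, ← hgen', Subgroup.closure_le]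
    rintro x (hx | hx)
    · rcases hx with rfl | rfl
      · exact hle _ ⟨1, by rw [hAc.eq]; group⟩
      · exact hle _ ⟨r, hBc⟩
    · refine hle _ ⟨1, ?_⟩
      rw [← Subgroup.mem_center_iff.mp (hc hx) ⁅B, A⁆]; group
  apply le_antisymm
  · apply commutator_le_of_gen hgen'
    intro a ha b hb
    have hcen : ∀ x ∈ σ.ker, ∀ y : Γ, ⁅x, y⁆ = 1 ∧ ⁅y, x⁆ = 1 := by
      intro x hx y
      rw [commutatorElement_eq_one_iff_mul_comm, commutatorElement_eq_one_iff_mul_comm]
      exact ⟨(Subgroup.mem_center_iff.mp (hc hx) y).symm, Subgroup.mem_center_iff.mp (hc hx) y⟩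
    rcases ha with ha | ha
    · rcases hb with hb | hb
      · have hAB : ⁅A, B⁆ ∈ Subgroup.zpowers ⁅B, A⁆ := by
          rw [← commutatorElement_inv B A]; exact inv_mem (Subgroup.mem_zpowers _)
        have hBA : ⁅B, A⁆ ∈ Subgroup.zpowers ⁅B, A⁆ := Subgroup.mem_zpowers _
        rcases ha with ha | ha <;> rcases hb with hb | hb <;> rw [ha, hb]
        · rw [commutatorElement_self]; exact one_mem _
        · exact hAB
        · exact hBA
        · rw [commutatorElement_self]; exact one_mem _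
      · rw [(hcen b hb a).2]; exact one_mem _
    · rw [(hcen a ha b).1]; exact one_mem _
  · rw [Subgroup.zpowers_le]
    exact Subgroup.commutator_mem_commutator (Subgroup.mem_top _) (Subgroup.mem_top _)

/-- `⁅B, A^k⁆ = ⁅B,A⁆^k` when `A` commutes with `⁅B,A⁆` -/
theorem comm_zpow_right {Γ : Type*} [Group Γ] {A B : Γ} (h : A * ⁅B, A⁆ = ⁅B, A⁆ * A) (k : ℤ) :
    ⁅B, A ^ k⁆ = ⁅B, A⁆ ^ k := by
  have h1 : B * A * B⁻¹ = ⁅B, A⁆ * A := by rw [commutatorElement_def]; group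
  have h2 : Commute ⁅B, A⁆ A := h.symm
  rw [commutatorElement_def B (A ^ k), ← conj_zpow, h1, h2.mul_zpow]
  group

theorem comm_pow_left {Γ : Type*} [Group Γ] {A B : Γ} (r : ℤ)
    (hB : B * ⁅B, A⁆ * B⁻¹ = ⁅B, A⁆ ^ r) (n : ℕ) :
    ⁅B ^ n, A⁆ = ⁅B, A⁆ ^ (∑ i ∈ Finset.range n, r ^ i) := by
  have h1 : ∀ k : ℤ, B * (⁅B, A⁆ ^ k) * B⁻¹ = ⁅B, A⁆ ^ (r * k) := by
    intro k
    rw [← conj_zpow, hB, zpow_mul]
  induction n with
  | zero => simp
  | succ n ih =>
    have h2 : ⁅B ^ (n + 1), A⁆ = (B * ⁅B ^ n, A⁆ * B⁻¹) * ⁅B, A⁆ := by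
      rw [pow_succ']; simp only [commutatorElement_def]; group
    rw [h2, ih, h1, ← zpow_add_one, Finset.mul_sum, Finset.sum_range_succ']
    simp only [pow_zero, pow_succ']

end Cfsg.Agent.H2.SchurMeta
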