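import Mathlib
import Cfsg.Agent.H2.MetacNT
import Cfsg.Agent.H2.SchurMeta
import Cfsg.Prelude.Def_OddOrderLocal
set_option autoImplicit false

open scoped commutatorElement
open Cfsg.Agent.H2.MetacNT

namespace Cfsg.Agent.H2.Metac

section Gen
variable {G : Type*} [Group G] {p : ℕ} [hp : Fact p.Prime]

/-- the exponents of `g` landing in `H` -/
theorem exists_exp (H : Subgroup G) (g : G) (N : ℕ) (hN : g ^ (p ^ N) ∈ H) :
    ∃ α ≤ N, ∀ j : ℕ, g ^ j ∈ H ↔ p ^ α ∣ j := by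
  classical
  have hex : ∃ e : ℕ, 0 < e ∧ g ^ e ∈ H := ⟨p ^ N, pow_pos hp.out.pos _, hN⟩
  let e := Nat.find hex
  obtain ⟨he0, heH⟩ : 0 < e ∧ g ^ e ∈ H := Nat.find_spec hex
  have hmin : ∀ j : ℕ, g ^ j ∈ H → e ∣ j := by
    intro j hj
    rw [Nat.dvd_iff_mod_eq_zero]
    by_contra hne
    have h1 : g ^ (j % e) ∈ H := by
      have h2 : g ^ j = (g ^ e) ^ (j / e) * g ^ (j % e) := by
        rw [← pow_mul, ← pow_add, Nat.div_add_mod]
      rw [h2] at hj
      exact (Subgroup.mul_mem_cancel_left H (pow_mem heH _)).mp hj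
    have h3 := Nat.find_min' hex ⟨Nat.pos_of_ne_zero hne, h1⟩
    have h4 := Nat.mod_lt j he0
    omega
  have hdvd : e ∣ p ^ N := hmin _ hN
  obtain ⟨α, hα, heα⟩ := (Nat.dvd_prime_pow hp.out).mp hdvd
  refine ⟨α, hα, fun j => ?_⟩
  rw [← heα]
  constructor
  · exact hmin j
  · rintro ⟨k, rfl⟩
    rw [pow_mul]
    exact pow_mem heH _

/-- in a finite `p`-group, `x ^ (p ^ e) ∈ H` as soon as `|G : H| ≤ p ^ e` -/
theorem pow_mem_of_index_le [Finite G] (hG : IsPGroup p G) (H : Subgroup G) (e : ℕ)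
    (hH : H.index ≤ p ^ e) (x : G) : x ^ (p ^ e) ∈ H := by
  obtain ⟨N, hN⟩ := hG x
  obtain ⟨α, -, hα⟩ := exists_exp (p := p) H x N (by rw [hN]; exact one_mem _)
  rw [hα]
  apply Nat.pow_dvd_pow
  -- the cosets x^j H, j < p^α, are distinct
  have hinj : Function.Injective (fun j : Fin (p ^ α) => (QuotientGroup.mk (x ^ (j : ℕ)) : G ⧸ H)) := by
    intro i j hij
    simp only at hij
    rw [QuotientGroup.eq] at hij
    have key : ∀ i j : Fin (p ^ α), i ≤ j → (x ^ (i : ℕ))⁻¹ * x ^ (j : ℕ) ∈ H → i = j := by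
      intro i j hle h
      have h1 : (x ^ (i : ℕ))⁻¹ * x ^ (j : ℕ) = x ^ ((j : ℕ) - i) := by
        rw [inv_mul_eq_iff_eq_mul, ← pow_add, Nat.add_sub_cancel' hle]
      rw [h1, hα] at h
      have h2 := Nat.eq_zero_of_dvd_of_lt h (by omega)
      apply Fin.ext
      have : (i : ℕ) ≤ j := hle
      omega
    rcases le_total i j with h | h
    · exact key i j h hij
    · refine (key j i h ?_).symm
      have := inv_mem hij
      rwa [mul_inv_rev, inv_inv] at this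
  have h1 := Nat.card_le_card_of_injective _ hinj
  rw [Nat.card_fin] at h1
  have h2 : p ^ α ≤ p ^ e := h1.trans hH
  exact (Nat.pow_le_pow_iff_right hp.out.one_lt).mp h2

/-- the exponent of the action on a normalized cyclic `p`-subgroup -/
theorem exists_conj_exp [Finite G] (hG : IsPGroup p G) (w y : G)
    (h : y * w * y⁻¹ ∈ Subgroup.zpowers w) :
    ∃ R : ℕ, y * w * y⁻¹ = w ^ R ∧ R ≡ 1 [MOD p] := by
  by_cases hw : w = 1
  · exact ⟨1, by rw [hw]; simp, Nat.ModEq.refl 1⟩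
  obtain ⟨R, hR⟩ := (isOfFinOrder_of_finite w).mem_powers_iff_mem_zpowers.mpr h
  have hR' : y * w * y⁻¹ = w ^ R := hR.symm
  refine ⟨R, hR', ?_⟩
  obtain ⟨k, hk⟩ := hG y
  have h1 : ∀ j : ℕ, y ^ j * w * (y ^ j)⁻¹ = w ^ (R ^ j) := by
    intro j
    induction j with
    | zero => simp
    | succ j ih =>
      have h2 : y ^ (j + 1) * w * (y ^ (j + 1))⁻¹ = y * (y ^ j * w * (y ^ j)⁻¹) * y⁻¹ := by
        rw [pow_succ']; group
      rw [h2, ih, ← conj_pow, hR', ← pow_mul, pow_succ']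
  have h2 := h1 (p ^ k)
  rw [hk] at h2
  simp only [one_mul, inv_one, mul_one] at h2
  -- w = w^(R^(p^k))
  obtain ⟨e, he⟩ := (IsPGroup.iff_orderOf.mp hG) w
  have he0 : e ≠ 0 := by
    rintro rfl
    rw [pow_zero, orderOf_eq_one_iff] at he
    exact hw he
  have h3 : R ^ (p ^ k) ≡ 1 [MOD orderOf w] := by
    rw [← pow_eq_pow_iff_modEq, pow_one]; exact h2.symm
  rw [he] at h3
  have h4 : R ^ (p ^ k) ≡ 1 [MOD p] := h3.of_dvd (dvd_pow_self p he0)
  rw [← ZMod.natCast_eq_natCast_iff] at h4 ⊢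
  push_cast at h4 ⊢
  rwa [ZMod.pow_card_pow] at h4

end Gen

/-- explicit data for a metacyclic `p`-group -/
structure MCData (p : ℕ) (G : Type*) [Group G] where
  a : G
  b : G
  m : ℕ
  n : ℕ
  d : ℕ
  u : ℕ
  hd : 0 < d
  hu : ¬ p ∣ u
  ha : orderOf a = p ^ m
  hrel : b * a * b⁻¹ = a ^ (1 + p ^ d * u)
  hgen : ∀ g : G, ∃ i j : ℕ, g = a ^ i * b ^ j
  hnorm : (Subgroup.zpowers a).Normal
  hb : ∀ j : ℕ, b ^ j ∈ Subgroup.zpowers a ↔ p ^ n ∣ j

theorem exists_mcData {G : Type*} [Group G] [Finite G] {p : ℕ} [hp : Fact p.Prime]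
    (hG : IsPGroup p G) (hmc : Cfsg.IsMetacyclic G) : Nonempty (MCData p G) := by
  obtain ⟨N, hN, hNc, hQc⟩ := hmc
  obtain ⟨⟨a, haN⟩, ha⟩ := hNc.exists_generator
  obtain ⟨q, hq⟩ := hQc.exists_generator
  obtain ⟨b, rfl⟩ := QuotientGroup.mk_surjective q
  have hNa : N = Subgroup.zpowers a := by
    apply le_antisymm
    · intro x hx
      obtain ⟨k, hk⟩ := ha ⟨x, hx⟩
      exact ⟨k, congrArg Subtype.val hk⟩
    · rw [Subgroup.zpowers_le]; exact haN
  subst hNa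
  obtain ⟨m, hm⟩ := (IsPGroup.iff_orderOf.mp hG) a
  obtain ⟨M, hM⟩ := hG b
  obtain ⟨n, -, hn⟩ := exists_exp (p := p) (Subgroup.zpowers a) b M (by rw [hM]; exact one_mem _)
  obtain ⟨R, hR, hR1⟩ := exists_conj_exp hG a b (hN.conj_mem a (Subgroup.mem_zpowers a) b)
  have hgen : ∀ g : G, ∃ i j : ℕ, g = a ^ i * b ^ j := by
    intro g
    obtain ⟨j, hj⟩ := (isOfFinOrder_of_finite _).mem_powers_iff_mem_zpowers.mpr
      (hq (QuotientGroup.mk g))
    have hj' : (QuotientGroup.mk (b ^ j) : G ⧸ Subgroup.zpowers a) = QuotientGroup.mk g := hj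
    have h1 : g * (b ^ j)⁻¹ ∈ Subgroup.zpowers a := by
      rw [← QuotientGroup.eq_one_iff, QuotientGroup.mk_mul, QuotientGroup.mk_inv, hj',
        mul_inv_cancel]
    obtain ⟨i, hi⟩ := (isOfFinOrder_of_finite a).mem_powers_iff_mem_zpowers.mpr h1
    refine ⟨i, j, ?_⟩
    have hi' : a ^ i = g * (b ^ j)⁻¹ := hi
    rw [hi', inv_mul_cancel_right]
  by_cases htriv : b * a * b⁻¹ = a
  · refine ⟨⟨a, b, m, n, m + 1, 1, Nat.succ_pos _, ?_, hm, ?_, hgen, hN, hn⟩⟩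
    · intro h; exact hp.out.one_lt.ne' (Nat.dvd_one.mp h)
    · rw [htriv, mul_one, pow_add, pow_one, pow_succ, pow_mul, ← hm, pow_orderOf_eq_one, one_pow,
        mul_one]
  · have hR0 : R ≠ 0 := by
      rintro rfl
      have h2 : p ∣ 1 := (Nat.modEq_zero_iff_dvd).mp hR1.symm
      exact hp.out.one_lt.ne' (Nat.dvd_one.mp h2)
    have hR1' : R - 1 ≠ 0 := by
      intro h
      have : R = 1 := by omega
      rw [this, pow_one] at hR
      exact htriv hR
    obtain ⟨d, u, hu, hdu⟩ := Nat.exists_eq_pow_mul_and_not_dvd hR1' p hp.out.ne_one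
    have hpd : p ∣ R - 1 := (Nat.modEq_iff_dvd' (by omega)).mp hR1.symm
    refine ⟨⟨a, b, m, n, d, u, ?_, hu, hm, ?_, hgen, hN, hn⟩⟩
    · rcases Nat.eq_zero_or_pos d with rfl | h
      · rw [pow_zero, one_mul] at hdu
        rw [hdu] at hpd
        exact absurd hpd hu
      · exact h
    · rw [← hdu, hR]
      congr 1
      omega

end Cfsg.Agent.H2.Metac
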