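import Mathlib
import Cfsg.Agent.H2.Metac
set_option autoImplicit false

open scoped commutatorElement
open Cfsg.Agent.H2.MetacNT Cfsg.Agent.H2.Metac

namespace Cfsg.Agent.H2.MetacB

theorem card_eq_inf_mul_map {G : Type*} [Group G] {H : Type*} [Group H] (f : G →* H) (L : Subgroup G) :
    Nat.card L = Nat.card ↥(f.ker ⊓ L) * Nat.card (L.map f) := by
  rw [← Subgroup.relIndex_ker, ← (f.ker.subgroupOf L).card_mul_index]
  congr 1
  rw [← Subgroup.inf_subgroupOf_right]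
  exact Nat.card_congr (Subgroup.subgroupOfEquivOfLe inf_le_right).toEquiv

set_option linter.unusedSectionVars false
variable {G : Type*} [Group G] {p : ℕ} [hp : Fact p.Prime] (D : MCData p G)
include D

/-- `c = m - d`, so that `|G'| = p^c` -/
abbrev cc : ℕ := D.m - D.d

/-- the twisting exponent -/
abbrev RR : ℕ := 1 + p ^ D.d * D.u

theorem a_pow_eq_one_iff (i : ℕ) : D.a ^ i = 1 ↔ p ^ D.m ∣ i := by
  rw [← D.ha, orderOf_dvd_iff_pow_eq_one]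

theorem conj_pow_a (i j : ℕ) : D.b ^ j * D.a ^ i * (D.b ^ j)⁻¹ = D.a ^ (i * RR D ^ j) := by
  have h1 : ∀ j : ℕ, D.b ^ j * D.a * (D.b ^ j)⁻¹ = D.a ^ (RR D ^ j) := by
    intro j
    induction j with
    | zero => simp
    | succ j ih =>
      have h2 : D.b ^ (j + 1) * D.a * (D.b ^ (j + 1))⁻¹ =
          D.b * (D.b ^ j * D.a * (D.b ^ j)⁻¹) * D.b⁻¹ := by
        rw [pow_succ']; group
      rw [h2, ih, ← conj_pow, D.hrel, ← pow_mul, pow_succ']
  rw [← conj_pow, h1, ← pow_mul, mul_comm]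

/-- commutator with a power -/
theorem comm_b_a (i j : ℕ) : ⁅D.b ^ j, D.a ^ i⁆ = D.a ^ (i * (RR D ^ j - 1)) := by
  have h1 : 1 ≤ RR D ^ j := Nat.one_le_pow _ _ (by unfold RR; omega)
  rw [commutatorElement_def, conj_pow_a, mul_inv_eq_iff_eq_mul, ← pow_add]
  congr 1
  rw [Nat.mul_sub_one, Nat.sub_add_cancel]
  exact Nat.le_mul_of_pos_right _ h1

theorem dvd_cc_iff (i j : ℕ) : p ^ D.m ∣ i * (p ^ D.d * j) ↔ p ^ cc D ∣ i * j := by
  have hpd : p ^ D.d ≠ 0 := pow_ne_zero _ hp.out.ne_zero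
  have h1 : i * (p ^ D.d * j) = p ^ D.d * (i * j) := by ring
  rw [h1]
  rcases le_total D.m D.d with h | h
  · have h2 : cc D = 0 := Nat.sub_eq_zero_of_le h
    rw [h2, pow_zero]
    simp only [one_dvd, iff_true]
    exact Dvd.dvd.mul_right (pow_dvd_pow p h) _
  · have h2 : D.m = D.d + cc D := by unfold cc; omega
    conv_lhs => rw [h2, pow_add]
    exact Nat.mul_dvd_mul_iff_left (Nat.pos_of_ne_zero hpd)

theorem commute_iff (hp2 : p ≠ 2) (i j : ℕ) :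
    D.b ^ j * D.a ^ i = D.a ^ i * D.b ^ j ↔ p ^ cc D ∣ i * j := by
  rw [← commutatorElement_eq_one_iff_mul_comm, comm_b_a, a_pow_eq_one_iff,
    dvd_mul_pow_sub_one_iff hp2 D.hd D.hu, dvd_cc_iff]

theorem closure_ab [Finite G] : Subgroup.closure {D.a, D.b} = ⊤ := by
  rw [eq_top_iff]
  intro g _
  obtain ⟨i, j, rfl⟩ := D.hgen g
  exact mul_mem (pow_mem (Subgroup.subset_closure (by simp)) _)
    (pow_mem (Subgroup.subset_closure (by simp)) _)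

theorem commutator_eq [Finite G] : commutator G = Subgroup.zpowers (D.a ^ (p ^ D.d)) := by
  have hid : (MonoidHom.id G).ker ≤ Subgroup.center G := by rw [MonoidHom.ker_id]; exact bot_le
  obtain ⟨h4, -, -⟩ := Cfsg.Agent.H2.SchurMeta.commutator_eq_zpowers (MonoidHom.id G) hid D.a D.b
    (closure_ab D) (RR D : ℤ) (by
      rw [zpow_natCast]; exact D.hrel)
  have h1 : ⁅D.b, D.a⁆ = (D.a ^ (p ^ D.d)) ^ D.u := by
    have := comm_b_a D 1 1
    rw [pow_one, pow_one, pow_one, one_mul] at this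
    rw [this, ← pow_mul]
    congr 1
    unfold RR
    omega
  rw [h4, h1]
  apply le_antisymm
  · rw [Subgroup.zpowers_le]; exact pow_mem (Subgroup.mem_zpowers _) _
  · rw [Subgroup.zpowers_le]
    have hcop : Nat.Coprime (orderOf (D.a ^ (p ^ D.d))) D.u := by
      have h2 : orderOf (D.a ^ (p ^ D.d)) ∣ p ^ D.m := by
        rw [← D.ha]; exact orderOf_pow_dvd _
      apply Nat.Coprime.coprime_dvd_left h2
      apply Nat.Coprime.pow_left
      exact (hp.out.coprime_iff_not_dvd).mpr D.hu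
    obtain ⟨k, hk⟩ := exists_pow_eq_self_of_coprime hcop.symm
    have := pow_mem (Subgroup.mem_zpowers ((D.a ^ (p ^ D.d)) ^ D.u)) k
    rwa [hk] at this

theorem orderOf_a_pow (α : ℕ) (hα : α ≤ D.m) : orderOf (D.a ^ (p ^ α)) = p ^ (D.m - α) := by
  rw [orderOf_pow' _ (pow_ne_zero _ hp.out.ne_zero), D.ha, Nat.gcd_eq_right (pow_dvd_pow p hα),
    Nat.pow_div hα hp.out.pos]

theorem card_commutator [Finite G] : Nat.card (commutator G) = p ^ cc D := by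
  rw [commutator_eq D, Nat.card_zpowers]
  rcases le_total D.d D.m with h | h
  · exact orderOf_a_pow D _ h
  · have h1 : D.a ^ (p ^ D.d) = 1 := (a_pow_eq_one_iff D _).mpr (pow_dvd_pow p h)
    have h2 : cc D = 0 := Nat.sub_eq_zero_of_le h
    rw [h1, orderOf_one, h2, pow_zero]

theorem card_of_exps [Finite G] (L : Subgroup G) (α β : ℕ) (hα : ∀ j : ℕ, D.a ^ j ∈ L ↔ p ^ α ∣ j)
    (hβ : ∀ j : ℕ, D.b ^ j ∈ L ⊔ Subgroup.zpowers D.a ↔ p ^ β ∣ j) (hαm : α ≤ D.m)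
    (hβn : β ≤ D.n) : Nat.card L = p ^ (D.m - α) * p ^ (D.n - β) := by
  have hN := D.hnorm
  rw [card_eq_inf_mul_map (QuotientGroup.mk' (Subgroup.zpowers D.a)) L, QuotientGroup.ker_mk']
  have h1 : Subgroup.zpowers D.a ⊓ L = Subgroup.zpowers (D.a ^ (p ^ α)) := by
    apply le_antisymm
    · intro x hx
      obtain ⟨h1, h2⟩ := Subgroup.mem_inf.mp hx
      obtain ⟨i, hi⟩ := (isOfFinOrder_of_finite D.a).mem_powers_iff_mem_zpowers.mpr h1
      have hi' : D.a ^ i = x := hi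
      rw [← hi', hα] at h2
      obtain ⟨k, rfl⟩ := h2
      rw [← hi', pow_mul]
      exact pow_mem (Subgroup.mem_zpowers _) _
    · rw [Subgroup.zpowers_le]
      exact Subgroup.mem_inf.mpr ⟨pow_mem (Subgroup.mem_zpowers _) _, (hα _).mpr dvd_rfl⟩
  have hordb : orderOf (QuotientGroup.mk' (Subgroup.zpowers D.a) D.b) = p ^ D.n := by
    have h2 : ∀ j : ℕ, (QuotientGroup.mk' (Subgroup.zpowers D.a) D.b) ^ j = 1 ↔ p ^ D.n ∣ j := by
      intro j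
      rw [← map_pow, ← D.hb]
      exact QuotientGroup.eq_one_iff _
    apply Nat.dvd_antisymm
    · exact orderOf_dvd_of_pow_eq_one ((h2 _).mpr dvd_rfl)
    · exact (h2 _).mp (pow_orderOf_eq_one _)
  have h2 : L.map (QuotientGroup.mk' (Subgroup.zpowers D.a)) =
      Subgroup.zpowers ((QuotientGroup.mk' (Subgroup.zpowers D.a) D.b) ^ (p ^ β)) := by
    have hmem : ∀ j : ℕ, (QuotientGroup.mk' (Subgroup.zpowers D.a) D.b) ^ j ∈
        L.map (QuotientGroup.mk' (Subgroup.zpowers D.a)) ↔ p ^ β ∣ j := by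
      intro j
      rw [← hβ, ← map_pow]
      constructor
      · rintro ⟨x, hx, hxb⟩
        have h3 : x⁻¹ * D.b ^ j ∈ Subgroup.zpowers D.a := QuotientGroup.eq.mp hxb
        have := Subgroup.mul_mem_sup hx h3
        rwa [mul_inv_cancel_left] at this
      · intro h
        obtain ⟨x, hx, y, hy, hxy⟩ := Subgroup.mem_sup_of_normal_right.mp h
        refine ⟨x, hx, ?_⟩
        rw [← hxy, map_mul]
        have h3 : QuotientGroup.mk' (Subgroup.zpowers D.a) y = 1 :=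
          (QuotientGroup.eq_one_iff y).mpr hy
        rw [h3, mul_one]
    apply le_antisymm
    · rintro _ ⟨x, hx, rfl⟩
      obtain ⟨i, j, rfl⟩ := D.hgen x
      have h3 : QuotientGroup.mk' (Subgroup.zpowers D.a) (D.a ^ i * D.b ^ j) =
          (QuotientGroup.mk' (Subgroup.zpowers D.a) D.b) ^ j := by
        rw [map_mul, map_pow, map_pow]
        have h4 : QuotientGroup.mk' (Subgroup.zpowers D.a) D.a = 1 :=
          (QuotientGroup.eq_one_iff _).mpr (Subgroup.mem_zpowers _)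
        rw [h4, one_pow, one_mul]
      rw [h3]
      have h5 : (QuotientGroup.mk' (Subgroup.zpowers D.a) D.b) ^ j ∈
        L.map (QuotientGroup.mk' (Subgroup.zpowers D.a)) := by rw [← h3]; exact ⟨_, hx, rfl⟩
      obtain ⟨k, rfl⟩ := (hmem j).mp h5
      rw [pow_mul]
      exact pow_mem (Subgroup.mem_zpowers _) _
    · rw [Subgroup.zpowers_le]
      exact (hmem _).mpr dvd_rfl
  rw [h1, h2, Nat.card_zpowers, Nat.card_zpowers, orderOf_a_pow D α hαm,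
    orderOf_pow' _ (pow_ne_zero _ hp.out.ne_zero), hordb, Nat.gcd_eq_right (pow_dvd_pow p hβn),
    Nat.pow_div hβn hp.out.pos]

theorem exists_exps [Finite G] (L : Subgroup G) : ∃ α β : ℕ, α ≤ D.m ∧ β ≤ D.n ∧
    (∀ j : ℕ, D.a ^ j ∈ L ↔ p ^ α ∣ j) ∧
    (∀ j : ℕ, D.b ^ j ∈ L ⊔ Subgroup.zpowers D.a ↔ p ^ β ∣ j) := by
  obtain ⟨α, hαm, hα⟩ := exists_exp (p := p) L D.a D.m (by
    rw [(a_pow_eq_one_iff D _).mpr dvd_rfl]; exact one_mem _)
  obtain ⟨β, hβn, hβ⟩ := exists_exp (p := p) (L ⊔ Subgroup.zpowers D.a) D.b D.n (by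
    exact Subgroup.mem_sup_right ((D.hb _).mpr dvd_rfl))
  exact ⟨α, β, hαm, hβn, hα, hβ⟩

theorem card_eq [Finite G] : Nat.card G = p ^ D.m * p ^ D.n := by
  have h := card_of_exps D (⊤ : Subgroup G) 0 0 (by simp) (by simp) (Nat.zero_le _) (Nat.zero_le _)
  rwa [Subgroup.card_top, Nat.sub_zero, Nat.sub_zero] at h

theorem exists_y [Finite G] (L : Subgroup G) (β : ℕ)
    (hβ : ∀ j : ℕ, D.b ^ j ∈ L ⊔ Subgroup.zpowers D.a ↔ p ^ β ∣ j) :
    ∃ k : ℕ, D.a ^ k * D.b ^ (p ^ β) ∈ L := by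
  have hN := D.hnorm
  obtain ⟨x, hx, y, hy, hxy⟩ := Subgroup.mem_sup_of_normal_right.mp ((hβ _).mpr dvd_rfl)
  -- `b^.. = x y`, so `x = b^.. y⁻¹ = (conj y⁻¹) b^..`
  have h1 : D.b ^ (p ^ β) * y⁻¹ * (D.b ^ (p ^ β))⁻¹ ∈ Subgroup.zpowers D.a :=
    hN.conj_mem _ (inv_mem hy) _
  obtain ⟨k, hk⟩ := (isOfFinOrder_of_finite D.a).mem_powers_iff_mem_zpowers.mpr h1
  have hk' : D.a ^ k = D.b ^ (p ^ β) * y⁻¹ * (D.b ^ (p ^ β))⁻¹ := hk
  refine ⟨k, ?_⟩
  rw [hk', inv_mul_cancel_right, ← hxy, mul_inv_cancel_right]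
  exact hx

/-- elements of `L` in terms of the generators -/
theorem mem_form [Finite G] (L : Subgroup G) (α β k : ℕ)
    (hα : ∀ j : ℕ, D.a ^ j ∈ L ↔ p ^ α ∣ j)
    (hβ : ∀ j : ℕ, D.b ^ j ∈ L ⊔ Subgroup.zpowers D.a ↔ p ^ β ∣ j)
    (hk : D.a ^ k * D.b ^ (p ^ β) ∈ L) (g : G) (hg : g ∈ L) :
    ∃ i j : ℕ, g = (D.a ^ (p ^ α)) ^ i * (D.a ^ k * D.b ^ (p ^ β)) ^ j := by
  have hN := D.hnorm
  obtain ⟨i₀, j₀, rfl⟩ := D.hgen g
  have h1 : D.b ^ j₀ ∈ L ⊔ Subgroup.zpowers D.a := by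
    have h2 : D.b ^ j₀ = (D.a ^ i₀)⁻¹ * (D.a ^ i₀ * D.b ^ j₀) := by group
    rw [h2]
    exact mul_mem (Subgroup.mem_sup_right (inv_mem (pow_mem (Subgroup.mem_zpowers _) _)))
      (Subgroup.mem_sup_left hg)
  obtain ⟨j, rfl⟩ := (hβ _).mp h1
  -- `g y⁻ʲ ∈ A ∩ L`
  have h2 : (D.a ^ i₀ * D.b ^ (p ^ β * j)) * ((D.a ^ k * D.b ^ (p ^ β)) ^ j)⁻¹ ∈
      Subgroup.zpowers D.a := by
    rw [← QuotientGroup.eq_one_iff]
    have h3 : (QuotientGroup.mk D.a : G ⧸ Subgroup.zpowers D.a) = 1 :=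
      (QuotientGroup.eq_one_iff _).mpr (Subgroup.mem_zpowers _)
    simp only [QuotientGroup.mk_mul, QuotientGroup.mk_inv, QuotientGroup.mk_pow, h3, one_pow,
      one_mul, pow_mul, mul_inv_cancel]
  have h3 := mul_mem hg (inv_mem (pow_mem hk j))
  obtain ⟨t, ht⟩ := (isOfFinOrder_of_finite D.a).mem_powers_iff_mem_zpowers.mpr h2
  have ht' : D.a ^ t = (D.a ^ i₀ * D.b ^ (p ^ β * j)) * ((D.a ^ k * D.b ^ (p ^ β)) ^ j)⁻¹ := ht
  rw [← ht', hα] at h3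
  obtain ⟨i, rfl⟩ := h3
  refine ⟨i, j, ?_⟩
  rw [← pow_mul, ht', inv_mul_cancel_right]

theorem abelian_iff [Finite G] (hp2 : p ≠ 2) (L : Subgroup G) (α β : ℕ)
    (hα : ∀ j : ℕ, D.a ^ j ∈ L ↔ p ^ α ∣ j)
    (hβ : ∀ j : ℕ, D.b ^ j ∈ L ⊔ Subgroup.zpowers D.a ↔ p ^ β ∣ j) :
    IsMulCommutative L ↔ cc D ≤ α + β := by
  obtain ⟨k, hk⟩ := exists_y D L β hβ
  have key : (D.a ^ k * D.b ^ (p ^ β)) * D.a ^ (p ^ α) = D.a ^ (p ^ α) * (D.a ^ k * D.b ^ (p ^ β)) ↔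
      cc D ≤ α + β := by
    have h1 : (D.a ^ k * D.b ^ (p ^ β)) * D.a ^ (p ^ α) = D.a ^ (p ^ α) * (D.a ^ k * D.b ^ (p ^ β)) ↔
        D.b ^ (p ^ β) * D.a ^ (p ^ α) = D.a ^ (p ^ α) * D.b ^ (p ^ β) := by
      rw [mul_assoc, ← mul_assoc (D.a ^ (p ^ α)), ← pow_add, add_comm (p ^ α), pow_add, mul_assoc]
      exact mul_right_inj _
    rw [h1, commute_iff D hp2, ← pow_add, Nat.pow_dvd_pow_iff_le_right hp.out.one_lt]
  rw [← key]
  constructor
  · intro h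
    have := h.is_comm.comm ⟨_, hk⟩ ⟨_, (hα _).mpr dvd_rfl⟩
    exact congrArg Subtype.val this
  · intro h
    have hc : Commute (D.a ^ k * D.b ^ (p ^ β)) (D.a ^ (p ^ α)) := h
    refine ⟨⟨fun x y => Subtype.ext ?_⟩⟩
    obtain ⟨i, j, hx⟩ := mem_form D L α β k hα hβ hk x x.2
    obtain ⟨i', j', hy⟩ := mem_form D L α β k hα hβ hk y y.2
    change (x : G) * y = y * x
    rw [hx, hy]
    have c1 : Commute ((D.a ^ (p ^ α)) ^ i) ((D.a ^ (p ^ α)) ^ i') := Commute.pow_pow_self _ _ _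
    have c2 : Commute ((D.a ^ k * D.b ^ (p ^ β)) ^ j) ((D.a ^ k * D.b ^ (p ^ β)) ^ j') :=
      Commute.pow_pow_self _ _ _
    have c3 : Commute ((D.a ^ (p ^ α)) ^ i) ((D.a ^ k * D.b ^ (p ^ β)) ^ j') := hc.symm.pow_pow _ _
    have c4 : Commute ((D.a ^ k * D.b ^ (p ^ β)) ^ j) ((D.a ^ (p ^ α)) ^ i') := hc.pow_pow _ _
    exact ((c1.mul_right c3).mul_left (c4.mul_right c2)).eq

end Cfsg.Agent.H2.MetacB
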