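import Mathlib
import Cfsg.Agent.Lib.CoprimeB
import Cfsg.Agent.H2.QuadCount
import Cfsg.Agent.H2.FpfFour
import Cfsg.Agent.Lib.Nilp
import Cfsg.Agent.Lib.MinAct
import Cfsg.Agent.H2.MetacB

set_option autoImplicit false

/-! A 2-group of rank two with a pair of commuting automorphisms of 3-power order. -/

namespace Cfsg.Agent.H2.SixElt

open Subgroup Cfsg.Agent.Lib Cfsg.Agent.Lib.Basic Cfsg.Agent.Lib.Coprime Cfsg.Agent.Lib.CoprimeB
open scoped commutatorElement Pointwise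

universe u
variable {G : Type u} [Group G]

/-- fixed points of a `p`-group -/
theorem card_mod [Finite G] {p : ℕ} [hp : Fact p.Prime] {A V : Subgroup G} (hA : IsPGroup p A) (hAV : A ≤ normalizer (V : Set G)) :
    Nat.card V ≡ Nat.card (V ⊓ centralizer (A : Set G) : Subgroup G) [MOD p] := by
  letI : MulAction A V := MulAction.compHom V (act hAV)
  have h1 := hA.card_modEq_card_fixedPoints (α := V)
  have h2 : Nat.card (MulAction.fixedPoints A V) = Nat.card (V ⊓ centralizer (A : Set G) : Subgroup G) := by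
    apply Nat.card_congr
    refine ⟨fun x => ⟨x.1, mem_inf.mpr ⟨x.1.2, ?_⟩⟩, fun x => ⟨⟨x.1, (mem_inf.mp x.2).1⟩, ?_⟩, fun x => rfl, fun x => rfl⟩
    · rw [mem_centralizer_iff]
      intro a ha
      have h3 : a * ((x : V) : G) * a⁻¹ = (x : V) := congrArg Subtype.val (x.2 ⟨a, ha⟩)
      exact mul_inv_eq_iff_eq_mul.mp h3
    · intro a
      apply Subtype.ext
      change (a : G) * (x : G) * (a : G)⁻¹ = x
      rw [mem_centralizer_iff.mp (mem_inf.mp x.2).2 a a.2, mul_inv_cancel_right]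
  rw [h2] at h1
  exact h1

theorem norm_of_mem {V : Subgroup G} {s : G} (h : s ∈ normalizer (V : Set G)) : zpowers s ≤ normalizer (V : Set G) :=
  zpowers_le.mpr h

/-- an orbit of length not divisible by nine -/
theorem exists_orbit {P : Type*} [Group P] [Finite P] (hP : IsPGroup 3 P) {X : Type*} [Finite X] [MulAction P X] (hX : ¬ 9 ∣ Nat.card X) :
    ∃ x : X, Nat.card (MulAction.orbit P x) ≤ 3 := by
  classical
  haveI : Fact (Nat.Prime 3) := ⟨Nat.prime_three⟩
  by_contra hcon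
  push Not at hcon
  apply hX
  cases nonempty_fintype (MulAction.orbitRel.Quotient P X)
  rw [Nat.card_congr (MulAction.selfEquivSigmaOrbits P X), Nat.card_sigma]
  apply Finset.dvd_sum
  intro ω _
  obtain ⟨k, hk⟩ := hP.index (MulAction.stabilizer P (ω.out))
  rw [MulAction.index_stabilizer] at hk
  have h1 := hcon ω.out
  have h2 : Nat.card (MulAction.orbit P ω.out) = 3 ^ k := hk
  rw [h2] at h1 ⊢
  have h3 : 2 ≤ k := by
    by_contra h
    have : k = 0 ∨ k = 1 := by omega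
    rcases this with rfl | rfl <;> norm_num at h1
  exact pow_dvd_pow 3 h3


theorem mem_norm_fin [Finite G] {H : Subgroup G} {g : G} (h : ∀ x ∈ H, g * x * g⁻¹ ∈ H) : g ∈ normalizer (H : Set G) := by
  have h1 : H.map (MulAut.conj g).toMonoidHom = H := by
    apply Subgroup.eq_of_le_of_card_ge
    · rintro _ ⟨x, hx, rfl⟩
      exact h x hx
    · rw [Subgroup.card_map_of_injective (MulAut.conj g).injective]
  rw [mem_normalizer_iff]
  intro x
  constructor
  · exact h x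
  · intro hx
    rw [← h1] at hx
    obtain ⟨y, hy, hyx⟩ := hx
    have h2 : g * y * g⁻¹ = g * x * g⁻¹ := hyx
    have h3 : y = x := mul_left_cancel (mul_right_cancel h2)
    rw [← h3]; exact hy

theorem core [Finite G] {Q W : Subgroup G} [W.Normal] (hQ : IsPGroup 2 Q) (hWQ : W ≤ Q) (hW4 : Nat.card W = 4)
    (hinv : ∀ x ∈ Q, x ^ 2 = 1 ↔ x ∈ W) {s d : G} (hs : orderOf s = 3) (hsW : ∀ w ∈ W, s * w = w * s)
    (hd : IsPGroup 3 (zpowers d)) (hdW : ∀ X : Subgroup G, X ≤ W → d ∈ normalizer (X : Set G) → X = ⊥ ∨ X = W)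
    (hsQ : s ∈ normalizer (Q : Set G)) (hdQ : d ∈ normalizer (Q : Set G)) (hsd : Commute s d)
    (hns : ¬ Q ≤ centralizer ((zpowers s : Subgroup G) : Set G)) : False := by
  classical
  haveI : Fact (Nat.Prime 3) := ⟨Nat.prime_three⟩
  haveI : Fact (Nat.Prime 2) := ⟨Nat.prime_two⟩
  obtain ⟨V, ⟨hVQ, hsV, hdV, hVn⟩, hVmin⟩ := Set.exists_min_image {V : Subgroup G | V ≤ Q ∧ s ∈ normalizer (V : Set G) ∧
    d ∈ normalizer (V : Set G) ∧ ¬ V ≤ centralizer ((zpowers s : Subgroup G) : Set G)} (fun V => Nat.card V) (Set.toFinite _)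
    ⟨Q, le_rfl, hsQ, hdQ, hns⟩
  have hmin : ∀ U : Subgroup G, U ≤ V → U ≠ V → s ∈ normalizer (U : Set G) → d ∈ normalizer (U : Set G) →
      U ≤ centralizer ((zpowers s : Subgroup G) : Set G) := by
    intro U hU hUV h1 h2
    by_contra hcon
    exact hUV (Subgroup.eq_of_le_of_card_ge hU (hVmin U ⟨hU.trans hVQ, h1, h2, hcon⟩))
  clear hVmin
  obtain ⟨A, hA⟩ : ∃ A, A = zpowers s := ⟨_, rfl⟩
  rw [← hA] at hVn hmin
  have hsA : s ∈ A := hA ▸ mem_zpowers s
  have hA3 : Nat.card A = 3 := by rw [hA, Nat.card_zpowers, hs]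
  have hA3p : IsPGroup 3 A := IsPGroup.of_card (n := 1) (by rw [hA3]; norm_num)
  have hV2 : IsPGroup 2 V := hQ.to_le hVQ
  have hAV : A ≤ normalizer (V : Set G) := hA ▸ zpowers_le.mpr hsV
  have hDV : zpowers d ≤ normalizer (V : Set G) := zpowers_le.mpr hdV
  have hDA : zpowers d ≤ normalizer (A : Set G) := by
    rw [zpowers_le]
    apply mem_norm_fin
    intro x hx
    rw [hA] at hx
    obtain ⟨k, rfl⟩ := mem_zpowers_iff.mp hx
    have : d * s ^ k * d⁻¹ = s ^ k := by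
      rw [(hsd.zpow_left k).symm.eq, mul_inv_cancel_right]
    rw [this]; exact zpow_mem hsA k
  have hcop : (Nat.card A).Coprime (Nat.card V) := by
    obtain ⟨v, hv⟩ := IsPGroup.iff_card.mp hV2
    rw [hA3, hv]
    exact Nat.Coprime.pow_right v (by norm_num)
  have hcenA : ∀ x, x ∈ centralizer (A : Set G) ↔ s * x = x * s := by
    intro x
    constructor
    · intro h; exact mem_centralizer_iff.mp h s hsA
    · intro h
      rw [mem_centralizer_iff]
      intro a ha
      rw [hA] at ha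
      obtain ⟨k, rfl⟩ := mem_zpowers_iff.mp ha
      exact (show Commute s x from h).zpow_left k
  have hsolv : Group.IsSolvable A ∨ Group.IsSolvable V := Or.inr (isSolvable_of_isPGroup hV2)
  -- Step 1
  have hVA : ⁅V, A⁆ = V := by
    by_contra hne
    have h1 : ⁅V, A⁆ ≤ V := commutator_le_of_normalizes hAV
    have h2 := hmin _ h1 hne (le_normalizer_commutator_right A V hsA)
      (le_normalizer_commutator hDV hDA (mem_zpowers d))
    have h3 : ⁅⁅V, A⁆, A⁆ = ⊥ := by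
      rw [commutator_eq_bot_iff_le_centralizer]; exact h2
    rw [commutator_commutator_eq hAV hcop hsolv, commutator_eq_bot_iff_le_centralizer] at h3
    exact hVn h3
  -- Step 2
  have hnc : ¬ IsMulCommutative V := by
    intro hc
    apply hVn
    have h1 := abelian_trivial_of_prime_order hc hAV hcop (by
      intro v hv hvp a ha
      obtain ⟨k, hk⟩ := hV2 ⟨v, hv⟩
      have h2 : orderOf v ∣ 2 ^ k := orderOf_dvd_of_pow_eq_one (congrArg Subtype.val hk)
      have h3 : orderOf v = 2 := (Nat.prime_dvd_prime_iff_eq hvp Nat.prime_two).mp (hvp.dvd_of_dvd_pow h2)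
      have h4 : v ^ 2 = 1 := h3 ▸ pow_orderOf_eq_one v
      have h5 : v ∈ centralizer (A : Set G) := (hcenA v).mpr (hsW v ((hinv v (hVQ hv)).mp h4))
      exact mem_centralizer_iff.mp h5 a ha)
    exact le_centralizer_iff.mp h1
  -- Step 3
  have hVb : V ≠ ⊥ := by
    rintro rfl
    exact hVn bot_le
  haveI hVnt : Nontrivial V := (nontrivial_iff_ne_bot V).mpr hVb
  obtain ⟨F, hF⟩ : ∃ F : Subgroup G, F = (frattini V).map V.subtype := ⟨_, rfl⟩
  have hFV : F ≤ V := hF ▸ map_subtype_le _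
  have hFne : F ≠ V := by
    intro h
    have h1 : frattini V = ⊤ := by
      rw [eq_top_iff]
      intro x _
      have h2 : (x : G) ∈ F := h ▸ x.2
      rw [hF] at h2
      obtain ⟨y, hy, hyx⟩ := h2
      have : y = x := Subtype.ext hyx
      rw [← this]; exact hy
    obtain ⟨M, hM, -⟩ := (eq_top_or_exists_le_coatom (⊥ : Subgroup V)).resolve_left bot_ne_top
    exact hM.1 (top_le_iff.mp (h1 ▸ frattini_le_coatom hM))
  have hNF : normalizer (V : Set G) ≤ normalizer (F : Set G) := by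
    rw [hF]
    exact MinAct.normalizer_le_normalizer_char _
  have hFA := hmin F hFV hFne (hNF hsV) (hNF hdV)
  have hFcV : F ≤ centralizer (V : Set G) := by
    apply le_centralizer_of_commutator_eq hVA hFV ((le_normalizer (H := V)).trans hNF)
    rw [commutator_eq_bot_iff_le_centralizer]; exact hFA
  have hsq : ∀ x ∈ V, x ^ 2 ∈ F := by
    intro x hx
    rw [hF]
    exact ⟨⟨x, hx⟩ ^ 2, Cfsg.Agent.Lib.Nilp.pow_mem_frattini hV2 _, rfl⟩
  have hcF : ∀ x ∈ V, ∀ y ∈ V, x * y * x⁻¹ * y⁻¹ ∈ F := by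
    intro x hx y hy
    rw [hF]
    exact ⟨⟨x, hx⟩ * ⟨y, hy⟩ * ⟨x, hx⟩⁻¹ * ⟨y, hy⟩⁻¹, Cfsg.Agent.Lib.Nilp.commutator_le_frattini hV2
      (commutator_mem_commutator (mem_top _) (mem_top _)), rfl⟩
  have hcW : ∀ x ∈ V, ∀ y ∈ V, x * y * x⁻¹ * y⁻¹ ∈ W := by
    intro x hx y hy
    have hcV : x * y * x⁻¹ * y⁻¹ ∈ V := hFV (hcF x hx y hy)
    apply (hinv _ (hVQ hcV)).mp
    have h1 : x * (x * y * x⁻¹ * y⁻¹) = (x * y * x⁻¹ * y⁻¹) * x := mem_centralizer_iff.mp (hFcV (hcF x hx y hy)) x hx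
    have h2 : x ^ 2 * y = y * x ^ 2 := (mem_centralizer_iff.mp (hFcV (hsq x hx)) y hy).symm
    have h3 : (x * y * x⁻¹ * y⁻¹) ^ 2 = x ^ 2 * y * (x ^ 2)⁻¹ * y⁻¹ := by
      have h4 : x ^ 2 * y * (x ^ 2)⁻¹ * y⁻¹ = x * (x * y * x⁻¹ * y⁻¹) * (y * x⁻¹ * y⁻¹) := by rw [sq]; group
      rw [h4, h1, sq]
      group
    rw [h3, h2, mul_inv_cancel_right, mul_inv_cancel]
  have hVV : ⁅V, V⁆ = W := by
    have h1 : ⁅V, V⁆ ≤ W := by
      rw [commutator_le]
      exact fun x hx y hy => hcW x hx y hy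
    refine (hdW _ h1 (le_normalizer_commutator hDV hDV (mem_zpowers d))).resolve_left ?_
    intro h
    apply hnc
    rw [commutator_eq_bot_iff_le_centralizer] at h
    exact ⟨⟨fun a b => Subtype.ext (mem_centralizer_iff.mp (h b.2) a a.2)⟩⟩
  have hWF : W ≤ F := by
    rw [← hVV, commutator_le]
    exact fun x hx y hy => hcF x hx y hy
  have hWV : W ≤ V := hWF.trans hFV
  have hWcV : W ≤ centralizer (V : Set G) := hWF.trans hFcV
  -- Step 5: the quotient by `W`
  obtain ⟨f, hf⟩ : ∃ f : G →* G ⧸ W, f = QuotientGroup.mk' W := ⟨_, rfl⟩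
  have hfk : ∀ x, f x = 1 ↔ x ∈ W := fun x => by rw [hf]; exact QuotientGroup.eq_one_iff x
  have hfe : ∀ x y, f x = f y ↔ x⁻¹ * y ∈ W := fun x y => by rw [hf]; exact QuotientGroup.eq
  have hVc : IsMulCommutative (V.map f) := by
    refine ⟨⟨?_⟩⟩
    rintro ⟨_, x, hx, rfl⟩ ⟨_, y, hy, rfl⟩
    apply Subtype.ext
    change f x * f y = f y * f x
    rw [← map_mul, ← map_mul, eq_comm, hfe]
    have e : (y * x)⁻¹ * (x * y) = x⁻¹ * y⁻¹ * x⁻¹⁻¹ * y⁻¹⁻¹ := by group
    rw [e]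
    exact hcW x⁻¹ (inv_mem hx) y⁻¹ (inv_mem hy)
  have hfix : V ⊓ centralizer (A : Set G) ≤ W := by
    intro z hz
    obtain ⟨hzV, hzA⟩ := mem_inf.mp hz
    have h1 := abelian_inf_eq_bot (A := A.map f) hVc ((map_mono hAV).trans (le_normalizer_map f)) (by
      exact Nat.Coprime.coprime_dvd_left (card_map_dvd _ _) (Nat.Coprime.coprime_dvd_right (card_map_dvd _ _) hcop))
    rw [← map_commutator, hVA] at h1
    have h2 : f z ∈ V.map f ⊓ centralizer ((A.map f : Subgroup (G ⧸ W)) : Set (G ⧸ W)) ⊓ V.map f := by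
      refine mem_inf.mpr ⟨mem_inf.mpr ⟨mem_map_of_mem f hzV, ?_⟩, mem_map_of_mem f hzV⟩
      rw [mem_centralizer_iff]
      rintro _ ⟨a, ha, rfl⟩
      rw [← map_mul, ← map_mul, mem_centralizer_iff.mp hzA a ha]
    rw [h1, mem_bot] at h2
    exact (hfk z).mp h2
  have hfixs : ∀ z ∈ V, s * z = z * s → z ∈ W := fun z hz h => hfix (mem_inf.mpr ⟨hz, (hcenA z).mpr h⟩)
  have hfixf : ∀ z ∈ V, f (s * z * s⁻¹) = f z → z ∈ W := by
    intro z hz h
    -- use the quotient
    have h1 := abelian_inf_eq_bot (A := A.map f) hVc ((map_mono hAV).trans (le_normalizer_map f)) (by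
      exact Nat.Coprime.coprime_dvd_left (card_map_dvd _ _) (Nat.Coprime.coprime_dvd_right (card_map_dvd _ _) hcop))
    rw [← map_commutator, hVA] at h1
    have h2 : f z ∈ V.map f ⊓ centralizer ((A.map f : Subgroup (G ⧸ W)) : Set (G ⧸ W)) ⊓ V.map f := by
      refine mem_inf.mpr ⟨mem_inf.mpr ⟨mem_map_of_mem f hz, ?_⟩, mem_map_of_mem f hz⟩
      rw [mem_centralizer_iff]
      rintro _ ⟨a, ha, rfl⟩
      rw [hA] at ha
      obtain ⟨k, rfl⟩ := mem_zpowers_iff.mp ha
      rw [map_zpow]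
      have h3 : Commute (f s) (f z) := by
        rw [map_mul, map_mul, map_inv] at h
        exact mul_inv_eq_iff_eq_mul.mp h
      exact h3.zpow_left k
    rw [h1, mem_bot] at h2
    exact (hfk z).mp h2
  have hsqW : ∀ x ∈ V, x ^ 2 ∈ W := fun x hx => hfix (mem_inf.mpr ⟨hFV (hsq x hx), hFA (hsq x hx)⟩)
  -- Step 7: the order of `V`
  obtain ⟨v, hv⟩ := IsPGroup.iff_card.mp hV2
  have hv6 : v ≤ 6 := by
    by_contra hcon
    push Not at hcon
    have h1 := Cfsg.Agent.H2.QuadCount.count_dvd (W.subgroupOf V) (by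
      intro x hx
      rw [mem_center_iff]
      intro g
      exact Subtype.ext (mem_centralizer_iff.mp (hWcV hx) g g.2)) (by
      intro x hx
      exact Subtype.ext ((hinv x (hVQ x.2)).mpr hx)) (by
      intro g h
      rw [mem_subgroupOf]
      exact hcW g g.2 h h.2) (by
      intro g
      rw [mem_subgroupOf]
      exact hsqW g g.2) (W.subgroupOf V) (by
      intro x hx
      rw [mem_center_iff]
      intro g
      exact Subtype.ext (mem_centralizer_iff.mp (hWcV hx) g g.2)) 5 (by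
      rw [hv, Nat.card_congr (subgroupOfEquivOfLe hWV).toEquiv, hW4, show (4 : ℕ) = 2 ^ 2 by norm_num, ← pow_add]
      exact pow_dvd_pow 2 (by omega))
    have h2 : Nat.card {g : V // g ^ 2 = 1} = 4 := by
      rw [← hW4, ← Nat.card_congr (subgroupOfEquivOfLe hWV).toEquiv]
      apply Nat.card_congr
      refine Equiv.subtypeEquivRight fun g => ?_
      rw [mem_subgroupOf, ← hinv g (hVQ g.2)]
      constructor
      · intro h; exact congrArg Subtype.val h
      · intro h; exact Subtype.ext h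
    rw [h2, Nat.card_congr (subgroupOfEquivOfLe hWV).toEquiv, hW4] at h1
    norm_num at h1
  have hvmod : 2 ^ v % 3 = 1 := by
    have h1 := card_mod hA3p hAV
    have h2 : V ⊓ centralizer (A : Set G) = W := by
      apply le_antisymm hfix
      intro w hw
      exact mem_inf.mpr ⟨hWV hw, (hcenA w).mpr (hsW w hw)⟩
    rw [h2, hW4, hv] at h1
    exact h1
  have hv2 : 2 ≤ v := by
    have h1 := card_dvd_of_le hWV
    rw [hW4, hv, show (4 : ℕ) = 2 ^ 2 by norm_num] at h1
    exact (Nat.pow_dvd_pow_iff_le_right (by norm_num : 1 < 2)).mp h1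
  have hcardVf : Nat.card (V.map f) = 2 ^ (v - 2) := by
    have h1 : Nat.card (V.map f) * Nat.card W = Nat.card V := by
      have := Cfsg.Agent.H2.MetacB.card_eq_inf_mul_map f V
      have hk : f.ker = W := by ext x; exact hfk x
      rw [hk, inf_eq_left.mpr hWV] at this
      rw [this, mul_comm]
    rw [hW4, hv] at h1
    have h2 : 2 ^ v = 2 ^ (v - 2) * 4 := by
      rw [show (4 : ℕ) = 2 ^ 2 by norm_num, ← pow_add]; congr 1; omega
    rw [h2] at h1
    exact Nat.eq_of_mul_eq_mul_right (by norm_num) h1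
  -- the group acting
  obtain ⟨P, hP⟩ : ∃ P : Subgroup G, P = zpowers d ⊔ A := ⟨_, rfl⟩
  have hP3 : IsPGroup 3 P := by
    rw [hP, sup_comm]
    exact hA3p.to_sup_of_normal_left' hd hDA
  have hPV : P ≤ normalizer (V : Set G) := hP ▸ sup_le hDV hAV
  have hconj : ∀ g ∈ P, ∀ x ∈ V.map f, f g * x * (f g)⁻¹ ∈ V.map f := by
    rintro g hg _ ⟨x, hx, rfl⟩
    exact ⟨g * x * g⁻¹, (mem_normalizer_iff.mp (hPV hg) x).mp hx, by simp⟩
  let X := {x : G ⧸ W // x ∈ V.map f ∧ x ≠ 1}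
  letI actX : MulAction P X :=
    { smul := fun g x => ⟨f g * x.1 * (f g)⁻¹, hconj g g.2 _ x.2.1, fun h => x.2.2 (by
        have := congrArg (fun y => (f g)⁻¹ * y * f g) h
        simpa [mul_assoc] using this)⟩
      one_smul := fun x => Subtype.ext (by
        change f ((1 : P) : G) * x.1 * (f ((1 : P) : G))⁻¹ = x.1
        simp)
      mul_smul := fun g h x => Subtype.ext (by
        change f ((g * h : P) : G) * x.1 * (f ((g * h : P) : G))⁻¹ = f g * (f h * x.1 * (f h)⁻¹) * (f g)⁻¹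
        rw [coe_mul, map_mul]; group) }
  have hXcard : Nat.card X + 1 = 2 ^ (v - 2) := by
    rw [← hcardVf]
    have h1 : Nat.card X = Nat.card {y : V.map f // y ≠ 1} := by
      apply Nat.card_congr
      exact ⟨fun x => ⟨⟨x.1, x.2.1⟩, fun h => x.2.2 (congrArg Subtype.val h)⟩,
        fun y => ⟨y.1.1, y.1.2, fun h => y.2 (Subtype.ext h)⟩, fun _ => rfl, fun _ => rfl⟩
    rw [h1]
    have h2 : Nat.card {y : V.map f // y = 1} + Nat.card {y : V.map f // y ≠ 1} = Nat.card (V.map f) := by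
      rw [← Nat.card_sum]
      exact Nat.card_congr (Equiv.sumCompl _)
    have h3 : Nat.card {y : V.map f // y = 1} = 1 := by
      have : Unique {y : V.map f // y = 1} := ⟨⟨⟨1, rfl⟩⟩, fun y => Subtype.ext y.2⟩
      exact Nat.card_unique
    rw [h3] at h2
    omega
  have hX9 : ¬ 9 ∣ Nat.card X := by
    intro h9
    have hv' : v = 2 ∨ v = 3 ∨ v = 4 ∨ v = 5 ∨ v = 6 := by omega
    rcases hv' with rfl | rfl | rfl | rfl | rfl
    · -- `V = W`
      apply hVn
      have h1 : W = V := Subgroup.eq_of_le_of_card_ge hWV (by rw [hv, hW4]; norm_num)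
      intro x hx
      rw [← h1] at hx
      exact (hcenA x).mpr (hsW x hx)
    · norm_num at hvmod
    · norm_num at hXcard; omega
    · norm_num at hvmod
    · norm_num at hXcard; omega
  obtain ⟨⟨x', hx', hx1⟩, horb⟩ := exists_orbit hP3 hX9
  obtain ⟨x, hxV, rfl⟩ := hx'
  have hxW : x ∉ W := fun h => hx1 ((hfk x).mpr h)
  have hdP : d ∈ P := hP ▸ mem_sup_left (mem_zpowers d)
  have hsP : s ∈ P := hP ▸ mem_sup_right hsA
  have hsn : ∀ z ∈ V, s * z * s⁻¹ ∈ V := fun z hz => (mem_normalizer_iff.mp hsV z).mp hz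
  have hdn : ∀ z ∈ V, d * z * d⁻¹ ∈ V := fun z hz => (mem_normalizer_iff.mp hdV z).mp hz
  obtain ⟨y, hy⟩ : ∃ y, y = s * x * s⁻¹ := ⟨_, rfl⟩
  obtain ⟨z, hz⟩ : ∃ z, z = s * y * s⁻¹ := ⟨_, rfl⟩
  have hyV : y ∈ V := hy ▸ hsn x hxV
  have hzV : z ∈ V := hz ▸ hsn y hyV
  have hzx : s * z * s⁻¹ = x := by
    have h3 : s ^ 3 = 1 := hs ▸ pow_orderOf_eq_one s
    rw [hz, hy]
    calc s * (s * (s * x * s⁻¹) * s⁻¹) * s⁻¹ = s ^ 3 * x * (s ^ 3)⁻¹ := by rw [pow_succ, sq]; group
      _ = x := by rw [h3]; group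
  have hsfn : ∀ u ∈ V, u ∉ W → f (s * u * s⁻¹) ≠ f u := fun u hu huW h => huW (hfixf u hu h)
  have hWs : ∀ u, s * u * s⁻¹ ∈ W → u ∈ W := fun u h => by
    have := (inferInstance : W.Normal).conj_mem _ h s⁻¹
    simpa [mul_assoc] using this
  have hyW : y ∉ W := fun h => hxW (hWs x (hy ▸ h))
  have hzW : z ∉ W := fun h => hyW (hWs y (hz ▸ h))
  have hxy : f y ≠ f x := hy ▸ hsfn x hxV hxW
  have hyz : f z ≠ f y := hz ▸ hsfn y hyV hyW
  have hzx' : f x ≠ f z := by
    have := hsfn z hzV hzW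
    rwa [hzx] at this
  -- the image of `x` under `d`
  have hdx : f (d * x * d⁻¹) = f x ∨ f (d * x * d⁻¹) = f y ∨ f (d * x * d⁻¹) = f z := by
    obtain ⟨O, hO⟩ : ∃ O : Set X, O = MulAction.orbit P (⟨f x, ⟨x, hxV, rfl⟩, hx1⟩ : X) := ⟨_, rfl⟩
    rw [← hO] at horb
    let mk : ∀ u ∈ V, u ∉ W → X := fun u hu huW => ⟨f u, ⟨u, hu, rfl⟩, fun h => huW ((hfk u).mp h)⟩
    have hm : ∀ (g : G) (hg : g ∈ P) (hgx : g * x * g⁻¹ ∈ V) (hgW : g * x * g⁻¹ ∉ W), mk (g * x * g⁻¹) hgx hgW ∈ O := by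
      intro g hg hgx hgW
      rw [hO]
      refine ⟨⟨g, hg⟩, Subtype.ext ?_⟩
      change f g * f x * (f g)⁻¹ = f (g * x * g⁻¹)
      rw [map_mul, map_mul, map_inv]
    have h1 : mk x hxV hxW ∈ O := by rw [hO]; exact MulAction.mem_orbit_self _
    have h2 : mk y hyV hyW ∈ O := by
      have := hm s hsP (by rw [← hy]; exact hyV) (by rw [← hy]; exact hyW)
      simp only [← hy] at this
      exact this
    have h3 : mk z hzV hzW ∈ O := by
      have e : (s * s) * x * (s * s)⁻¹ = z := by rw [hz, hy]; group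
      have := hm (s * s) (mul_mem hsP hsP) (by rw [e]; exact hzV) (by rw [e]; exact hzW)
      simp only [e] at this
      exact this
    have hdW' : d * x * d⁻¹ ∉ W := fun h => hxW (by
      have := (inferInstance : W.Normal).conj_mem _ h d⁻¹
      simpa [mul_assoc] using this)
    have h4 := hm d hdP (hdn x hxV) hdW'
    by_contra hcon
    push Not at hcon
    obtain ⟨c1, c2, c3⟩ := hcon
    have h5 : ({mk x hxV hxW, mk y hyV hyW, mk z hzV hzW, mk (d * x * d⁻¹) (hdn x hxV) hdW'} : Finset X).card = 4 := by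
      have e : ∀ a b : X, a.1 ≠ b.1 → a ≠ b := fun a b h h' => h (congrArg Subtype.val h')
      rw [Finset.card_insert_of_notMem, Finset.card_insert_of_notMem, Finset.card_insert_of_notMem, Finset.card_singleton]
      · simp only [Finset.mem_singleton]
        exact e _ _ c3.symm
      · simp only [Finset.mem_insert, Finset.mem_singleton, not_or]
        exact ⟨e _ _ hyz.symm, e _ _ c2.symm⟩
      · simp only [Finset.mem_insert, Finset.mem_singleton, not_or]
        exact ⟨e _ _ hxy.symm, e _ _ hzx', e _ _ c1.symm⟩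
    have h6 : (({mk x hxV hxW, mk y hyV hyW, mk z hzV hzW, mk (d * x * d⁻¹) (hdn x hxV) hdW'} : Finset X) : Set X) ⊆ O := by
      intro u hu
      simp only [Finset.coe_insert, Finset.coe_singleton, Set.mem_insert_iff, Set.mem_singleton_iff] at hu
      rcases hu with rfl | rfl | rfl | rfl
      · exact h1
      · exact h2
      · exact h3
      · exact h4
    have h7 := Set.ncard_le_ncard h6 (Set.toFinite O)
    rw [Set.ncard_coe_finset, h5] at h7
    have h8 : O.ncard ≤ 3 := horb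
    omega
  have hcen : ∀ w ∈ W, ∀ u ∈ V, u * w = w * u := fun w hw u hu => mem_centralizer_iff.mp (hWcV hw) u hu
  have hcomm : ∀ u ∈ V, ∀ u' ∈ V, f u = f u' → ∀ v ∈ V, ∀ v' ∈ V, f v = f v' → u * v * u⁻¹ * v⁻¹ = u' * v' * u'⁻¹ * v'⁻¹ := by
    intro u hu u' hu' huu v hv v' hv' hvv
    obtain ⟨w, hw, rfl⟩ : ∃ w ∈ W, u' = u * w := ⟨_, (hfe _ _).mp huu, by group⟩
    obtain ⟨w', hw', rfl⟩ : ∃ w' ∈ W, v' = v * w' := ⟨_, (hfe _ _).mp hvv, by group⟩
    have e1 := hcen w hw v hv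
    have e2 := hcen w' hw' u hu
    have e3 : w' * w = w * w' := hcen w hw w' (hWV hw')
    have e4 : w * v * w⁻¹ = v := by rw [← e1, mul_inv_cancel_right]
    symm
    calc u * w * (v * w') * (u * w)⁻¹ * (v * w')⁻¹ = u * (w * v) * (w' * w⁻¹) * u⁻¹ * w'⁻¹ * v⁻¹ := by group
      _ = u * (v * w) * (w' * w⁻¹) * u⁻¹ * w'⁻¹ * v⁻¹ := by rw [← e1]
      _ = u * v * (w * w') * w⁻¹ * u⁻¹ * w'⁻¹ * v⁻¹ := by group
      _ = u * v * (w' * w) * w⁻¹ * u⁻¹ * w'⁻¹ * v⁻¹ := by rw [e3]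
      _ = u * v * (w' * u⁻¹) * w'⁻¹ * v⁻¹ := by group
      _ = u * v * (u⁻¹ * w') * w'⁻¹ * v⁻¹ := by rw [← hcen w' hw' u⁻¹ (inv_mem hu)]
      _ = u * v * u⁻¹ * v⁻¹ := by group
  obtain ⟨c, hc⟩ : ∃ c, c = x * y * x⁻¹ * y⁻¹ := ⟨_, rfl⟩
  have hcW' : c ∈ W := hc ▸ hcW x hxV y hyV
  have hsc : ∀ w ∈ W, s * w * s⁻¹ = w := fun w hw => by rw [hsW w hw, mul_inv_cancel_right]
  have hc1 : y * z * y⁻¹ * z⁻¹ = c := by
    have e : s * c * s⁻¹ = (s * x * s⁻¹) * (s * y * s⁻¹) * (s * x * s⁻¹)⁻¹ * (s * y * s⁻¹)⁻¹ := by rw [hc]; group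
    rw [← hy, ← hz, hsc c hcW'] at e
    exact e.symm
  have hc2 : z * x * z⁻¹ * x⁻¹ = c := by
    have e : s * c * s⁻¹ = (s * y * s⁻¹) * (s * z * s⁻¹) * (s * y * s⁻¹)⁻¹ * (s * z * s⁻¹)⁻¹ := by rw [← hc1]; group
    rw [← hz, hzx, hsc c hcW'] at e
    exact e.symm
  have hdy : d * y * d⁻¹ = s * (d * x * d⁻¹) * s⁻¹ := by
    rw [hy]
    calc d * (s * x * s⁻¹) * d⁻¹ = (d * s) * x * (d * s)⁻¹ := by group
      _ = (s * d) * x * (s * d)⁻¹ := by rw [hsd.eq]
      _ = _ := by group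
  have hfs : ∀ u v, f u = f v → f (s * u * s⁻¹) = f (s * v * s⁻¹) := by
    intro u v h
    rw [map_mul, map_mul, map_mul, map_mul, h]
  have hdc : d * c * d⁻¹ = c := by
    have e0 : d * c * d⁻¹ = (d * x * d⁻¹) * (d * y * d⁻¹) * (d * x * d⁻¹)⁻¹ * (d * y * d⁻¹)⁻¹ := by rw [hc]; group
    rw [e0]
    rcases hdx with h | h | h
    · have h' : f (d * y * d⁻¹) = f y := by rw [hdy, hfs _ _ h, ← hy]
      rw [hcomm _ (hdn x hxV) x hxV h _ (hdn y hyV) y hyV h', hc]
    · have h' : f (d * y * d⁻¹) = f z := by rw [hdy, hfs _ _ h, ← hz]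
      rw [hcomm _ (hdn x hxV) y hyV h _ (hdn y hyV) z hzV h', hc1]
    · have h' : f (d * y * d⁻¹) = f x := by rw [hdy, hfs _ _ h, hzx]
      rw [hcomm _ (hdn x hxV) z hzV h _ (hdn y hyV) x hxV h', hc2]
  have hc0 : c = 1 := by
    have h1 : zpowers c ≤ W := zpowers_le.mpr hcW'
    have h2 : d ∈ normalizer ((zpowers c : Subgroup G) : Set G) := by
      apply mem_norm_fin
      intro u hu
      obtain ⟨k, rfl⟩ := mem_zpowers_iff.mp hu
      have h3 : Commute d c := mul_inv_eq_iff_eq_mul.mp hdc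
      rw [(h3.zpow_right k).eq, mul_inv_cancel_right]
      exact zpow_mem (mem_zpowers c) k
    rcases hdW _ h1 h2 with h3 | h3
    · exact zpowers_eq_bot.mp h3
    · exfalso
      have h4 : Nat.card (zpowers c) = 4 := by rw [h3, hW4]
      rw [Nat.card_zpowers] at h4
      have h5 : c ^ 2 = 1 := (hinv c (hWQ hcW')).mpr hcW'
      have h6 := Nat.le_of_dvd (by norm_num) (orderOf_dvd_of_pow_eq_one h5)
      omega
  -- the final subgroup
  obtain ⟨U, hU⟩ : ∃ U : Subgroup G, U = closure ((W : Set G) ∪ {x, y}) := ⟨_, rfl⟩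
  have hWU : W ≤ U := fun w hw => hU ▸ subset_closure (Or.inl hw)
  have hxU : x ∈ U := hU ▸ subset_closure (Or.inr (by simp))
  have hyU : y ∈ U := hU ▸ subset_closure (Or.inr (by simp))
  have hUV : U ≤ V := by
    rw [hU, closure_le]
    rintro u (hu | hu)
    · exact hWV hu
    · simp only [Set.mem_insert_iff, Set.mem_singleton_iff] at hu
      rcases hu with rfl | rfl
      · exact hxV
      · exact hyV
  have hxyc : x * y = y * x := by
    rw [hc] at hc0
    calc x * y = (x * y * x⁻¹ * y⁻¹) * (y * x) := by group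
      _ = y * x := by rw [hc0, one_mul]
  have hUc : IsMulCommutative U := by
    rw [hU]
    apply isMulCommutative_closure
    rintro a (ha | ha) b (hb | hb)
    · exact hcen b hb a (hWV ha)
    · simp only [Set.mem_insert_iff, Set.mem_singleton_iff] at hb
      rcases hb with rfl | rfl
      · exact (hcen a ha b hxV).symm
      · exact (hcen a ha b hyV).symm
    · simp only [Set.mem_insert_iff, Set.mem_singleton_iff] at ha
      rcases ha with rfl | rfl
      · exact hcen b hb a hxV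
      · exact hcen b hb a hyV
    · simp only [Set.mem_insert_iff, Set.mem_singleton_iff] at ha hb
      rcases ha with rfl | rfl <;> rcases hb with rfl | rfl
      · rfl
      · exact hxyc
      · exact hxyc.symm
      · rfl
  have hzU : z ∈ U := by
    have h1 : x * y * z ∈ W := by
      apply hfixf _ (mul_mem (mul_mem hxV hyV) hzV)
      have e : s * (x * y * z) * s⁻¹ = y * z * x := by
        calc s * (x * y * z) * s⁻¹ = (s * x * s⁻¹) * (s * y * s⁻¹) * (s * z * s⁻¹) := by group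
          _ = y * z * x := by rw [hzx, ← hy, ← hz]
      rw [e]
      have hcc : ∀ u ∈ V, ∀ v ∈ V, f u * f v = f v * f u := fun u hu v hv =>
        congrArg Subtype.val (hVc.is_comm.comm (⟨f u, mem_map_of_mem f hu⟩ : V.map f) ⟨f v, mem_map_of_mem f hv⟩)
      rw [map_mul f (y * z) x, hcc _ (mul_mem hyV hzV) _ hxV, ← map_mul, mul_assoc]
    have h2 : z = (x * y)⁻¹ * (x * y * z) := by group
    rw [h2]
    exact mul_mem (inv_mem (mul_mem hxU hyU)) (hWU h1)
  have hWn : ∀ g w, w ∈ W → g * w * g⁻¹ ∈ W := fun g w hw => (inferInstance : W.Normal).conj_mem w hw g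
  have hgen : ∀ g : G, g * x * g⁻¹ ∈ U → g * y * g⁻¹ ∈ U → g ∈ normalizer (U : Set G) := by
    intro g h1 h2
    apply mem_norm_fin
    have h3 : U.map (MulAut.conj g).toMonoidHom ≤ U := by
      nth_rewrite 1 [hU]
      rw [MonoidHom.map_closure, closure_le]
      rintro _ ⟨u, hu | hu, rfl⟩
      · exact hWU (hWn g u hu)
      · simp only [Set.mem_insert_iff, Set.mem_singleton_iff] at hu
        rcases hu with rfl | rfl
        · exact h1
        · exact h2
    intro u hu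
    exact h3 (mem_map_of_mem _ hu)
  have hfU : ∀ u v, f u = f v → v ∈ U → u ∈ U := by
    intro u v h hv
    have h1 := (hfe _ _).mp h.symm
    have h2 : u = v * (v⁻¹ * u) := by group
    rw [h2]
    exact mul_mem hv (hWU h1)
  have hsU : s ∈ normalizer (U : Set G) := hgen s (hy ▸ hyU) (hz ▸ hzU)
  have hdU : d ∈ normalizer (U : Set G) := by
    rcases hdx with h | h | h
    · exact hgen d (hfU _ _ h hxU) (hfU _ y (by rw [hdy, hfs _ _ h, ← hy]) hyU)
    · exact hgen d (hfU _ _ h hyU) (hfU _ z (by rw [hdy, hfs _ _ h, ← hz]) hzU)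
    · exact hgen d (hfU _ _ h hzU) (hfU _ x (by rw [hdy, hfs _ _ h, hzx]) hxU)
  have hne : U ≠ V := fun h => hnc (h ▸ hUc)
  have h1 := hmin U hUV hne hsU hdU
  exact hxW (hfixs x hxV ((hcenA x).mp (h1 hxU)))

end Cfsg.Agent.H2.SixElt
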