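import Mathlib
import Cfsg.Prelude
import Cfsg.Agent.Lib.Cores
import Cfsg.Agent.Lib.Nilp
import Cfsg.Agent.Lib.Coprime
import Cfsg.Agent.Lib.Components
import Cfsg.Agent.H2.PUtil
import Cfsg.Agent.H2.SixElt

set_option autoImplicit false

/-! CN-groups. -/

namespace Cfsg.Agent.H2.CN

open Subgroup Cfsg.Agent.Lib Cfsg.Agent.Lib.Cores Cfsg.Agent.Lib.Coprime
open scoped Pointwise

universe u
variable {G : Type u} [Group G]

theorem comm_of_coprime_order (G : Type u) [Group G] [Group.IsNilpotent G] :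
    ∀ x y : G, ∀ m n : ℕ, x ^ m = 1 → y ^ n = 1 → m.Coprime n → x * y = y * x := by
  apply Group.nilpotent_center_quotient_ind (P := fun G _ _ => ∀ x y : G, ∀ m n : ℕ, x ^ m = 1 → y ^ n = 1 → m.Coprime n → x * y = y * x)
  · intro G _ _ x y m n _ _ _
    exact Subsingleton.elim _ _
  · intro G _ _ ih x y m n hx hy hmn
    have h1 := ih (QuotientGroup.mk' (center G) x) (QuotientGroup.mk' (center G) y) m n
      (by rw [← map_pow, hx, map_one]) (by rw [← map_pow, hy, map_one]) hmn
    have h2 : x * y * x⁻¹ * y⁻¹ ∈ center G := by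
      rw [← QuotientGroup.eq_one_iff]
      change QuotientGroup.mk' (center G) (x * y * x⁻¹ * y⁻¹) = 1
      rw [map_mul, map_mul, map_mul, h1, map_inv, map_inv]; group
    obtain ⟨z, hz⟩ : ∃ z, z = x * y * x⁻¹ * y⁻¹ := ⟨_, rfl⟩
    rw [← hz] at h2
    have h3 : ∀ g : G, z * g = g * z := fun g => (mem_center_iff.mp h2 g).symm
    have h4 : y * x = z⁻¹ * (x * y) := by
      rw [hz]; group
    have e1 : ∀ k : ℕ, x ^ k * y * (x ^ k)⁻¹ * y⁻¹ = z ^ k := by
      intro k
      induction k with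
      | zero => group
      | succ k ihk =>
        have : x ^ (k + 1) * y * (x ^ (k + 1))⁻¹ * y⁻¹ = x * (x ^ k * y * (x ^ k)⁻¹ * y⁻¹) * x⁻¹ * (x * y * x⁻¹ * y⁻¹) := by
          rw [pow_succ' x k]; simp only [mul_assoc, mul_inv_rev, inv_mul_cancel_left]
        rw [this, ihk, ← hz]
        have h5 : x * z ^ k = z ^ k * x := ((show Commute z x from h3 x).pow_left k).eq.symm
        rw [h5, mul_inv_cancel_right, pow_succ]
    have e2 : ∀ k : ℕ, x * y ^ k * x⁻¹ * (y ^ k)⁻¹ = z ^ k := by
      intro k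
      induction k with
      | zero => group
      | succ k ihk =>
        have : x * y ^ (k + 1) * x⁻¹ * (y ^ (k + 1))⁻¹ = (x * y * x⁻¹ * y⁻¹) * (y * (x * y ^ k * x⁻¹ * (y ^ k)⁻¹) * y⁻¹) := by
          rw [pow_succ' y k]; simp only [mul_assoc, mul_inv_rev, inv_mul_cancel_left]
        rw [this, ihk, ← hz]
        have h5 : y * z ^ k = z ^ k * y := ((show Commute z y from h3 y).pow_left k).eq.symm
        rw [h5, mul_inv_cancel_right, pow_succ']
    have h6 : z ^ m = 1 := by rw [← e1, hx]; group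
    have h7 : z ^ n = 1 := by rw [← e2, hy]; group
    have h8 : orderOf z ∣ 1 := by
      rw [← hmn]
      exact Nat.dvd_gcd (_root_.orderOf_dvd_of_pow_eq_one h6) (_root_.orderOf_dvd_of_pow_eq_one h7)
    have h9 : z = 1 := orderOf_eq_one_iff.mp (Nat.dvd_one.mp h8)
    rw [h9, inv_one, one_mul] at h4
    exact h4.symm

theorem comm_of_mem {N : Subgroup G} (hN : Group.IsNilpotent N) {x y : G} (hx : x ∈ N) (hy : y ∈ N) {m n : ℕ} (hxm : x ^ m = 1)
    (hyn : y ^ n = 1) (hmn : m.Coprime n) : x * y = y * x := by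
  have h1 := comm_of_coprime_order N ⟨x, hx⟩ ⟨y, hy⟩ m n (Subtype.ext hxm) (Subtype.ext hyn) hmn
  exact congrArg Subtype.val h1

theorem mem_cent {x y : G} (h : x * y = y * x) : y ∈ centralizer ({x} : Set G) :=
  mem_centralizer_singleton_iff.mpr h.symm

theorem subgroup (hCN : Cfsg.IsCNGroup G) (H : Subgroup G) : Cfsg.IsCNGroup H := by
  intro x hx
  have h1 := hCN (x : G) (fun h => hx (Subtype.ext h))
  apply Components.isNilpotent_of_injective ((H.subtype.comp (centralizer ({x} : Set H)).subtype).codRestrict (centralizer ({(x : G)} : Set G)) ?_) ?_ h1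
  · rintro ⟨y, hy⟩
    rw [mem_centralizer_singleton_iff]
    exact congrArg Subtype.val (mem_centralizer_singleton_iff.mp hy)
  · intro a b hab
    have h2 := congrArg Subtype.val hab
    exact Subtype.ext (Subtype.ext h2)

theorem of_equiv {K : Type*} [Group K] (e : G ≃* K) (hCN : Cfsg.IsCNGroup G) : Cfsg.IsCNGroup K := by
  intro x hx
  have h1 := hCN (e.symm x) (fun h => hx (by rw [← e.apply_symm_apply x, h, map_one]))
  apply Components.isNilpotent_of_injective ((e.symm.toMonoidHom.comp (centralizer ({x} : Set K)).subtype).codRestrict (centralizer ({e.symm x} : Set G)) ?_) ?_ h1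
  · rintro ⟨y, hy⟩
    rw [mem_centralizer_singleton_iff]
    change e.symm y * e.symm x = e.symm x * e.symm y
    rw [← map_mul, ← map_mul, mem_centralizer_singleton_iff.mp hy]
  · intro a b hab
    have h2 := congrArg Subtype.val hab
    exact Subtype.ext (e.symm.injective h2)

theorem exists_fixed [Finite G] {p : ℕ} [hp : Fact p.Prime] {A V : Subgroup G} (hA : IsPGroup p A) (hV : IsPGroup p V) (hV1 : V ≠ ⊥)
    (hAV : A ≤ normalizer (V : Set G)) : ∃ z ∈ V, z ≠ 1 ∧ ∀ a ∈ A, a * z = z * a := by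
  have h1 := SixElt.card_mod hA hAV
  have h2 : p ∣ Nat.card V := by
    obtain ⟨n, hn⟩ := IsPGroup.iff_card.mp hV
    rw [hn]
    apply dvd_pow_self
    rintro rfl
    exact hV1 (card_eq_one.mp (by rw [hn, pow_zero]))
  have h3 : p ∣ Nat.card (V ⊓ centralizer (A : Set G) : Subgroup G) := (Nat.modEq_zero_iff_dvd.mp (h1.symm.trans (Nat.modEq_zero_iff_dvd.mpr h2)))
  have h4 : (V ⊓ centralizer (A : Set G) : Subgroup G) ≠ ⊥ := by
    intro h
    rw [h, card_bot] at h3
    exact hp.out.one_lt.ne' (Nat.dvd_one.mp h3)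
  obtain ⟨z, hz1⟩ := ne_bot_iff_exists_ne_one.mp h4
  exact ⟨z, (mem_inf.mp z.2).1, fun h => hz1 (Subtype.ext h), fun a ha => mem_centralizer_iff.mp (mem_inf.mp z.2).2 a ha⟩

/-- quotient by a normal abelian `p`-subgroup -/
theorem quot_abelian [Finite G] (hCN : Cfsg.IsCNGroup G) {p : ℕ} [hp : Fact p.Prime] (H : Subgroup G) [hHn : H.Normal] (hHa : IsMulCommutative H)
    (hHp : IsPGroup p H) (hH1 : H ≠ ⊥) : Cfsg.IsCNGroup (G ⧸ H) := by
  -- elements of prime order suffice
  suffices hkey : ∀ x : G ⧸ H, (orderOf x).Prime → Group.IsNilpotent (centralizer ({x} : Set (G ⧸ H))) by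
    intro x hx
    obtain ⟨r, hr, hd⟩ := Nat.exists_prime_and_dvd (fun h => hx (orderOf_eq_one_iff.mp h))
    obtain ⟨k, hk⟩ := hd
    have hk0 : 0 < orderOf x := orderOf_pos x
    have h1 : orderOf (x ^ k) = r := by
      rw [orderOf_pow' x (by rintro rfl; rw [mul_zero] at hk; omega), hk, Nat.gcd_eq_right (Dvd.intro_left r rfl),
        Nat.mul_div_cancel _ (Nat.pos_of_ne_zero (by rintro rfl; rw [mul_zero] at hk; omega))]
    apply isNilpotent_of_le (B := centralizer ({x ^ k} : Set (G ⧸ H))) ?_ (hkey _ (h1 ▸ hr))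
    intro y hy
    rw [mem_centralizer_singleton_iff] at hy ⊢
    exact ((show Commute y x from hy).pow_right k).eq
  intro xb hxb
  obtain ⟨r, hr⟩ : ∃ r, r = orderOf xb := ⟨_, rfl⟩
  rw [← hr] at hxb
  haveI hrf : Fact r.Prime := ⟨hxb⟩
  obtain ⟨x, rfl⟩ := QuotientGroup.mk'_surjective H xb
  have hf := QuotientGroup.mk'_surjective H
  obtain ⟨n, hn⟩ := IsPGroup.iff_card.mp hHp
  have hHsol : Group.IsSolvable H := CoprimeB.isSolvable_of_comm hHa
  have hHexp : ∀ h ∈ H, h ^ p ^ n = 1 := by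
    intro h hh
    have h1 : (⟨h, hh⟩ : H) ^ Nat.card H = 1 := pow_card_eq_one'
    rw [hn] at h1
    exact congrArg Subtype.val h1
  have hxr : x ^ r ∈ H := by
    rw [← QuotientGroup.eq_one_iff]
    change QuotientGroup.mk' H (x ^ r) = 1
    rw [map_pow, hr, pow_orderOf_eq_one]
  have hxH : x ∉ H := by
    intro h
    have h1 : QuotientGroup.mk' H x = 1 := (QuotientGroup.eq_one_iff x).mpr h
    rw [h1, orderOf_one] at hr
    exact hxb.one_lt.ne' hr
  obtain ⟨K, hK⟩ : ∃ K, K = (centralizer ({QuotientGroup.mk' H x} : Set (G ⧸ H))).comap (QuotientGroup.mk' H) := ⟨_, rfl⟩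
  have hKmap : centralizer ({QuotientGroup.mk' H x} : Set (G ⧸ H)) = K.map (QuotientGroup.mk' H) := by
    rw [hK, map_comap_eq_self_of_surjective hf]
  have hKm : ∀ g ∈ K, g⁻¹ * (x * g * x⁻¹) ∈ H := by
    intro g hg
    rw [hK, mem_comap, mem_centralizer_singleton_iff] at hg
    rw [← QuotientGroup.eq_one_iff]
    change QuotientGroup.mk' H (g⁻¹ * (x * g * x⁻¹)) = 1
    rw [map_mul, map_mul, map_mul, map_inv, map_inv, ← hg]; group
  by_cases hrp : r = p
  · -- `p`-elements
    have hHK : H ≤ K := by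
      intro h hh
      rw [hK, mem_comap, mem_centralizer_singleton_iff]
      have h1 : QuotientGroup.mk' H h = 1 := (QuotientGroup.eq_one_iff h).mpr hh
      rw [h1, one_mul, mul_one]
    -- elements of `K` of order prime to `p` centralise `H`
    have hcent : ∀ y ∈ K, ∀ m : ℕ, m.Coprime p → y ^ m = 1 → ∀ h ∈ H, y * h = h * y := by
      intro y hy m hm hym h hh
      have hcop : (Nat.card (zpowers y)).Coprime (Nat.card H) := by
        rw [Nat.card_zpowers, hn]
        exact Nat.Coprime.coprime_dvd_left (_root_.orderOf_dvd_of_pow_eq_one hym) (Nat.Coprime.pow_right n hm)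
      obtain ⟨d, hd, hxd⟩ := exists_mem_centralizer_coset (A := zpowers y) (D := H) le_normalizer_of_normal hcop (Or.inr hHsol) x (by
        intro a ha
        have haK : a ∈ K := (zpowers_le.mpr hy) ha
        have h1 := hKm a⁻¹ (inv_mem haK)
        have h2 : x⁻¹ * (a * x * a⁻¹) = x⁻¹ * (a⁻¹⁻¹ * (x * a⁻¹ * x⁻¹)) * x⁻¹⁻¹ := by group
        rw [h2]
        exact hHn.conj_mem _ h1 _)
      have hxd1 : x * d ≠ 1 := by
        intro h1
        apply hxH
        rw [eq_inv_of_mul_eq_one_left h1]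
        exact inv_mem hd
      have hyx : (x * d) * y = y * (x * d) := (mem_centralizer_iff.mp hxd y (mem_zpowers y)).symm
      have hN1 := hCN _ hxd1
      -- a nontrivial element of `H` centralised by `x * d`
      obtain ⟨z, hz, hz1, hzx⟩ : ∃ z ∈ H, z ≠ 1 ∧ (x * d) * z = z * (x * d) := by
        have hp' : IsPGroup p (zpowers (x * d)) := by
          have h1 : (x * d) ^ p ∈ H := by
            rw [← QuotientGroup.eq_one_iff]
            change QuotientGroup.mk' H ((x * d) ^ p) = 1
            have h2 : QuotientGroup.mk' H d = 1 := (QuotientGroup.eq_one_iff d).mpr hd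
            rw [map_pow, map_mul, h2, mul_one, ← map_pow, ← hrp]
            exact (QuotientGroup.eq_one_iff _).mpr hxr
          have h2 := hHexp _ h1
          rw [← pow_mul, ← pow_succ'] at h2
          apply IsPGroup.of_card (n := 0 + Nat.log p (Nat.card (zpowers (x * d))))
          have h3 : Nat.card (zpowers (x * d)) ∣ p ^ (n + 1) := by
            rw [Nat.card_zpowers]; exact _root_.orderOf_dvd_of_pow_eq_one h2
          obtain ⟨k, _, hk⟩ := (Nat.dvd_prime_pow hp.out).mp h3
          rw [hk, Nat.log_pow hp.out.one_lt, zero_add]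
        obtain ⟨z, hz, hz1, hzc⟩ := exists_fixed hp' hHp hH1 le_normalizer_of_normal
        exact ⟨z, hz, hz1, hzc _ (mem_zpowers _)⟩
      have hyz : y * z = z * y := comm_of_mem hN1 (mem_cent hyx) (mem_cent hzx) hym (hHexp z hz) (Nat.Coprime.pow_right n hm)
      have hN2 := hCN z hz1
      exact comm_of_mem hN2 (mem_cent hyz.symm) (mem_cent (hHa.is_comm.comm ⟨z, hz⟩ ⟨h, hh⟩ |> congrArg Subtype.val)) hym (hHexp h hh) (Nat.Coprime.pow_right n hm)
    -- a Sylow `p`-subgroup of `K`
    obtain ⟨P₁⟩ := (inferInstance : Nonempty (Sylow p K))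
    obtain ⟨P, hP⟩ : ∃ P, P = (P₁ : Subgroup K).map K.subtype := ⟨_, rfl⟩
    have hPp : IsPGroup p P := hP ▸ P₁.isPGroup'.map _
    obtain ⟨z, hz, hz1, hzP⟩ := exists_fixed hPp hHp hH1 le_normalizer_of_normal
    have hKz : (centralizer ({z} : Set G)).subgroupOf K = ⊤ := by
      apply eq_top_of_sylow_le
      intro q hq
      haveI hqf : Fact q.Prime := ⟨hq⟩
      by_cases hqp : q = p
      · subst hqp
        refine ⟨P₁, fun y hy => ?_⟩
        rw [mem_subgroupOf]
        exact mem_cent (hzP y (hP ▸ ⟨y, hy, rfl⟩)).symm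
      · obtain ⟨Q⟩ := (inferInstance : Nonempty (Sylow q K))
        refine ⟨Q, fun y hy => ?_⟩
        rw [mem_subgroupOf]
        obtain ⟨k, hk⟩ := Q.isPGroup' ⟨y, hy⟩
        have hk' : (y : G) ^ q ^ k = 1 := congrArg (fun t => ((t : K) : G)) (congrArg Subtype.val hk)
        exact mem_cent (hcent y y.2 (q ^ k) (Nat.Coprime.pow_left k ((Nat.coprime_primes hq hp.out).mpr hqp)) hk' z hz).symm
    have hKle : K ≤ centralizer ({z} : Set G) := subgroupOf_eq_top.mp hKz
    have hKnil : Group.IsNilpotent K := isNilpotent_of_le hKle (hCN z hz1)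
    rw [hKmap]
    exact Group.nilpotent_of_surjective ((QuotientGroup.mk' H).subgroupMap K) ((QuotientGroup.mk' H).subgroupMap_surjective K)
  · -- `p'`-elements
    -- replace `x` by an element of order prime to `p`
    obtain ⟨x', hx', m, hm, hxm⟩ : ∃ x', QuotientGroup.mk' H x' = QuotientGroup.mk' H x ∧ ∃ m : ℕ, m.Coprime p ∧ x' ^ m = 1 := by
      have hc : (p ^ n).Coprime r := Nat.Coprime.pow_left n ((Nat.coprime_primes hp.out hxb).mpr (Ne.symm hrp))
      obtain ⟨j, hj⟩ : ∃ j : ℕ, (QuotientGroup.mk' H x) ^ (p ^ n * j) = QuotientGroup.mk' H x := by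
        rw [hr] at hc
        obtain ⟨j, hj⟩ := _root_.exists_pow_eq_self_of_coprime (x := QuotientGroup.mk' H x) hc
        exact ⟨j, by rw [pow_mul, hj]⟩
      refine ⟨x ^ (p ^ n * j), by rw [map_pow, hj], r, (Nat.coprime_primes hxb hp.out).mpr hrp, ?_⟩
      have : (x ^ (p ^ n * j)) ^ r = ((x ^ r) ^ p ^ n) ^ j := by
        rw [← pow_mul, ← pow_mul, ← pow_mul]; congr 1; ring
      rw [this, hHexp _ hxr, one_pow]
    rw [← hx'] at hKmap hK ⊢
    have hx'1 : x' ≠ 1 := by
      rintro rfl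
      rw [map_one] at hx'
      exact hxH ((QuotientGroup.eq_one_iff x).mp hx'.symm)
    have hcop : (Nat.card (zpowers x')).Coprime (Nat.card H) := by
      rw [Nat.card_zpowers, hn]
      exact Nat.Coprime.coprime_dvd_left (_root_.orderOf_dvd_of_pow_eq_one hxm) (Nat.Coprime.pow_right n hm)
    have hle : K.map (QuotientGroup.mk' H) ≤ (centralizer ({x'} : Set G)).map (QuotientGroup.mk' H) := by
      rintro _ ⟨g, hg, rfl⟩
      have hgc : ∀ a ∈ zpowers x', QuotientGroup.mk' H g * QuotientGroup.mk' H a = QuotientGroup.mk' H a * QuotientGroup.mk' H g := by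
        intro a ha
        obtain ⟨k, rfl⟩ := ha
        rw [hK] at hg
        have h1 := mem_centralizer_singleton_iff.mp (mem_comap.mp hg)
        change _ * QuotientGroup.mk' H (x' ^ k) = QuotientGroup.mk' H (x' ^ k) * _
        rw [map_zpow]
        exact ((show Commute (QuotientGroup.mk' H g) (QuotientGroup.mk' H x') from h1).zpow_right k).eq
      obtain ⟨d, hd, hgd⟩ := exists_mem_centralizer_coset (A := zpowers x') (D := H) le_normalizer_of_normal hcop (Or.inr hHsol) g (by
        intro a ha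
        rw [← QuotientGroup.eq_one_iff]
        change QuotientGroup.mk' H (g⁻¹ * (a * g * a⁻¹)) = 1
        rw [map_mul, map_mul, map_mul, map_inv, map_inv, ← hgc a ha]; group)
      refine ⟨g * d, ?_, ?_⟩
      · exact mem_cent (mem_centralizer_iff.mp hgd x' (mem_zpowers x'))
      · have h2 : QuotientGroup.mk' H d = 1 := (QuotientGroup.eq_one_iff d).mpr hd
        rw [map_mul, h2, mul_one]
    rw [hKmap]
    apply isNilpotent_of_le hle
    haveI := hCN x' hx'1
    exact Group.nilpotent_of_surjective ((QuotientGroup.mk' H).subgroupMap (centralizer ({x'} : Set G))) ((QuotientGroup.mk' H).subgroupMap_surjective _)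

theorem quotient_aux (n : ℕ) : ∀ (G : Type u) [Group G] [Finite G], Nat.card G ≤ n → Cfsg.IsCNGroup G → ∀ (H : Subgroup G) [H.Normal], Group.IsSolvable H →
    Cfsg.IsCNGroup (G ⧸ H) := by
  induction n with
  | zero =>
    intro G _ _ hc
    exact absurd hc (by have : 0 < Nat.card G := Nat.card_pos; omega)
  | succ n ih =>
    intro G _ _ hc hCN H hHn hHs
    by_cases hH : H = ⊥
    · subst hH
      exact of_equiv (QuotientGroup.quotientBot (G := G)).symm hCN
    obtain ⟨N, ⟨hNn, hN1, hNH⟩, hmin⟩ := (Set.toFinite {N : Subgroup G | N.Normal ∧ N ≠ ⊥ ∧ N ≤ H}).exists_minimal ⟨H, hHn, hH, le_rfl⟩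
    haveI := hNn
    have hNs : Group.IsSolvable N := Cfsg.Agent.Lib.SchurZas.isSolvable_of_le hNH hHs
    obtain ⟨hNa, p, hp, hNp⟩ := Nilp.minimal_normal_solvable_elementary hNs hN1 (by
      intro M hM hMN
      by_contra hcon
      push Not at hcon
      exact hcon.2 (le_antisymm hMN (hmin ⟨hM, hcon.1, hMN.trans hNH⟩ hMN)))
    haveI hpf : Fact p.Prime := ⟨hp⟩
    have hNpg := Nilp.isPGroup_of_pow_eq_one hNp
    have h1 := quot_abelian (p := p) hCN N hNa hNpg hN1
    haveI hHN : (H.map (QuotientGroup.mk' N)).Normal := hHn.map _ (QuotientGroup.mk'_surjective N)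
    have h2 : Nat.card (G ⧸ N) < Nat.card G := by
      rw [card_eq_card_quotient_mul_card_subgroup N]
      have h3 : 1 < Nat.card N := by
        by_contra h; push Not at h
        exact hN1 (card_eq_one.mp (le_antisymm h Nat.card_pos))
      have h4 : 0 < Nat.card (G ⧸ N) := Nat.card_pos
      nlinarith
    have h3 : Group.IsSolvable (H.map (QuotientGroup.mk' N)) := by
      haveI := hHs
      exact Group.isSolvable_of_surjective ((QuotientGroup.mk' N).subgroupMap_surjective H)
    have h4 := ih (G ⧸ N) (by omega) h1 (H.map (QuotientGroup.mk' N)) h3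
    exact of_equiv (QuotientGroup.quotientQuotientEquivQuotient N H hNH) h4

theorem quotient [Finite G] (hCN : Cfsg.IsCNGroup G) (H : Subgroup G) [H.Normal] (hH : Group.IsSolvable H) : Cfsg.IsCNGroup (G ⧸ H) :=
  quotient_aux (Nat.card G) G le_rfl hCN H hH

end Cfsg.Agent.H2.CN
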