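import Mathlib
import Cfsg.Prelude
import Cfsg.Agent.H2.CN
import Cfsg.Agent.Lib.CoprimeB

set_option autoImplicit false

/-! CN-groups: maximal nilpotent subgroups. -/

namespace Cfsg.Agent.H2.CNB

open Subgroup Cfsg.Agent.Lib Cfsg.Agent.Lib.Cores Cfsg.Agent.H2.CN
open scoped Pointwise

universe u
variable {G : Type u} [Group G]

/-- In a CN-group, an element of order prime to `p` that normalises a `p`-group `P` and commutes with a nontrivial
element of it centralises `P`. -/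
theorem centralizes [Finite G] (hCN : Cfsg.IsCNGroup G) {p : ℕ} [hp : Fact p.Prime] {P : Subgroup G} (hP : IsPGroup p P) {x y : G}
    (hx : x ∈ P) (hx1 : x ≠ 1) {m : ℕ} (hm : m.Coprime p) (hym : y ^ m = 1) (hxy : x * y = y * x) (hyP : y ∈ normalizer (P : Set G)) :
    ∀ u ∈ P, y * u = u * y := by
  have hPp : ∀ u ∈ P, ∃ k, u ^ p ^ k = 1 := by
    intro u hu
    obtain ⟨k, hk⟩ := hP ⟨u, hu⟩
    exact ⟨k, congrArg Subtype.val hk⟩
  have h1 : zpowers y ≤ centralizer (P : Set G) := by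
    apply CoprimeB.thompson_PxQ (P := zpowers x) (Q := zpowers y) (U := P) (p := p)
    · exact hP.to_le (zpowers_le.mpr hx)
    · rw [Nat.card_zpowers]
      exact Nat.Coprime.coprime_dvd_left (_root_.orderOf_dvd_of_pow_eq_one hym) hm
    · exact hP
    · rw [zpowers_le, mem_centralizer_iff]
      rintro _ ⟨k, rfl⟩
      exact ((show Commute x y from hxy).zpow_right k).eq.symm
    · exact (zpowers_le.mpr hx).trans le_normalizer
    · exact zpowers_le.mpr hyP
    · intro u hu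
      obtain ⟨huP, hux⟩ := mem_inf.mp hu
      have h2 : x * u = u * x := mem_centralizer_iff.mp hux x (mem_zpowers x)
      obtain ⟨k, hk⟩ := hPp u huP
      have h3 : y * u = u * y := comm_of_mem (hCN x hx1) (mem_cent hxy) (mem_cent h2) hym hk (Nat.Coprime.pow_right k hm)
      rw [mem_centralizer_iff]
      rintro _ ⟨k, rfl⟩
      exact ((show Commute y u from h3).zpow_left k).eq
  intro u hu
  exact (mem_centralizer_iff.mp (h1 (mem_zpowers y)) u hu).symm

theorem cent_eq (hCN : Cfsg.IsCNGroup G) {H : Subgroup G}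
    (hmax : ∀ L : Subgroup G, Group.IsNilpotent L → H ≤ L → L = H) {z : G} (hz1 : z ≠ 1) (hz : ∀ h ∈ H, z * h = h * z) :
    centralizer ({z} : Set G) = H :=
  hmax _ (hCN z hz1) fun h hh => mem_cent (hz h hh)

/-- central elements of a nilpotent subgroup of prime power order -/
theorem exists_central [Finite G] {H : Subgroup G} (hH : Group.IsNilpotent H) {q : ℕ} [hq : Fact q.Prime] (hd : q ∣ Nat.card H) :
    ∃ z ∈ H, z ≠ 1 ∧ (∃ k, z ^ q ^ k = 1) ∧ ∀ h ∈ H, z * h = h * z := by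
  obtain ⟨Q⟩ := (inferInstance : Nonempty (Sylow q H))
  haveI hQn := PUtil.sylow_normal_of_nilpotent hH Q
  have hQ1 : (Q : Subgroup H) ≠ ⊥ := by
    intro h
    have := Q.card_eq_multiplicity
    rw [h, card_bot] at this
    have h2 : q ∣ q ^ (Nat.card H).factorization q := by
      apply dvd_pow_self
      exact (hq.out.factorization_pos_of_dvd Nat.card_pos.ne' hd).ne'
    rw [← this] at h2
    exact hq.out.one_lt.ne' (Nat.dvd_one.mp h2)
  have h1 := Nilp.normal_inf_center_ne_bot (Q : Subgroup H) hQ1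
  obtain ⟨z, hz1⟩ := ne_bot_iff_exists_ne_one.mp h1
  obtain ⟨hzQ, hzc⟩ := mem_inf.mp z.2
  refine ⟨(z : H), (z : H).2, fun h => hz1 (Subtype.ext (Subtype.ext h)), ?_, ?_⟩
  · obtain ⟨k, hk⟩ := Q.isPGroup' ⟨_, hzQ⟩
    exact ⟨k, congrArg (fun t => ((t : H) : G)) (congrArg Subtype.val hk)⟩
  · intro h hh
    exact (congrArg Subtype.val (mem_center_iff.mp hzc ⟨h, hh⟩)).symm

/-- a Sylow subgroup of a maximal nilpotent subgroup -/
theorem sylow_le [Finite G] (hCN : Cfsg.IsCNGroup G) {H : Subgroup G} (hH : Group.IsNilpotent H)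
    (hmax : ∀ L : Subgroup G, Group.IsNilpotent L → H ≤ L → L = H) {p : ℕ} [hp : Fact p.Prime] (hd : p ∣ Nat.card H) :
    ∃ S : Sylow p G, (S : Subgroup G) ≤ H := by
  obtain ⟨u, hu, hu1, ⟨k, huk⟩, huc⟩ := exists_central hH hd
  have hCu := cent_eq hCN hmax hu1 huc
  obtain ⟨P⟩ := (inferInstance : Nonempty (Sylow p H))
  haveI hPn := PUtil.sylow_normal_of_nilpotent hH P
  obtain ⟨S, hS⟩ := (P.isPGroup'.map H.subtype).exists_le_sylow
  have huS : u ∈ (S : Subgroup G) := by
    apply hS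
    refine ⟨⟨u, hu⟩, ?_, rfl⟩
    have h1 : IsPGroup p (zpowers (⟨u, hu⟩ : H)) := by
      apply IsPGroup.of_card (n := Nat.log p (Nat.card (zpowers (⟨u, hu⟩ : H))))
      have h3 : Nat.card (zpowers (⟨u, hu⟩ : H)) ∣ p ^ k := by
        rw [Nat.card_zpowers]; exact _root_.orderOf_dvd_of_pow_eq_one (Subtype.ext huk)
      obtain ⟨j, _, hj⟩ := (Nat.dvd_prime_pow hp.out).mp h3
      rw [hj, Nat.log_pow hp.out.one_lt]
    obtain ⟨P', hP'⟩ := h1.exists_le_sylow
    haveI : Unique (Sylow p H) := Sylow.unique_of_normal P hPn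
    have h2 : P' = P := Subsingleton.elim _ _
    rw [← h2]
    exact hP' (mem_zpowers _)
  have hS1 : (S : Subgroup G) ≠ ⊥ := by
    intro h; rw [h] at huS; exact hu1 (mem_bot.mp huS)
  have hSn : Group.IsNilpotent (S : Subgroup G) := S.isPGroup'.isNilpotent
  have hpS : p ∣ Nat.card (S : Subgroup G) := by
    obtain ⟨n, hn⟩ := IsPGroup.iff_card.mp S.isPGroup'
    rw [hn]
    apply dvd_pow_self
    rintro rfl
    exact hS1 (card_eq_one.mp (by rw [hn, pow_zero]))
  obtain ⟨y, hy, hy1, ⟨j, hyj⟩, hyc⟩ := exists_central hSn hpS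
  have hyH : y ∈ H := by
    rw [← hCu]; exact mem_cent (hyc u huS).symm
  refine ⟨S, ?_⟩
  by_cases hHp : ∃ q : ℕ, q.Prime ∧ q ≠ p ∧ q ∣ Nat.card H
  · obtain ⟨q, hq, hqp, hqd⟩ := hHp
    haveI : Fact q.Prime := ⟨hq⟩
    obtain ⟨z, hz, hz1, ⟨i, hzi⟩, hzc⟩ := exists_central hH hqd
    rw [← cent_eq hCN hmax hz1 hzc]
    intro s hs
    obtain ⟨l, hl⟩ := S.isPGroup' ⟨s, hs⟩
    have hl' : s ^ p ^ l = 1 := congrArg Subtype.val hl
    exact mem_cent (comm_of_mem (hCN y hy1) (mem_cent (hzc y hyH).symm) (mem_cent (hyc s hs)) hzi hl'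
      (Nat.Coprime.pow _ _ ((Nat.coprime_primes hq hp.out).mpr hqp)))
  · push Not at hHp
    have hHpg : IsPGroup p H := by
      obtain ⟨n, hn⟩ : ∃ n, Nat.card H = p ^ n :=
        ⟨_, Nat.eq_prime_pow_of_unique_prime_dvd Nat.card_pos.ne' (fun {q} hq hqd => by
          by_contra hne; exact hHp q hq hne hqd)⟩
      exact IsPGroup.of_card hn
    have hHS : H ≤ (S : Subgroup G) := by
      have h1 : (P : Subgroup H) = ⊤ := by
        have h2 : IsPGroup p (⊤ : Subgroup H) := hHpg.of_equiv Subgroup.topEquiv.symm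
        exact (P.3 h2 le_top).symm
      intro h hh
      exact hS ⟨⟨h, hh⟩, h1 ▸ mem_top _, rfl⟩
    exact (hmax _ hSn hHS).le

theorem coprime_index [Finite G] (hCN : Cfsg.IsCNGroup G) {H : Subgroup G} (hH : Group.IsNilpotent H)
    (hmax : ∀ L : Subgroup G, Group.IsNilpotent L → H ≤ L → L = H) : (Nat.card H).Coprime H.index := by
  rw [Nat.coprime_iff_gcd_eq_one]
  by_contra hne
  obtain ⟨p, hp, hd⟩ := Nat.exists_prime_and_dvd hne
  haveI : Fact p.Prime := ⟨hp⟩
  obtain ⟨S, hS⟩ := sylow_le hCN hH hmax ((Nat.dvd_gcd_iff.mp hd).1)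
  exact S.not_dvd_index (((Nat.dvd_gcd_iff.mp hd).2).trans (index_dvd_of_le hS))

theorem cent_le_of_ti [Finite G] (hCN : Cfsg.IsCNGroup G) {H : Subgroup G} (hH : Group.IsNilpotent H)
    (hmax : ∀ L : Subgroup G, Group.IsNilpotent L → H ≤ L → L = H)
    (hTI : ∀ g : G, H.map (MulAut.conj g).toMonoidHom ≠ H → H ⊓ H.map (MulAut.conj g).toMonoidHom = ⊥) :
    ∀ x ∈ H, x ≠ 1 → centralizer ({x} : Set G) ≤ H := by
  -- reduction to prime order
  suffices hkey : ∀ x ∈ H, (orderOf x).Prime → centralizer ({x} : Set G) ≤ H by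
    intro x hx hx1
    obtain ⟨r, hr, hd⟩ := Nat.exists_prime_and_dvd (fun h => hx1 (orderOf_eq_one_iff.mp h))
    obtain ⟨k, hk⟩ := hd
    have hk0 : 0 < orderOf x := orderOf_pos x
    have h1 : orderOf (x ^ k) = r := by
      rw [orderOf_pow' x (by rintro rfl; rw [mul_zero] at hk; omega), hk, Nat.gcd_eq_right (Dvd.intro_left r rfl),
        Nat.mul_div_cancel _ (Nat.pos_of_ne_zero (by rintro rfl; rw [mul_zero] at hk; omega))]
    refine le_trans ?_ (hkey (x ^ k) (pow_mem hx k) (h1 ▸ hr))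
    intro y hy
    rw [mem_centralizer_singleton_iff] at hy ⊢
    exact ((show Commute y x from hy).pow_right k).eq
  intro x hx hxp
  obtain ⟨p, hpe⟩ : ∃ p, p = orderOf x := ⟨_, rfl⟩
  rw [← hpe] at hxp
  haveI hp : Fact p.Prime := ⟨hxp⟩
  have hx1 : x ≠ 1 := by
    rintro rfl; rw [orderOf_one] at hpe; exact hxp.one_lt.ne' hpe
  have hN : centralizer ({x} : Set G) ≤ normalizer (H : Set G) := by
    intro g hg
    have h1 : H.map (MulAut.conj g).toMonoidHom = H := by
      by_contra hne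
      have h2 := hTI g hne
      have h3 : x ∈ H ⊓ H.map (MulAut.conj g).toMonoidHom := by
        refine mem_inf.mpr ⟨hx, ⟨x, hx, ?_⟩⟩
        change g * x * g⁻¹ = x
        rw [mem_centralizer_singleton_iff.mp hg, mul_inv_cancel_right]
      rw [h2] at h3
      exact hx1 (mem_bot.mp h3)
    apply SixElt.mem_norm_fin
    intro h hh
    rw [← h1]
    exact ⟨h, hh, rfl⟩
  rw [← subgroupOf_eq_top]
  apply eq_top_of_sylow_le
  intro s hs
  haveI : Fact s.Prime := ⟨hs⟩
  obtain ⟨T⟩ := (inferInstance : Nonempty (Sylow s (centralizer ({x} : Set G))))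
  refine ⟨T, fun y hy => ?_⟩
  rw [mem_subgroupOf]
  obtain ⟨k, hk⟩ := T.isPGroup' ⟨y, hy⟩
  have hk' : (y : G) ^ s ^ k = 1 := congrArg (fun t => ((t : centralizer ({x} : Set G)) : G)) (congrArg Subtype.val hk)
  have hyN : (y : G) ∈ normalizer (H : Set G) := hN y.2
  have hyx : (y : G) * x = x * y := mem_centralizer_singleton_iff.mp y.2
  by_cases hsH : s ∣ Nat.card H
  · -- `H` contains all `s`-elements of its normaliser
    obtain ⟨S, hS⟩ := sylow_le hCN hH hmax hsH
    have h1 : ¬ s ∣ H.relIndex (normalizer (H : Set G)) := by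
      intro h
      apply S.not_dvd_index
      exact (h.trans (relIndex_dvd_index_of_le le_normalizer |>.trans dvd_rfl)).trans (index_dvd_of_le hS)
    have h2 : (y : G) ^ H.relIndex (normalizer (H : Set G)) ∈ H := by
      have h3 : (H.subgroupOf (normalizer (H : Set G))).Normal := inferInstance
      have h4 := Subgroup.pow_index_mem (H.subgroupOf (normalizer (H : Set G))) (⟨y, hyN⟩ : normalizer (H : Set G))
      exact h4
    have h5 : (H.relIndex (normalizer (H : Set G))).Coprime (orderOf (y : G)) := by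
      apply Nat.Coprime.coprime_dvd_right (_root_.orderOf_dvd_of_pow_eq_one hk')
      exact Nat.Coprime.pow_right k (((Nat.Prime.coprime_iff_not_dvd hs).mpr h1).symm)
    obtain ⟨j, hj⟩ := _root_.exists_pow_eq_self_of_coprime (x := (y : G)) h5
    rw [← hj]
    exact pow_mem h2 j
  · have hpH : p ∣ Nat.card H := hpe ▸ Subgroup.orderOf_dvd_natCard H hx
    have hsp : s ≠ p := by rintro rfl; exact hsH hpH
    obtain ⟨z, hz, hz1, ⟨i, hzi⟩, hzc⟩ := exists_central hH hpH
    have hPn : Group.IsNilpotent H := hH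
    obtain ⟨P⟩ := (inferInstance : Nonempty (Sylow p H))
    haveI hPn := PUtil.sylow_normal_of_nilpotent hH P
    haveI hPc := P.characteristic_of_normal hPn
    have hmemP : ∀ w : H, (∃ k, (w : G) ^ p ^ k = 1) → w ∈ (P : Subgroup H) := by
      rintro w ⟨k, hwk⟩
      have h1 : IsPGroup p (zpowers w) := by
        apply IsPGroup.of_card (n := Nat.log p (Nat.card (zpowers w)))
        have h3 : Nat.card (zpowers w) ∣ p ^ k := by
          rw [Nat.card_zpowers]; exact _root_.orderOf_dvd_of_pow_eq_one (Subtype.ext hwk)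
        obtain ⟨j, _, hj⟩ := (Nat.dvd_prime_pow hp.out).mp h3
        rw [hj, Nat.log_pow hp.out.one_lt]
      obtain ⟨P', hP'⟩ := h1.exists_le_sylow
      haveI : Unique (Sylow p H) := Sylow.unique_of_normal P hPn
      have h2 : P' = P := Subsingleton.elim _ _
      rw [← h2]
      exact hP' (mem_zpowers _)
    have hyP : (y : G) ∈ normalizer (((P : Subgroup H).map H.subtype : Subgroup G) : Set G) := by
      apply SixElt.mem_norm_fin
      rintro _ ⟨w, hw, rfl⟩
      have h1 : (y : G) * (w : G) * (y : G)⁻¹ ∈ H := (mem_normalizer_iff.mp hyN _).mp w.2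
      refine ⟨⟨_, h1⟩, hmemP _ ?_, rfl⟩
      obtain ⟨l, hl⟩ := P.isPGroup' ⟨w, hw⟩
      refine ⟨l, ?_⟩
      have hl' : (w : G) ^ p ^ l = 1 := congrArg (fun t => ((t : H) : G)) (congrArg Subtype.val hl)
      change ((y : G) * (w : G) * (y : G)⁻¹) ^ p ^ l = 1
      rw [conj_pow, hl', mul_one, mul_inv_cancel]
    have hcop : (s ^ k).Coprime p := Nat.Coprime.pow_left k ((Nat.coprime_primes hs hp.out).mpr hsp)
    have h1 := centralizes hCN (P := (P : Subgroup H).map H.subtype) (P.isPGroup'.map _) (x := x) (y := y)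
      ⟨⟨x, hx⟩, hmemP _ ⟨1, by rw [pow_one, hpe]; exact pow_orderOf_eq_one x⟩, rfl⟩ hx1 hcop hk' hyx.symm hyP
    have h2 : (y : G) * z = z * y := h1 z ⟨⟨z, hz⟩, hmemP _ ⟨i, hzi⟩, rfl⟩
    rw [← cent_eq hCN hmax hz1 hzc]
    exact mem_cent h2.symm

end Cfsg.Agent.H2.CNB
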