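import Mathlib
import Cfsg.Prelude
import Cfsg.Agent.H2.CN
import Cfsg.Agent.H2.CNB
import Cfsg.Agent.Lib.FrobC

set_option autoImplicit false

/-! CN-groups: Frobenius structure. -/

namespace Cfsg.Agent.H2.CNC

open Subgroup Cfsg.Agent.Lib Cfsg.Agent.Lib.Cores Cfsg.Agent.H2.CN Cfsg.Agent.H2.CNB
open scoped Pointwise

universe u
variable {G : Type u} [Group G]

/-- normal nilpotent Hall subgroups -/
def NH (N : Subgroup G) : Prop := N.Normal ∧ Group.IsNilpotent N ∧ (Nat.card N).Coprime N.index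

theorem nh_sup [Finite G] {N M : Subgroup G} (hN : NH N) (hM : NH M) : NH (N ⊔ M) := by
  haveI := hN.1
  haveI := hM.1
  refine ⟨inferInstance, ?_, ?_⟩
  · exact isNilpotent_of_le (sup_le (le_fitting hN.1 hN.2.1) (le_fitting hM.1 hM.2.1)) fitting_nilpotent
  · have h1 : Nat.card (N ⊔ M : Subgroup G) ∣ Nat.card N * Nat.card M := card_sup_dvd (N := N) (H := M) le_normalizer_of_normal
    apply Nat.Coprime.coprime_dvd_left h1
    apply Nat.Coprime.mul_left
    · exact Nat.Coprime.coprime_dvd_right (index_dvd_of_le le_sup_left) hN.2.2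
    · exact Nat.Coprime.coprime_dvd_right (index_dvd_of_le le_sup_right) hM.2.2

theorem nh_fittingHall [Finite G] : NH (Cfsg.fittingHall G) := by
  apply sSup_mem_of_finite {N : Subgroup G | N.Normal ∧ Group.IsNilpotent N ∧ (Nat.card N).Coprime N.index}
  · refine ⟨inferInstance, inferInstance, ?_⟩
    rw [card_bot]; exact Nat.coprime_one_left _
  · intro A hA B hB
    exact nh_sup hA hB

theorem le_fittingHall {N : Subgroup G} (hN : NH N) : N ≤ Cfsg.fittingHall G := le_sSup hN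

theorem mem_sylow_nil [Finite G] {H : Subgroup G} (hH : Group.IsNilpotent H) {p : ℕ} [hp : Fact p.Prime] (P : Sylow p H) (w : H)
    (hw : ∃ k, (w : G) ^ p ^ k = 1) : w ∈ (P : Subgroup H) := by
  obtain ⟨k, hwk⟩ := hw
  have hPn := PUtil.sylow_normal_of_nilpotent hH P
  have h1 : IsPGroup p (zpowers w) := by
    apply IsPGroup.of_card (n := Nat.log p (Nat.card (zpowers w)))
    have h3 : Nat.card (zpowers w) ∣ p ^ k := by
      rw [Nat.card_zpowers]; exact _root_.orderOf_dvd_of_pow_eq_one (Subtype.ext hwk)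
    obtain ⟨j, _, hj⟩ := (Nat.dvd_prime_pow hp.out).mp h3
    rw [hj, Nat.log_pow hp.out.one_lt]
  obtain ⟨P', hP'⟩ := h1.exists_le_sylow
  haveI : Unique (Sylow p H) := Sylow.unique_of_normal P hPn
  have h2 : P' = P := Subsingleton.elim _ _
  rw [← h2]
  exact hP' (mem_zpowers _)

/-- a power of prime order -/
theorem exists_prime_power [Finite G] {x : G} (hx1 : x ≠ 1) : ∃ k : ℕ, (orderOf (x ^ k)).Prime := by
  obtain ⟨r, hr, hd⟩ := Nat.exists_prime_and_dvd (fun h => hx1 (orderOf_eq_one_iff.mp h))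
  obtain ⟨k, hk⟩ := hd
  have hk0 : 0 < orderOf x := orderOf_pos x
  refine ⟨k, ?_⟩
  have h1 : orderOf (x ^ k) = r := by
    rw [orderOf_pow' x (by rintro rfl; rw [mul_zero] at hk; omega), hk, Nat.gcd_eq_right (Dvd.intro_left r rfl),
      Nat.mul_div_cancel _ (Nat.pos_of_ne_zero (by rintro rfl; rw [mul_zero] at hk; omega))]
  rw [h1]; exact hr

/-- In a CN-group, an element of order coprime to `|H|` normalising the nilpotent subgroup `H` and commuting with a
nontrivial element of `H` centralises `H`. -/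
theorem cent_all [Finite G] (hCN : Cfsg.IsCNGroup G) {H : Subgroup G} (hH : Group.IsNilpotent H) {x y : G} (hx : x ∈ H) (hx1 : x ≠ 1)
    (hy : y ∈ normalizer (H : Set G)) {m : ℕ} (hym : y ^ m = 1) (hm : m.Coprime (Nat.card H)) (hxy : x * y = y * x) :
    ∀ h ∈ H, y * h = h * y := by
  obtain ⟨k, hk⟩ := exists_prime_power hx1
  obtain ⟨x', hx'⟩ : ∃ x', x' = x ^ k := ⟨_, rfl⟩
  rw [← hx'] at hk
  obtain ⟨s, hs⟩ : ∃ s, s = orderOf x' := ⟨_, rfl⟩
  rw [← hs] at hk
  haveI : Fact s.Prime := ⟨hk⟩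
  have hx'H : x' ∈ H := hx' ▸ pow_mem hx k
  have hx'1 : x' ≠ 1 := by rintro h; rw [h, orderOf_one] at hs; exact hk.one_lt.ne' hs
  have hx'y : x' * y = y * x' := by rw [hx']; exact ((show Commute x y from hxy).pow_left k).eq
  have hx's : x' ^ s = 1 := hs ▸ pow_orderOf_eq_one x'
  have hle : H ≤ centralizer ({y} : Set G) := by
    rw [← subgroupOf_eq_top]
    apply eq_top_of_sylow_le
    intro t ht
    haveI : Fact t.Prime := ⟨ht⟩
    obtain ⟨T⟩ := (inferInstance : Nonempty (Sylow t H))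
    refine ⟨T, fun w hw => ?_⟩
    rw [mem_subgroupOf]
    have hTp : ∃ l, (w : G) ^ t ^ l = 1 := by
      obtain ⟨l, hl⟩ := T.isPGroup' ⟨w, hw⟩
      exact ⟨l, congrArg (fun t => ((t : H) : G)) (congrArg Subtype.val hl)⟩
    obtain ⟨l, hl⟩ := hTp
    by_cases hts : t = s
    · subst hts
      have hyT : y ∈ normalizer (((T : Subgroup H).map H.subtype : Subgroup G) : Set G) := by
        apply SixElt.mem_norm_fin
        rintro _ ⟨v, hv, rfl⟩
        have h1 : y * (v : G) * y⁻¹ ∈ H := (mem_normalizer_iff.mp hy _).mp v.2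
        refine ⟨⟨_, h1⟩, mem_sylow_nil hH T _ ?_, rfl⟩
        obtain ⟨l, hl⟩ := T.isPGroup' ⟨v, hv⟩
        refine ⟨l, ?_⟩
        have hl' : (v : G) ^ t ^ l = 1 := congrArg (fun t => ((t : H) : G)) (congrArg Subtype.val hl)
        change (y * (v : G) * y⁻¹) ^ t ^ l = 1
        rw [conj_pow, hl', mul_one, mul_inv_cancel]
      have htd : t ∣ Nat.card H := hs ▸ Subgroup.orderOf_dvd_natCard H hx'H
      have h1 := centralizes hCN (P := (T : Subgroup H).map H.subtype) (T.isPGroup'.map _) (x := x') (y := y)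
        ⟨⟨x', hx'H⟩, mem_sylow_nil hH T _ ⟨1, by rw [pow_one]; exact hx's⟩, rfl⟩ hx'1 (Nat.Coprime.coprime_dvd_right htd hm) hym hx'y hyT
      exact mem_cent (h1 w ⟨w, hw, rfl⟩)
    · have h1 : x' * (w : G) = w * x' := comm_of_mem hH hx'H w.2 hx's hl (Nat.Coprime.pow_right l ((Nat.coprime_primes hk ht).mpr (Ne.symm hts)))
      by_cases hw1 : w = 1
      · rw [hw1]; exact one_mem _
      have htd : t ∣ Nat.card H := by
        have h2 : orderOf w ∣ t ^ l := _root_.orderOf_dvd_of_pow_eq_one (Subtype.ext hl)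
        obtain ⟨j, _, hj⟩ := (Nat.dvd_prime_pow ht).mp h2
        have hj0 : j ≠ 0 := by
          rintro rfl
          rw [pow_zero] at hj
          exact hw1 (orderOf_eq_one_iff.mp hj)
        exact (dvd_pow_self t hj0).trans (hj ▸ orderOf_dvd_natCard w)
      exact mem_cent (comm_of_mem (hCN x' hx'1) (mem_cent hx'y) (mem_cent h1) hym hl (Nat.Coprime.pow_right l (Nat.Coprime.coprime_dvd_right htd hm)))
  intro h hh
  exact (mem_centralizer_singleton_iff.mp (hle hh)).symm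

/-- if moreover `H` is normal, the Sylow subgroups for the prime of `y` are normal -/
theorem sylow_normal_of_cent [Finite G] (hCN : Cfsg.IsCNGroup G) {H : Subgroup G} [hHn : H.Normal] (hH : Group.IsNilpotent H) (hH1 : H ≠ ⊥) {y : G}
    {r : ℕ} [hr : Fact r.Prime] (hy : orderOf y = r) (hrH : ¬ r ∣ Nat.card H) (hyH : ∀ h ∈ H, y * h = h * y) (R : Sylow r G) :
    (R : Subgroup G).Normal := by
  obtain ⟨x, hx1⟩ := ne_bot_iff_exists_ne_one.mp hH1
  have hx1' : (x : G) ≠ 1 := fun h => hx1 (Subtype.ext h)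
  obtain ⟨D, hD⟩ : ∃ D, D = centralizer (H : Set G) := ⟨_, rfl⟩
  haveI hDn : D.Normal := hD ▸ inferInstance
  have hDnil : Group.IsNilpotent D := by
    apply isNilpotent_of_le _ (hCN x hx1')
    rw [hD]
    intro d hd
    rw [mem_centralizer_singleton_iff]
    exact (mem_centralizer_iff.mp hd x x.2).symm
  have hyD : y ∈ D := by
    rw [hD, mem_centralizer_iff]
    intro h hh
    exact (hyH h hh).symm
  -- the Sylow subgroup of `D`
  obtain ⟨R₀⟩ := (inferInstance : Nonempty (Sylow r D))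
  haveI hR₀n := PUtil.sylow_normal_of_nilpotent hDnil R₀
  haveI hR₀c := R₀.characteristic_of_normal hR₀n
  obtain ⟨V, hV⟩ : ∃ V, V = (R₀ : Subgroup D).map D.subtype := ⟨_, rfl⟩
  haveI hVn : V.Normal := hV ▸ inferInstance
  have hVp : IsPGroup r V := hV ▸ R₀.isPGroup'.map _
  have hyV : y ∈ V := by
    rw [hV]
    exact ⟨⟨y, hyD⟩, mem_sylow_nil hDnil R₀ _ ⟨1, by rw [pow_one, ← hy]; exact pow_orderOf_eq_one y⟩, rfl⟩
  have hV1 : V ≠ ⊥ := by
    intro h
    rw [h, mem_bot] at hyV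
    rw [hyV, orderOf_one] at hy
    exact hr.out.one_lt.ne hy
  obtain ⟨z, hz, hz1, hzR⟩ := exists_fixed R.isPGroup' hVp hV1 le_normalizer_of_normal
  have hzD : z ∈ D := by
    rw [hV] at hz
    obtain ⟨v, _, rfl⟩ := hz
    exact v.2
  have hRD : (R : Subgroup G) ≤ D := by
    intro s hs
    rw [hD, mem_centralizer_iff]
    intro h hh
    have h1 : z * h = h * z := (mem_centralizer_iff.mp (hD ▸ hzD) h hh).symm
    obtain ⟨l, hl⟩ := R.isPGroup' ⟨s, hs⟩
    have hl' : s ^ r ^ l = 1 := congrArg Subtype.val hl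
    have h2 : h ^ Nat.card H = 1 := by
      have : (⟨h, hh⟩ : H) ^ Nat.card H = 1 := pow_card_eq_one'
      exact congrArg Subtype.val this
    exact comm_of_mem (hCN z hz1) (mem_cent h1) (mem_cent (hzR s hs).symm) h2 hl' (Nat.Coprime.pow_right l (((Nat.Prime.coprime_iff_not_dvd hr.out).mpr hrH).symm))
  have hRV : (R : Subgroup G) = V := by
    apply le_antisymm _ _
    · intro s hs
      obtain ⟨l, hl⟩ := R.isPGroup' ⟨s, hs⟩
      rw [hV]
      exact ⟨⟨s, hRD hs⟩, mem_sylow_nil hDnil R₀ _ ⟨l, congrArg Subtype.val hl⟩, rfl⟩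
    · have h3 : V ≤ Cfsg.pCore r G := le_pCore hVn hVp
      exact h3.trans (pCore_le_sylow R)
  rw [hRV]; exact hVn

theorem sylow_nh [Finite G] {r : ℕ} [hr : Fact r.Prime] (R : Sylow r G) (hR : (R : Subgroup G).Normal) : NH (R : Subgroup G) := by
  refine ⟨hR, R.isPGroup'.isNilpotent, ?_⟩
  obtain ⟨n, hn⟩ := IsPGroup.iff_card.mp R.isPGroup'
  rw [hn]
  exact Nat.Coprime.pow_left n ((Nat.Prime.coprime_iff_not_dvd hr.out).mpr R.not_dvd_index)

/-- the complement of the largest normal nilpotent Hall subgroup acts fixed-point-freely -/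
theorem fpf [Finite G] (hCN : Cfsg.IsCNGroup G) {E : Subgroup G} (hc : IsComplement' (Cfsg.fittingHall G) E) {e : G} (he : e ∈ E) (he1 : e ≠ 1) :
    Cfsg.fittingHall G ⊓ centralizer ({e} : Set G) = ⊥ := by
  obtain ⟨hHn, hHnil, hHall⟩ := nh_fittingHall (G := G)
  haveI := hHn
  by_contra hne
  obtain ⟨x, hx1⟩ := ne_bot_iff_exists_ne_one.mp hne
  obtain ⟨hxH, hxe⟩ := mem_inf.mp x.2
  have hx1' : (x : G) ≠ 1 := fun h => hx1 (Subtype.ext h)
  have hxe' : (x : G) * e = e * x := mem_centralizer_singleton_iff.mp hxe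
  obtain ⟨k, hk⟩ := exists_prime_power he1
  obtain ⟨y, hy⟩ : ∃ y, y = e ^ k := ⟨_, rfl⟩
  rw [← hy] at hk
  obtain ⟨r, hr⟩ : ∃ r, r = orderOf y := ⟨_, rfl⟩
  rw [← hr] at hk
  haveI : Fact r.Prime := ⟨hk⟩
  have hyE : y ∈ E := hy ▸ pow_mem he k
  have hrH : ¬ r ∣ Nat.card (Cfsg.fittingHall G) := by
    intro h
    have h1 : r ∣ Nat.card E := hr ▸ Subgroup.orderOf_dvd_natCard E hyE
    rw [← hc.symm.index_eq_card] at h1
    have h2 := Nat.dvd_gcd h h1
    rw [hHall] at h2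
    exact hk.one_lt.ne' (Nat.dvd_one.mp h2)
  have hxy : (x : G) * y = y * x := by rw [hy]; exact ((show Commute (x : G) e from hxe').pow_right k).eq
  have hyr : y ^ r = 1 := hr ▸ pow_orderOf_eq_one y
  have h1 := cent_all hCN hHnil hxH hx1' (le_normalizer_of_normal (mem_top y)) hyr ((Nat.Prime.coprime_iff_not_dvd hk).mpr hrH) hxy
  obtain ⟨R⟩ := (inferInstance : Nonempty (Sylow r G))
  have hH1 : Cfsg.fittingHall G ≠ ⊥ := by
    intro h
    exact hne (by rw [h, bot_inf_eq])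
  have h2 := sylow_normal_of_cent hCN hHnil hH1 hr.symm hrH h1 R
  have h3 := le_fittingHall (sylow_nh R h2)
  apply hrH
  have h4 : r ∣ Nat.card (R : Subgroup G) := by
    have h5 : r ∣ Nat.card G := hr ▸ orderOf_dvd_natCard y
    rw [R.card_eq_multiplicity]
    exact dvd_pow_self r (hk.factorization_pos_of_dvd Nat.card_pos.ne' h5).ne'
  exact h4.trans (card_dvd_of_le h3)

/-- Frobenius complements in CN-groups are nilpotent -/
theorem nilpotent_compl [Finite G] (hCN : Cfsg.IsCNGroup G) {K E : Subgroup G} [K.Normal] (hc : IsComplement' K E) (hK : K ≠ ⊥) (hE : E ≠ ⊥)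
    (hf : ∀ e ∈ E, e ≠ 1 → K ⊓ centralizer ({e} : Set G) = ⊥) : Group.IsNilpotent E := by
  have h1 := FrobC.center_ne_bot hc hK hE hf
  obtain ⟨z, hz1⟩ := ne_bot_iff_exists_ne_one.mp h1
  have hz1' : ((z : E) : G) ≠ 1 := fun h => hz1 (Subtype.ext (Subtype.ext h))
  apply isNilpotent_of_le _ (hCN _ hz1')
  intro e he
  rw [mem_centralizer_singleton_iff]
  exact congrArg Subtype.val (mem_center_iff.mp z.2 ⟨e, he⟩)

end Cfsg.Agent.H2.CNC
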