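import Mathlib
import Cfsg.Prelude
import Cfsg.Agent.H2.CNC
import Cfsg.Agent.S0040
import Cfsg.Agent.S0068
import Cfsg.Agent.Lib.Cyc

set_option autoImplicit false

/-! Solvable CN-groups. -/

namespace Cfsg.Agent.H2.CND

open Subgroup Cfsg.Agent.Lib Cfsg.Agent.Lib.Cores Cfsg.Agent.H2.CN Cfsg.Agent.H2.CNB Cfsg.Agent.H2.CNC
open scoped Pointwise

universe u
variable {G : Type u} [Group G]

theorem two_of_quaternion {P : Type*} [Group P] [Finite P] {p : ℕ} [hp : Fact p.Prime] (hP : IsPGroup p P) {n : ℕ}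
    (h : Nonempty (P ≃* QuaternionGroup (2 ^ n))) : p = 2 := by
  obtain ⟨e⟩ := h
  haveI : NeZero (2 ^ n) := ⟨by positivity⟩
  obtain ⟨k, hk⟩ := IsPGroup.iff_card.mp hP
  rw [Nat.card_congr e.toEquiv, Nat.card_eq_fintype_card, QuaternionGroup.card] at hk
  have h1 : 2 ∣ p ^ k := hk ▸ ⟨2 * 2 ^ n, by ring⟩
  exact ((Nat.prime_dvd_prime_iff_eq Nat.prime_two hp.out).mp (Nat.prime_two.dvd_of_dvd_pow h1)).symm

/-- nilpotent groups all of whose Sylow subgroups are cyclic or quaternion -/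
theorem struct {E : Type u} [Group E] [Finite E] (hE : Group.IsNilpotent E)
    (hS : ∀ (p : ℕ) (_ : Fact p.Prime) (P : Sylow p E), IsCyclic P ∨ ∃ n : ℕ, Nonempty (P ≃* QuaternionGroup (2 ^ n))) :
    IsCyclic E ∨ ∃ C Q : Subgroup E, C ⊔ Q = ⊤ ∧ (∀ a ∈ C, ∀ b ∈ Q, a * b = b * a) ∧ IsCyclic C ∧ Odd (Nat.card C) ∧
      ∃ n : ℕ, Nonempty (Q ≃* QuaternionGroup (2 ^ n)) := by
  haveI := hE
  haveI h2f : Fact (Nat.Prime 2) := ⟨Nat.prime_two⟩
  have hodd : ∀ (p : ℕ) (_ : Fact p.Prime) (P : Sylow p E), p ≠ 2 → IsCyclic P := by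
    intro p hp P hp2
    rcases hS p hp P with h | ⟨n, h⟩
    · exact h
    · exact absurd (two_of_quaternion P.isPGroup' h) hp2
  obtain ⟨Q⟩ := (inferInstance : Nonempty (Sylow 2 E))
  rcases hS 2 h2f Q with hQ | ⟨n, hQ⟩
  · left
    haveI : IsZGroup E := by
      refine ⟨fun p hp P => ?_⟩
      haveI : Fact p.Prime := ⟨hp⟩
      by_cases hp2 : p = 2
      · subst hp2
        exact MulEquiv.isCyclic (Sylow.equiv Q P) |>.mp hQ
      · exact hodd p ⟨hp⟩ P hp2
    infer_instance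
  · right
    haveI hQn := PUtil.sylow_normal_of_nilpotent hE Q
    obtain ⟨C, hC⟩ := Subgroup.exists_right_complement'_of_coprime (N := (Q : Subgroup E)) (sylow_nh Q hQn).2.2
    have hCcard : Nat.card C = (Q : Subgroup E).index := hC.symm.index_eq_card.symm
    have hC2 : ¬ 2 ∣ Nat.card C := hCcard ▸ Q.not_dvd_index
    have hCn : Group.IsNilpotent C := isNilpotent_of_le le_top (Group.nilpotent_of_mulEquiv Subgroup.topEquiv.symm)
    have hcyc : IsCyclic C := by
      haveI : IsZGroup C := by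
        refine ⟨fun p hp P => ?_⟩
        haveI : Fact p.Prime := ⟨hp⟩
        by_cases hp2 : p = 2
        · subst hp2
          have h1 : Nat.card P = 1 := by
            rw [P.card_eq_multiplicity, Nat.factorization_eq_zero_of_not_dvd hC2, pow_zero]
          haveI : Subsingleton P := (Nat.card_eq_one_iff_unique.mp h1).1
          infer_instance
        · obtain ⟨P', hP'⟩ := (P.isPGroup'.map C.subtype).exists_le_sylow
          haveI := hodd p ⟨hp⟩ P' hp2
          have h1 : IsCyclic ((P : Subgroup C).map C.subtype) := by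
            exact isCyclic_of_injective (Subgroup.inclusion hP') (Subgroup.inclusion_injective hP')
          exact (MulEquiv.isCyclic ((P : Subgroup C).equivMapOfInjective _ C.subtype_injective)).mpr h1
      infer_instance
    refine ⟨C, Q, by rw [sup_comm]; exact hC.sup_eq_top, ?_, hcyc, Nat.odd_iff.mpr (by omega), n, hQ⟩
    intro a ha b hb
    obtain ⟨k, hk⟩ := Q.isPGroup' ⟨b, hb⟩
    have hk' : b ^ 2 ^ k = 1 := congrArg Subtype.val hk
    have h1 : a ^ Nat.card C = 1 := by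
      have : (⟨a, ha⟩ : C) ^ Nat.card C = 1 := pow_card_eq_one'
      exact congrArg Subtype.val this
    exact comm_of_coprime_order E a b _ _ h1 hk' (Nat.Coprime.pow_right k ((Nat.Prime.coprime_iff_not_dvd Nat.prime_two).mpr hC2).symm)

/-- in a CN-group with a nontrivial normal nilpotent subgroup `A` of order prime to `p`, and Sylow `p`-subgroups not normal, elements
of order `p` act fixed-point-freely on `A` -/
theorem fpf_of_not_normal [Finite G] (hCN : Cfsg.IsCNGroup G) {A : Subgroup G} [A.Normal] (hA : Group.IsNilpotent A) {p : ℕ} [hp : Fact p.Prime]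
    (hpA : ¬ p ∣ Nat.card A) (P : Sylow p G) (hP : ¬ (P : Subgroup G).Normal) {b a : G} (hb : orderOf b = p) (ha : a ∈ A) (ha1 : a ≠ 1) :
    a * b ≠ b * a := by
  intro hab
  apply hP
  have h1 := cent_all hCN hA ha ha1 (le_normalizer_of_normal (mem_top b)) (hb ▸ pow_orderOf_eq_one b) ((Nat.Prime.coprime_iff_not_dvd hp.out).mpr hpA) hab
  exact sylow_normal_of_cent hCN hA (fun h => ha1 (by rw [h] at ha; exact mem_bot.mp ha)) hb hpA h1 P

theorem card_one_of_fitting {X : Type u} [Group X] [Finite X] (hs : Group.IsSolvable X) (h : Cfsg.fittingSubgroup X = ⊥) : Nat.card X = 1 := by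
  haveI := hs
  have h1 := Nilp.centralizer_fitting_le (G := X)
  rw [h] at h1
  have h2 : (⊤ : Subgroup X) ≤ ⊥ := by
    refine le_trans ?_ h1
    intro x _
    rw [mem_centralizer_iff]
    intro y hy
    rw [mem_bot.mp hy, one_mul, mul_one]
  have h3 : Nat.card (⊤ : Subgroup X) = 1 := by rw [le_bot_iff.mp h2, card_bot]
  rwa [card_top] at h3

theorem comm_mem_centralizer {X : Type u} [Group X] {A : Subgroup X} [hAn : A.Normal] (hA : IsCyclic A) (g h : X) :
    g * h * g⁻¹ * h⁻¹ ∈ centralizer (A : Set X) := by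
  obtain ⟨c, hc⟩ := hA
  have hconj : ∀ g : X, ∃ i : ℤ, g * (c : X) * g⁻¹ = (c : X) ^ i := by
    intro g
    obtain ⟨i, hi⟩ := hc ⟨g * (c : X) * g⁻¹, hAn.conj_mem _ c.2 g⟩
    exact ⟨i, (congrArg Subtype.val hi).symm⟩
  have hgen : ∀ a ∈ A, ∃ k : ℤ, a = (c : X) ^ k := by
    intro a ha
    obtain ⟨k, hk⟩ := hc ⟨a, ha⟩
    exact ⟨k, (congrArg Subtype.val hk).symm⟩
  obtain ⟨i, hi⟩ := hconj g
  obtain ⟨j, hj⟩ := hconj h
  have e1 : (g * h) * (c : X) * (g * h)⁻¹ = (c : X) ^ (i * j) := by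
    have : (g * h) * (c : X) * (g * h)⁻¹ = g * (h * (c : X) * h⁻¹) * g⁻¹ := by group
    rw [this, hj, ← conj_zpow, hi, ← zpow_mul]
  have e2 : (h * g) * (c : X) * (h * g)⁻¹ = (c : X) ^ (i * j) := by
    have : (h * g) * (c : X) * (h * g)⁻¹ = h * (g * (c : X) * g⁻¹) * h⁻¹ := by group
    rw [this, hi, ← conj_zpow, hj, ← zpow_mul, mul_comm j i]
  have e3 : (h * g)⁻¹ * (g * h) * (c : X) = (c : X) * ((h * g)⁻¹ * (g * h)) := by
    have h5 : (g * h) * (c : X) * (g * h)⁻¹ = (h * g) * (c : X) * (h * g)⁻¹ := by rw [e1, e2]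
    calc (h * g)⁻¹ * (g * h) * (c : X) = (h * g)⁻¹ * ((g * h) * (c : X) * (g * h)⁻¹) * (g * h) := by group
      _ = (h * g)⁻¹ * ((h * g) * (c : X) * (h * g)⁻¹) * (g * h) := by rw [h5]
      _ = _ := by group
  have e4 : (h * g)⁻¹ * (g * h) ∈ centralizer (A : Set X) := by
    rw [mem_centralizer_iff]
    intro a ha
    obtain ⟨k, rfl⟩ := hgen a ha
    exact ((show Commute ((h * g)⁻¹ * (g * h)) (c : X) from e3).zpow_right k).eq.symm
  have e5 : g * h * g⁻¹ * h⁻¹ = (h * g) * ((h * g)⁻¹ * (g * h)) * (h * g)⁻¹ := by group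
  rw [e5]
  exact (inferInstance : (centralizer (A : Set X)).Normal).conj_mem _ e4 _

/-- the quotient by the cyclic normal `p`-complement core is a `p`-group -/
theorem p_quot {X : Type u} [Group X] [Finite X] {p : ℕ} [hp : Fact p.Prime] (hA : IsCyclic (Cfsg.pPrimeCore p X))
    (hfp : ∀ b a : X, orderOf b = p → a ∈ Cfsg.pPrimeCore p X → a ≠ 1 → a * b ≠ b * a) (hA1 : Cfsg.pPrimeCore p X ≠ ⊥) :
    ∀ x : X, (∃ m : ℕ, m.Coprime p ∧ x ^ m ∈ Cfsg.pPrimeCore p X) → x ∈ Cfsg.pPrimeCore p X := by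
  haveI hAn := pPrimeCore_normal (G := X) p
  rintro x ⟨m, hm, hxm⟩
  have hD : centralizer ((Cfsg.pPrimeCore p X : Subgroup X) : Set X) ≤ Cfsg.pPrimeCore p X := by
    apply le_pPrimeCore inferInstance
    rw [Nat.coprime_comm, Nat.Prime.coprime_iff_not_dvd hp.out]
    intro hd
    obtain ⟨b, hb⟩ := exists_prime_orderOf_dvd_card' p hd
    obtain ⟨a, ha1⟩ := ne_bot_iff_exists_ne_one.mp hA1
    exact hfp b a (by rw [Subgroup.orderOf_coe]; exact hb) a.2 (fun h => ha1 (Subtype.ext h)) (mem_centralizer_iff.mp b.2 a a.2)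
  have hcomm : ∀ g h : X, QuotientGroup.mk' (Cfsg.pPrimeCore p X) g * QuotientGroup.mk' _ h = QuotientGroup.mk' _ h * QuotientGroup.mk' _ g := by
    intro g h
    have h1 := hD (comm_mem_centralizer hA g h)
    have h2 : QuotientGroup.mk' (Cfsg.pPrimeCore p X) (g * h * g⁻¹ * h⁻¹) = 1 := (QuotientGroup.eq_one_iff _).mpr h1
    rw [map_mul, map_mul, map_mul, map_inv, map_inv] at h2
    have h3 := mul_inv_eq_one.mp h2
    exact mul_inv_eq_iff_eq_mul.mp h3
  have hf := QuotientGroup.mk'_surjective (Cfsg.pPrimeCore p X)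
  have hn : (zpowers (QuotientGroup.mk' (Cfsg.pPrimeCore p X) x)).Normal := by
    refine ⟨fun n hn g => ?_⟩
    obtain ⟨n', rfl⟩ := hf n
    obtain ⟨g', rfl⟩ := hf g
    rw [hcomm g' n', mul_inv_cancel_right]; exact hn
  have h1 : (zpowers (QuotientGroup.mk' (Cfsg.pPrimeCore p X) x)).comap (QuotientGroup.mk' _) ≤ Cfsg.pPrimeCore p X := by
    apply le_pPrimeCore (hn.comap _)
    rw [card_comap_eq _ hf, QuotientGroup.ker_mk']
    apply Nat.Coprime.mul_left (pPrimeCore_coprime p)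
    rw [Nat.card_zpowers]
    apply Nat.Coprime.coprime_dvd_left _ hm
    apply _root_.orderOf_dvd_of_pow_eq_one
    rw [← map_pow]
    exact (QuotientGroup.eq_one_iff _).mpr hxm
  exact h1 (mem_comap.mpr (mem_zpowers _))

theorem three_step [Finite G] [hs : Group.IsSolvable G] (hCN : Cfsg.IsCNGroup G) (hnn : ¬ Group.IsNilpotent G)
    (hno : ∀ (p : ℕ) (_ : Fact p.Prime) (P : Sylow p G), (P : Subgroup G) ≠ ⊥ → ¬ (P : Subgroup G).Normal) :
    ∃ p : ℕ, p.Prime ∧ Cfsg.IsThreeStepGroup p G := by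
  classical
  have hF1 : Cfsg.fittingSubgroup G ≠ ⊥ := by
    intro h
    apply hnn
    haveI : Subsingleton G := (Nat.card_eq_one_iff_unique.mp (card_one_of_fitting hs h)).1
    infer_instance
  obtain ⟨p, hp, hpO⟩ : ∃ p, p.Prime ∧ Cfsg.pCore p G ≠ ⊥ := by
    by_contra hcon
    push Not at hcon
    exact hF1 (fitting_eq_bot_iff.mpr fun p hp => hcon p hp)
  haveI hpf : Fact p.Prime := ⟨hp⟩
  have hFp := pCore_isPGroup (G := G) p
  have honly : ∀ q, q.Prime → q ≠ p → Cfsg.pCore q G = ⊥ := by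
    intro q hq hqp
    by_contra hne
    haveI : Fact q.Prime := ⟨hq⟩
    obtain ⟨y, hy, hyo⟩ := PUtil.exists_orderOf_prime hp hpO hFp
    obtain ⟨P⟩ := (inferInstance : Nonempty (Sylow p G))
    haveI hqn := pCore_normal (G := G) q
    haveI hpn := pCore_normal (G := G) p
    have hdisj : Disjoint (Cfsg.pCore p G) (Cfsg.pCore q G) := IsPGroup.disjoint_of_ne p q (Ne.symm hqp) _ _ hFp (pCore_isPGroup q)
    apply hno p hpf P (fun h => hpO (by rw [eq_bot_iff, ← h]; exact pCore_le_sylow P))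
    refine sylow_normal_of_cent hCN (H := Cfsg.pCore q G) (pCore_isPGroup q).isNilpotent hne hyo ?_ ?_ P
    · obtain ⟨n, hn⟩ := IsPGroup.iff_card.mp (pCore_isPGroup (G := G) q)
      rw [hn]
      intro h
      exact hqp ((Nat.prime_dvd_prime_iff_eq hp hq).mp (hp.dvd_of_dvd_pow h)).symm
    · intro h hh
      exact Subgroup.commute_of_normal_of_disjoint _ _ hpn hqn hdisj y h hy hh
  obtain ⟨F, hF⟩ : ∃ F, F = Cfsg.pCore p G := ⟨_, rfl⟩
  rw [← hF] at hpO hFp
  haveI hFn : F.Normal := hF ▸ Cfsg.Agent.Lib.Cores.pCore_normal (G := G) p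
  have hCF : centralizer (F : Set G) ≤ F := by
    have h1 : Cfsg.fittingSubgroup G = F := by
      rw [fitting_eq_iSup_pCore, hF]
      apply le_antisymm
      · apply iSup_le
        rintro ⟨q, hq⟩
        by_cases hqp : q = p
        · subst hqp; exact le_rfl
        · rw [honly q hq hqp]; exact bot_le
      · exact le_iSup (fun q : Nat.Primes => Cfsg.pCore (q : ℕ) G) ⟨p, hp⟩
    have h2 := Nilp.centralizer_fitting_le (G := G)
    rwa [h1] at h2
  obtain ⟨nF, hnF⟩ := IsPGroup.iff_card.mp hFp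
  have hFnil : Group.IsNilpotent F := hFp.isNilpotent
  -- the quotient
  have hq := QuotientGroup.mk'_surjective F
  have hCNb : Cfsg.IsCNGroup (G ⧸ F) := quotient hCN F inferInstance
  have hOp : Cfsg.pCore p (G ⧸ F) = ⊥ := by
    subst hF
    exact pCore_quotient_pCore p
  have hpGb : p ∣ Nat.card (G ⧸ F) := by
    by_contra hnd
    obtain ⟨P⟩ := (inferInstance : Nonempty (Sylow p G))
    have hPF : (P : Subgroup G) = F := by
      apply le_antisymm _ (hF ▸ pCore_le_sylow P)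
      intro x hx
      obtain ⟨k, hk⟩ := P.isPGroup' ⟨x, hx⟩
      have hk' : x ^ p ^ k = 1 := congrArg Subtype.val hk
      have h1 : orderOf (QuotientGroup.mk' F x) ∣ p ^ k := by
        apply _root_.orderOf_dvd_of_pow_eq_one
        rw [← map_pow, hk', map_one]
      have h2 : orderOf (QuotientGroup.mk' F x) = 1 := by
        obtain ⟨j, _, hj⟩ := (Nat.dvd_prime_pow hp).mp h1
        have hj0 : j = 0 := by
          by_contra hj0
          exact hnd ((dvd_pow_self p hj0).trans (hj ▸ orderOf_dvd_natCard _))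
        rw [hj, hj0, pow_zero]
      exact (QuotientGroup.eq_one_iff x).mp (orderOf_eq_one_iff.mp h2)
    exact hno p hpf P (hPF ▸ hpO) (hPF ▸ hFn)
  obtain ⟨Pb⟩ := (inferInstance : Nonempty (Sylow p (G ⧸ F)))
  have hPb : ¬ (Pb : Subgroup (G ⧸ F)).Normal := by
    intro h
    have h1 : (Pb : Subgroup (G ⧸ F)) ≤ ⊥ := hOp ▸ le_pCore h Pb.isPGroup'
    have h2 := Pb.card_eq_multiplicity
    rw [le_bot_iff.mp h1, card_bot] at h2
    have h3 : p ∣ p ^ (Nat.card (G ⧸ F)).factorization p := dvd_pow_self p (hp.factorization_pos_of_dvd Nat.card_pos.ne' hpGb).ne'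
    rw [← h2] at h3
    exact hp.one_lt.ne' (Nat.dvd_one.mp h3)
  obtain ⟨Ab, hAb⟩ : ∃ Ab, Ab = Cfsg.pPrimeCore p (G ⧸ F) := ⟨_, rfl⟩
  haveI hAbn : Ab.Normal := hAb ▸ Cfsg.Agent.Lib.Cores.pPrimeCore_normal (G := G ⧸ F) p
  have hAbc : (Nat.card Ab).Coprime p := hAb ▸ pPrimeCore_coprime p
  have hAbc' : ¬ p ∣ Nat.card Ab := (Nat.Prime.coprime_iff_not_dvd hp).mp hAbc.symm
  have hAb1 : Ab ≠ ⊥ := by
    intro h
    have h1 : Cfsg.fittingSubgroup (G ⧸ F) = ⊥ := by
      rw [fitting_eq_bot_iff]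
      intro r hr
      by_cases hrp : r = p
      · rw [hrp, hOp]
      · rw [eq_bot_iff, ← h, hAb]
        exact pCore_le_pPrimeCore hr hp hrp
    have h2 := card_one_of_fitting (X := G ⧸ F) inferInstance h1
    rw [h2] at hpGb
    exact hp.one_lt.ne' (Nat.dvd_one.mp hpGb)
  -- the preimage
  obtain ⟨M, hM⟩ : ∃ M, M = Ab.comap (QuotientGroup.mk' F) := ⟨_, rfl⟩
  haveI hMn : M.Normal := hM ▸ hAbn.comap _
  have hFM : F ≤ M := by
    intro x hx
    rw [hM, mem_comap]
    have : QuotientGroup.mk' F x = 1 := (QuotientGroup.eq_one_iff x).mpr hx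
    rw [this]; exact one_mem _
  have hMcard : Nat.card M = Nat.card F * Nat.card Ab := by
    rw [hM, card_comap_eq _ hq, QuotientGroup.ker_mk']
  obtain ⟨K, hK⟩ : ∃ K, K = F.subgroupOf M := ⟨_, rfl⟩
  haveI hKn : K.Normal := hK ▸ inferInstance
  have hKcard : Nat.card K = Nat.card F := by rw [hK]; exact Nat.card_congr (subgroupOfEquivOfLe hFM).toEquiv
  have hKidx : K.index = Nat.card Ab := by
    have h1 := K.card_mul_index
    rw [hKcard, hMcard] at h1
    exact Nat.eq_of_mul_eq_mul_left Nat.card_pos h1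
  have hKcop : (Nat.card K).Coprime K.index := by
    rw [hKcard, hKidx, hnF]; exact Nat.Coprime.pow_left nF hAbc.symm
  obtain ⟨A₀, hc⟩ := Subgroup.exists_right_complement'_of_coprime hKcop
  have hA₀card : Nat.card A₀ = Nat.card Ab := by rw [← hc.symm.index_eq_card, hKidx]
  have hK1 : K ≠ ⊥ := by
    intro h
    apply hpO
    rw [h, card_bot] at hKcard
    exact card_eq_one.mp hKcard.symm
  have hA₀1 : A₀ ≠ ⊥ := by
    intro h
    apply hAb1
    rw [h, card_bot] at hA₀card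
    exact card_eq_one.mp hA₀card.symm
  have hApow : ∀ a ∈ A₀, a ^ Nat.card Ab = 1 := by
    intro a ha
    have : (⟨a, ha⟩ : A₀) ^ Nat.card A₀ = 1 := pow_card_eq_one'
    rw [hA₀card] at this
    exact congrArg Subtype.val this
  have hfG : ∀ a ∈ A₀, a ≠ 1 → ∀ x ∈ F, x * (a : G) = a * x → x = 1 := by
    intro a ha ha1 x hx hxa
    by_contra hx1
    have h1 := cent_all hCN hFnil hx hx1 (le_normalizer_of_normal (mem_top (a : G))) (m := Nat.card Ab)
      (by exact congrArg Subtype.val (hApow a ha)) (by rw [hnF]; exact Nat.Coprime.pow_right nF hAbc) hxa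
    have h2 : (a : G) ∈ F := hCF (mem_centralizer_iff.mpr fun h hh => (h1 h hh).symm)
    have h3 : a ∈ K ⊓ A₀ := mem_inf.mpr ⟨hK ▸ mem_subgroupOf.mpr h2, ha⟩
    rw [hc.disjoint.eq_bot] at h3
    exact ha1 (mem_bot.mp h3)
  have hfpf : ∀ a ∈ A₀, a ≠ 1 → K ⊓ centralizer ({a} : Set M) = ⊥ := by
    intro a ha ha1
    rw [eq_bot_iff]
    intro x hx
    obtain ⟨hxK, hxa⟩ := mem_inf.mp hx
    rw [hK, mem_subgroupOf] at hxK
    exact mem_bot.mpr (Subtype.ext (hfG a ha ha1 x hxK (congrArg Subtype.val (mem_centralizer_singleton_iff.mp hxa))))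
  have hA₀nil := nilpotent_compl (CN.subgroup hCN M) hc hK1 hA₀1 hfpf
  -- the isomorphism
  have hMab : ∀ x ∈ M, QuotientGroup.mk' F x ∈ Ab := by
    intro x hx
    rw [hM] at hx
    exact mem_comap.mp hx
  obtain ⟨φ, hφ⟩ : ∃ φ : A₀ →* Ab, ∀ a, ((φ a : Ab) : G ⧸ F) = QuotientGroup.mk' F ((a : M) : G) :=
    ⟨(((QuotientGroup.mk' F).comp M.subtype).comp A₀.subtype).codRestrict Ab (fun a => hMab _ (a : M).2), fun a => rfl⟩
  have hφi : Function.Injective φ := by
    rw [injective_iff_map_eq_one]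
    intro a ha
    have h1 : QuotientGroup.mk' F ((a : M) : G) = 1 := by rw [← hφ, ha]; rfl
    have h2 : (a : M) ∈ K ⊓ A₀ := mem_inf.mpr ⟨hK ▸ mem_subgroupOf.mpr ((QuotientGroup.eq_one_iff _).mp h1), a.2⟩
    rw [hc.disjoint.eq_bot] at h2
    exact Subtype.ext (mem_bot.mp h2)
  have hφb : Function.Bijective φ := by
    rw [Nat.bijective_iff_injective_and_card]
    exact ⟨hφi, hA₀card⟩
  have hAbnil : Group.IsNilpotent Ab := Group.nilpotent_of_surjective φ hφb.2
  have hfp : ∀ b a : G ⧸ F, orderOf b = p → a ∈ Ab → a ≠ 1 → a * b ≠ b * a := fun b a hb ha ha1 =>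
    fpf_of_not_normal hCNb hAbnil hAbc' Pb hPb hb ha ha1
  obtain ⟨b, hb⟩ := exists_prime_orderOf_dvd_card' (G := G ⧸ F) p hpGb
  have hodd : ¬ 2 ∣ Nat.card A₀ := by
    intro h2
    obtain ⟨⟨s, hsA, hso, hsu, -⟩, -⟩ := Cfsg.Agent.S0068.result K A₀ hc hK1 hfpf h2
    have hs1 : s ≠ 1 := by rintro rfl; rw [orderOf_one] at hso; omega
    have h3 : QuotientGroup.mk' F (s : G) ∈ Ab := by rw [← hφ ⟨s, hsA⟩]; exact (φ _).2
    have h4 : b * QuotientGroup.mk' F (s : G) * b⁻¹ ∈ Ab := hAbn.conj_mem _ h3 b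
    obtain ⟨t, ht⟩ := hφb.2 ⟨_, h4⟩
    have hto : orderOf (t : M) = 2 := by
      have e1 : orderOf (t : M) = orderOf t := Subgroup.orderOf_coe t
      have e2 : orderOf t = orderOf (φ t) := (orderOf_injective φ hφi t).symm
      have e3 : orderOf (φ t) = orderOf (b * QuotientGroup.mk' F (s : G) * b⁻¹) := by rw [ht, ← Subgroup.orderOf_coe]
      have e4 : orderOf (b * QuotientGroup.mk' F (s : G) * b⁻¹) = orderOf (QuotientGroup.mk' F (s : G)) := by
        rw [show b * QuotientGroup.mk' F (s : G) * b⁻¹ = MulAut.conj b (QuotientGroup.mk' F (s : G)) from rfl, MulEquiv.orderOf_eq]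
      have e5 : orderOf (QuotientGroup.mk' F (s : G)) = orderOf (⟨s, hsA⟩ : A₀) := by
        rw [← hφ ⟨s, hsA⟩, Subgroup.orderOf_coe, orderOf_injective φ hφi]
      have e6 : orderOf (⟨s, hsA⟩ : A₀) = 2 := by rw [← Subgroup.orderOf_coe]; exact hso
      rw [e1, e2, e3, e4, e5, e6]
    have h5 := hsu t t.2 hto
    have h6 : b * QuotientGroup.mk' F (s : G) * b⁻¹ = QuotientGroup.mk' F (s : G) := by
      have h7 := congrArg Subtype.val ht
      rw [hφ, h5] at h7
      exact h7.symm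
    refine hfp b (QuotientGroup.mk' F (s : G)) hb h3 ?_ (mul_inv_eq_iff_eq_mul.mp h6).symm
    intro h
    apply hs1
    have h8 : φ ⟨s, hsA⟩ = 1 := Subtype.ext (by rw [hφ]; exact h)
    have h9 := hφi (h8.trans (map_one φ).symm)
    exact congrArg Subtype.val h9
  have hA₀cyc : IsCyclic A₀ := by
    rcases struct hA₀nil (fun q hq Q => @Cfsg.Agent.S0040.result M _ _ K A₀ hKn hc hK1 hfpf q hq Q) with h | ⟨C, Q, -, -, -, -, n, ⟨e⟩⟩
    · exact h
    · exfalso
      apply hodd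
      haveI : NeZero (2 ^ n) := ⟨by positivity⟩
      have h1 : Nat.card Q = 4 * 2 ^ n := by rw [Nat.card_congr e.toEquiv, Nat.card_eq_fintype_card, QuaternionGroup.card]
      have h2 : 2 ∣ Nat.card Q := by rw [h1]; exact ⟨2 * 2 ^ n, by ring⟩
      exact h2.trans (card_subgroup_dvd_card Q)
  haveI hAbcyc : IsCyclic Ab := isCyclic_of_surjective φ hφb.2
  have hquot := p_quot (X := G ⧸ F) (p := p) (hAb ▸ hAbcyc) (fun b a hb ha ha1 => hfp b a hb (hAb ▸ ha) ha1) (hAb ▸ hAb1)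
  rw [← hAb] at hquot
  have hMidx : M.index = Ab.index := by rw [hM]; exact index_comap_of_surjective _ hq
  have hmap : F ⊔ A₀.map M.subtype = M := by
    apply le_antisymm
    · apply sup_le hFM
      rintro _ ⟨a, _, rfl⟩
      exact a.2
    · intro x hx
      have h1 : (⟨x, hx⟩ : M) ∈ K ⊔ A₀ := by rw [hc.sup_eq_top]; exact mem_top _
      obtain ⟨k, hk, a, ha, h⟩ := mem_sup_of_normal_left.mp h1
      have h2 : x = (k : G) * (a : G) := (congrArg Subtype.val h).symm
      rw [h2]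
      rw [hK, mem_subgroupOf] at hk
      exact mul_mem ((le_sup_left : F ≤ _) hk) ((le_sup_right : A₀.map M.subtype ≤ _) ⟨a, ha, rfl⟩)
  refine ⟨p, hp, hF ▸ hpO, A₀.map M.subtype, ?_, ?_, ?_, ?_, ?_, ?_, ?_, ?_, ?_⟩
  · intro h
    exact hA₀1 ((Subgroup.map_eq_bot_iff_of_injective _ M.subtype_injective).mp h)
  · exact (MulEquiv.isCyclic (A₀.equivMapOfInjective _ M.subtype_injective)).mp hA₀cyc
  · rw [Nat.card_congr (A₀.equivMapOfInjective _ M.subtype_injective).toEquiv.symm]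
    exact Nat.odd_iff.mpr (by omega)
  · rw [Nat.card_congr (A₀.equivMapOfInjective _ M.subtype_injective).toEquiv.symm, hA₀card]
    exact hAbc
  · rw [← hF, hmap]; exact hMn
  · rw [← hF, hmap]
    intro h
    have h1 : Nat.card M = Nat.card G := by rw [h, card_top]
    rw [hMcard, card_eq_card_quotient_mul_card_subgroup F, mul_comm] at h1
    have h2 : Nat.card Ab = Nat.card (G ⧸ F) := Nat.eq_of_mul_eq_mul_right Nat.card_pos h1
    exact hAbc' (h2 ▸ hpGb)
  · rw [← hF, hmap, hMidx]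
    refine ⟨_, Nat.eq_prime_pow_of_unique_prime_dvd index_ne_zero_of_finite (fun {r} hr hrd => ?_)⟩
    by_contra hrp
    haveI : Fact r.Prime := ⟨hr⟩
    obtain ⟨x, hx⟩ := exists_prime_orderOf_dvd_card' (G := (G ⧸ F) ⧸ Ab) r hrd
    obtain ⟨x, rfl⟩ := QuotientGroup.mk'_surjective Ab x
    have h1 : x ^ r ∈ Ab := by
      rw [← QuotientGroup.eq_one_iff]
      change QuotientGroup.mk' Ab (x ^ r) = 1
      rw [map_pow, ← hx, pow_orderOf_eq_one]
    have h2 := hquot x ⟨r, (Nat.coprime_primes hr hp).mpr hrp, h1⟩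
    have h3 : QuotientGroup.mk' Ab x = 1 := (QuotientGroup.eq_one_iff x).mpr h2
    rw [h3, orderOf_one] at hx
    exact hr.one_lt.ne hx
  · rintro _ ⟨a, ha, rfl⟩ ha1
    rw [← hF, eq_bot_iff]
    intro x hx
    obtain ⟨hxF, hxa⟩ := mem_inf.mp hx
    exact mem_bot.mpr (hfG a ha (fun h => ha1 (by rw [h, map_one])) x hxF (mem_centralizer_singleton_iff.mp hxa))
  · rintro x hx _ ⟨a, ha, rfl⟩ ha1 hxa
    rw [← hF, hmap] at hx
    rw [← hF] at hxa
    have hxb : QuotientGroup.mk' F x ∉ Ab := fun h => hx (hM ▸ mem_comap.mpr h)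
    have hab : QuotientGroup.mk' F (a : G) ∈ Ab := by rw [← hφ ⟨a, ha⟩]; exact (φ _).2
    have hab1 : QuotientGroup.mk' F (a : G) ≠ 1 := by
      intro h
      apply ha1
      have h8 : φ ⟨a, ha⟩ = 1 := Subtype.ext (by rw [hφ]; exact h)
      have h9 := hφi (h8.trans (map_one φ).symm)
      have h10 : a = 1 := congrArg Subtype.val h9
      rw [h10, map_one]
    have hcom : QuotientGroup.mk' F (a : G) * QuotientGroup.mk' F x = QuotientGroup.mk' F x * QuotientGroup.mk' F (a : G) := by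
      have h1 : QuotientGroup.mk' F (x * (M.subtype a) * x⁻¹ * (M.subtype a)⁻¹) = 1 := (QuotientGroup.eq_one_iff _).mpr hxa
      rw [map_mul, map_mul, map_mul, map_inv, map_inv] at h1
      exact (mul_inv_eq_iff_eq_mul.mp (mul_inv_eq_one.mp h1)).symm
    -- an element of order `p` among the powers
    have hpo : p ∣ orderOf (QuotientGroup.mk' F x) := by
      by_contra hnd
      apply hxb
      apply hquot
      refine ⟨orderOf (QuotientGroup.mk' F x), ((Nat.Prime.coprime_iff_not_dvd hp).mpr hnd).symm, ?_⟩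
      rw [pow_orderOf_eq_one]; exact one_mem _
    obtain ⟨k, hk⟩ := hpo
    have hk0 : 0 < orderOf (QuotientGroup.mk' F x) := orderOf_pos _
    have h1 : orderOf ((QuotientGroup.mk' F x) ^ k) = p := by
      rw [orderOf_pow' _ (by rintro rfl; rw [mul_zero] at hk; omega), hk, Nat.gcd_eq_right (Dvd.intro_left p rfl),
        Nat.mul_div_cancel _ (Nat.pos_of_ne_zero (by rintro rfl; rw [mul_zero] at hk; omega))]
    refine hfp _ _ h1 hab hab1 ?_
    exact ((show Commute (QuotientGroup.mk' F (a : G)) (QuotientGroup.mk' F x) from hcom).pow_right k).eq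

end Cfsg.Agent.H2.CND
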