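import Mathlib
import Cfsg.Agent.Lib.ExSp
import Cfsg.Agent.Lib.Nilp
import Cfsg.Agent.H2.PUtil

/-! `p`-groups with an extraspecial subgroup of index `p`. -/

set_option autoImplicit false
set_option linter.unusedSectionVars false
set_option linter.style.haveILetI false
set_option linter.unusedVariables false

namespace Cfsg.Agent.H2.ExIdx

open Subgroup Cfsg Cfsg.Agent.Lib
open scoped commutatorElement

universe u
variable {S : Type u} [Group S] [Finite S] {p : ℕ} [hp : Fact p.Prime]

theorem normal_of_index (hS : IsPGroup p S) {Q : Subgroup S} (hQi : Q.index = p) : Q.Normal := by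
  apply Subgroup.normal_of_index_eq_minFac_card
  obtain ⟨k, hk⟩ := IsPGroup.iff_card.1 hS
  rw [hQi, hk]
  have hk0 : k ≠ 0 := by
    rintro rfl
    rw [pow_zero] at hk
    have h1 := Q.card_mul_index
    rw [hk, hQi] at h1
    exact hp.out.one_lt.ne' (Nat.eq_one_of_mul_eq_one_left h1)
  rw [Nat.Prime.pow_minFac hp.out hk0]

theorem card_Q {E : Type u} [Group E] [Finite E] (hQ : Cfsg.IsExtraspecial p E) : ∃ n : ℕ, 1 ≤ n ∧ Nat.card E = p ^ (2 * n + 1) := by
  obtain ⟨z, D⟩ := ExSp.dat_of hQ
  obtain ⟨m, hm⟩ := ExSp.card_odd (Nat.card E) E z D le_rfl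
  refine ⟨m, ?_, hm⟩
  rcases Nat.eq_zero_or_pos m with h | h
  · exfalso
    subst h
    rw [mul_zero, zero_add, pow_one] at hm
    have h1 : center E = ⊤ := Subgroup.eq_top_of_card_eq _ (by rw [hQ.2, hm])
    have h2 : commutator E = ⊥ := by
      rw [eq_bot_iff, _root_.commutator_def, Subgroup.commutator_le]
      intro a _ b _
      rw [mem_bot, commutatorElement_eq_one_iff_mul_comm]
      have h3 : b ∈ center E := by rw [h1]; exact mem_top b
      exact mem_center_iff.1 h3 a
    have h3 := hQ.1.2.2
    rw [h2] at h3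
    have h4 := hQ.2
    rw [← h3, Subgroup.card_bot] at h4
    exact hp.out.one_lt.ne h4
  · exact h

theorem card_S {Q : Subgroup S} (hQ : Cfsg.IsExtraspecial p Q) (hQi : Q.index = p) :
    ∃ n : ℕ, 1 ≤ n ∧ Nat.card S = p ^ (2 + 2 * n) ∧ Nat.card Q = p ^ (2 * n + 1) := by
  obtain ⟨n, hn, h1⟩ := card_Q hQ
  refine ⟨n, hn, ?_, h1⟩
  rw [← Q.card_mul_index, hQi, h1, ← pow_succ]
  congr 1; ring

theorem central (hS : IsPGroup p S) {Z : Subgroup S} (hZn : Z.Normal) (hZ : Nat.card Z = p) : Z ≤ center S := by
  haveI := hS.isNilpotent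
  haveI := hZn
  have h1 : ⁅Z, (⊤ : Subgroup S)⁆ ≠ Z := PUtil.commutator_top_ne (by
    intro h
    rw [h, Subgroup.card_bot] at hZ
    exact hp.out.one_lt.ne hZ)
  have h2 : ⁅Z, (⊤ : Subgroup S)⁆ ≤ Z := Subgroup.commutator_le_left Z ⊤
  have h3 : ⁅Z, (⊤ : Subgroup S)⁆ = ⊥ := by
    have h4 : Nat.card (⁅Z, (⊤ : Subgroup S)⁆ : Subgroup S) ∣ p := by rw [← hZ]; exact Subgroup.card_dvd_of_le h2
    rcases (Nat.dvd_prime hp.out).1 h4 with h5 | h5
    · exact Subgroup.card_eq_one.1 h5
    · exact absurd (Subgroup.eq_of_le_of_card_ge h2 (by rw [h5, hZ])) h1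
  rw [Subgroup.commutator_eq_bot_iff_le_centralizer] at h3
  intro z hz
  rw [mem_center_iff]
  intro g
  exact mem_centralizer_iff.1 (h3 hz) g (mem_top g)

theorem center_inf (hS : IsPGroup p S) {Q : Subgroup S} (hQ : Cfsg.IsExtraspecial p Q) (hQi : Q.index = p) :
    center S ⊓ Q = (center Q).map Q.subtype := by
  haveI := normal_of_index hS hQi
  apply le_antisymm
  · rintro x ⟨hx, hxQ⟩
    refine ⟨⟨x, hxQ⟩, ?_, rfl⟩
    rw [SetLike.mem_coe, mem_center_iff]
    intro g
    exact Subtype.ext (mem_center_iff.1 hx g)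
  · refine le_inf (central hS inferInstance ?_) (map_subtype_le _)
    rw [Subgroup.card_map_of_injective Q.subtype_injective]
    exact hQ.2

theorem dichotomy (hS : IsPGroup p S) {Q : Subgroup S} (hQ : Cfsg.IsExtraspecial p Q) (hQi : Q.index = p) :
    center S = (center Q).map Q.subtype ∨ (Q ⊔ center S = ⊤ ∧ Nat.card (center S) = p ^ 2) := by
  have h1 := center_inf hS hQ hQi
  by_cases h : center S ≤ Q
  · left; rw [← h1]; exact (inf_eq_left.2 h).symm
  · right
    haveI := normal_of_index hS hQi
    have h2 : Q ⊔ center S = ⊤ := by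
      have h3 : (Q ⊔ center S).index ∣ p := by rw [← hQi]; exact Subgroup.index_dvd_of_le le_sup_left
      rcases (Nat.dvd_prime hp.out).1 h3 with h4 | h4
      · exact Subgroup.index_eq_one.1 h4
      · exfalso
        have h5 : Q = Q ⊔ center S := by
          apply Subgroup.eq_of_le_of_card_ge le_sup_left
          have h6 := Q.card_mul_index
          have h7 := (Q ⊔ center S).card_mul_index
          rw [h4] at h7
          rw [hQi] at h6
          exact (Nat.eq_of_mul_eq_mul_right hp.out.pos (h7.trans h6.symm)).le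
        exact h (by rw [h5]; exact le_sup_right)
    refine ⟨h2, ?_⟩
    have h3 : Q.relIndex (center S) = p := by
      have h4 : Q.relIndex (Q ⊔ center S) = Q.relIndex (center S) := by
        rw [sup_comm]; exact Subgroup.relIndex_sup_right _ _
      rw [← h4, h2, Subgroup.relIndex_top_right, hQi]
    have h4 : (center S ⊓ Q).relIndex (center S) = p := by
      rw [inf_comm, Subgroup.inf_relIndex_right]; exact h3
    have h5 : Nat.card (center S ⊓ Q : Subgroup S) * (center S ⊓ Q).relIndex (center S) = Nat.card (center S) := by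
      have h6 := Subgroup.relIndex_mul_relIndex ⊥ (center S ⊓ Q) (center S) bot_le inf_le_left
      rwa [Subgroup.relIndex_bot_left, Subgroup.relIndex_bot_left] at h6
    rw [← h5, h4, h1, Subgroup.card_map_of_injective Q.subtype_injective, hQ.2, sq]

/-- an extraspecial group with an abelian subgroup of index `p` has order `p^3` -/
theorem cube_of_abelian {E : Type u} [Group E] [Finite E] (hE : Cfsg.IsExtraspecial p E) {B : Subgroup E} (hB : IsMulCommutative B)
    (hBi : B.index = p) : Nat.card E = p ^ 3 := by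
  obtain ⟨n, hn, h1⟩ := card_Q hE
  obtain ⟨z, D⟩ := ExSp.dat_of hE
  have hBt : B ≠ ⊤ := by
    intro h
    rw [h, Subgroup.index_top] at hBi
    exact hp.out.one_lt.ne hBi
  obtain ⟨x, -, hx⟩ := SetLike.exists_of_lt (lt_top_iff_ne_top.2 hBt)
  have hsup : B ⊔ zpowers x = ⊤ := by
    have h3 : (B ⊔ zpowers x).index ∣ p := by rw [← hBi]; exact Subgroup.index_dvd_of_le le_sup_left
    rcases (Nat.dvd_prime hp.out).1 h3 with h4 | h4
    · exact Subgroup.index_eq_one.1 h4
    · exfalso
      have h5 : B = B ⊔ zpowers x := by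
        apply Subgroup.eq_of_le_of_card_ge le_sup_left
        have h6 := B.card_mul_index
        have h7 := (B ⊔ zpowers x).card_mul_index
        rw [h4] at h7
        rw [hBi] at h6
        exact (Nat.eq_of_mul_eq_mul_right hp.out.pos (h7.trans h6.symm)).le
      exact hx (by rw [h5]; exact (le_sup_right : zpowers x ≤ _) (mem_zpowers x))
  -- the homomorphism
  let f : B →* E := (D.homL x).comp B.subtype
  have hker : f.ker.map B.subtype ≤ zpowers z := by
    rintro _ ⟨b, hb, rfl⟩
    have hbx : Commute (b : E) x := by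
      have h3 : f b = 1 := hb
      have h4 : ⁅(b : E), x⁆ = 1 := h3
      exact commutatorElement_eq_one_iff_commute.1 h4
    apply D.cen
    intro y
    have h5 : (⊤ : Subgroup E) ≤ centralizer ({(b : E)} : Set E) := by
      rw [← hsup]
      refine sup_le ?_ ?_
      · intro c hc
        rw [mem_centralizer_singleton_iff]
        have := hB.is_comm.comm ⟨c, hc⟩ b
        first
        | exact congrArg Subtype.val this
        | exact (congrArg Subtype.val this).symm
      · rw [zpowers_le, mem_centralizer_singleton_iff]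
        first
        | exact hbx.symm
        | exact hbx
    have h6 := h5 (mem_top y)
    rw [mem_centralizer_singleton_iff] at h6
    first
    | exact h6.symm
    | exact h6
  have h3 : Nat.card B ≤ p ^ 2 := by
    have h4 : Nat.card f.ker ≤ p := by
      rw [← Subgroup.card_map_of_injective (f := B.subtype) B.subtype_injective]
      have h5 := Nat.card_le_card_of_injective _ (Subgroup.inclusion_injective hker)
      rwa [Nat.card_zpowers, D.ord] at h5
    have h5 : f.ker.index ≤ p := by
      rw [Subgroup.index_ker]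
      have h7 : f.range ≤ zpowers z := by
        rintro _ ⟨b, rfl⟩
        exact D.comm b x
      have h6 := Nat.card_le_card_of_injective _ (Subgroup.inclusion_injective h7)
      rwa [Nat.card_zpowers, D.ord] at h6
    rw [← f.ker.card_mul_index, sq]
    exact Nat.mul_le_mul h4 h5
  have h4 : Nat.card E ≤ p ^ 3 := by
    rw [← B.card_mul_index, hBi, pow_succ]
    exact Nat.mul_le_mul_right _ h3
  rw [h1] at h4 ⊢
  have h5 := (Nat.pow_le_pow_iff_right hp.out.one_lt).1 h4
  congr 1
  omega

theorem abelian_iff (hS : IsPGroup p S) {Q : Subgroup S} (hQ : Cfsg.IsExtraspecial p Q) (hQi : Q.index = p) :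
    (∃ A : Subgroup S, IsMulCommutative A ∧ A.index = p) ↔ Nat.card S = p ^ 4 := by
  obtain ⟨n, hn, h1, h2⟩ := card_S hQ hQi
  have hQna : ¬ IsMulCommutative Q := by
    intro h
    have h3 : center Q = ⊤ := by
      rw [eq_top_iff]
      intro x _
      rw [mem_center_iff]
      intro g
      exact h.is_comm.comm g x
    have h4 := hQ.2
    rw [h3, Subgroup.card_top, h2] at h4
    have h5 := Nat.pow_right_injective hp.out.two_le (h4.trans (pow_one p).symm)
    omega
  constructor
  · rintro ⟨A, hA, hAi⟩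
    haveI := normal_of_index hS hQi
    haveI := normal_of_index hS hAi
    have hAQ : ¬ Q ≤ A := by
      intro h
      apply hQna
      refine ⟨⟨fun a b => Subtype.ext ?_⟩⟩
      exact congrArg (fun t : A => (t : S)) (hA.is_comm.comm ⟨a, h a.2⟩ ⟨b, h b.2⟩)
    have hsup : A ⊔ Q = ⊤ := by
      have h3 : (A ⊔ Q).index ∣ p := by rw [← hAi]; exact Subgroup.index_dvd_of_le le_sup_left
      rcases (Nat.dvd_prime hp.out).1 h3 with h4 | h4
      · exact Subgroup.index_eq_one.1 h4
      · exfalso
        have h5 : A = A ⊔ Q := by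
          apply Subgroup.eq_of_le_of_card_ge le_sup_left
          have h6 := A.card_mul_index
          have h7 := (A ⊔ Q).card_mul_index
          rw [h4] at h7
          rw [hAi] at h6
          exact (Nat.eq_of_mul_eq_mul_right hp.out.pos (h7.trans h6.symm)).le
        exact hAQ (by rw [h5]; exact le_sup_right)
    have h3 : (A.subgroupOf Q).index = p := by
      show A.relIndex Q = p
      have h4 : A.relIndex (A ⊔ Q) = A.relIndex Q := by
        rw [sup_comm]; exact Subgroup.relIndex_sup_right _ _
      rw [← h4, hsup, Subgroup.relIndex_top_right, hAi]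
    have h4 : IsMulCommutative (A.subgroupOf Q) := by
      refine ⟨⟨fun a b => Subtype.ext (Subtype.ext ?_)⟩⟩
      exact congrArg (fun t : A => (t : S)) (hA.is_comm.comm ⟨((a : Q) : S), a.2⟩ ⟨((b : Q) : S), b.2⟩)
    have h5 := cube_of_abelian hQ h4 h3
    rw [← Q.card_mul_index, hQi, h5, ← pow_succ]
  · intro h4
    obtain ⟨A, hAn, hAab, hmax⟩ := PUtil.exists_max_abelian_normal (G := S)
    haveI := hS.isNilpotent
    have hCA : centralizer (A : Set S) = A := Nilp.centralizer_eq_of_maximal_abelian_normal A hAab hmax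
    have h5 : ¬ Nat.card A ≤ p ^ 2 := by
      intro h
      have h6 := PUtil.card_le_cube hS hAn hCA h
      rw [h4] at h6
      have h7 := (Nat.pow_le_pow_iff_right hp.out.one_lt).1 h6
      omega
    refine ⟨A, hAab, ?_⟩
    have hdv : Nat.card A ∣ p ^ 4 := by rw [← h4]; exact Subgroup.card_subgroup_dvd_card A
    obtain ⟨k, hk4, hk⟩ := (Nat.dvd_prime_pow hp.out).1 hdv
    have hk2 : 2 < k := by
      by_contra h
      apply h5
      rw [hk]
      exact Nat.pow_le_pow_right hp.out.pos (by omega)
    have hk3 : k = 3 := by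
      by_contra h
      have hk' : k = 4 := by omega
      have hAt : A = ⊤ := Subgroup.eq_top_of_card_eq _ (by rw [hk, h4, hk'])
      apply hQna
      refine ⟨⟨fun a b => Subtype.ext ?_⟩⟩
      exact congrArg (fun t : A => (t : S)) (hAab.is_comm.comm ⟨a, hAt ▸ mem_top _⟩ ⟨b, hAt ▸ mem_top _⟩)
    have h6 := A.card_mul_index
    rw [hk, hk3, h4, show p ^ 4 = p ^ 3 * p by ring] at h6
    exact Nat.eq_of_mul_eq_mul_left (pow_pos hp.out.pos 3) h6

theorem rest (hS : IsPGroup p S) {Q : Subgroup S} (hQ : Cfsg.IsExtraspecial p Q) (hQi : Q.index = p) :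
    derivedSeries S 3 = ⊥ ∧ ∀ x : S, x ^ (p ^ 3) = 1 := by
  haveI hQn := normal_of_index hS hQi
  have hZ : ∀ a b c : Q, a ∈ center Q → a * b = b * a := fun a b c ha => (mem_center_iff.1 ha b).symm
  have hq : Nat.card (S ⧸ Q) = p := by rw [← Subgroup.index_eq_card]; exact hQi
  haveI : IsCyclic (S ⧸ Q) := isCyclic_of_prime_card (p := p) hq
  have h1 : derivedSeries S 1 ≤ Q := by
    rw [derivedSeries_succ, derivedSeries_zero, Subgroup.commutator_le]
    intro a _ b _
    apply (QuotientGroup.eq_one_iff _).1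
    have h2 : QuotientGroup.mk' Q ⁅a, b⁆ = 1 := by
      rw [map_commutatorElement, commutatorElement_eq_one_iff_mul_comm]
      obtain ⟨g, hg⟩ := IsCyclic.exists_generator (α := S ⧸ Q)
      obtain ⟨i, hi⟩ := mem_zpowers_iff.1 (hg (QuotientGroup.mk' Q a))
      obtain ⟨j, hj⟩ := mem_zpowers_iff.1 (hg (QuotientGroup.mk' Q b))
      rw [← hi, ← hj, ← zpow_add, ← zpow_add, add_comm]
    exact h2
  have h2 : derivedSeries S 2 ≤ (center Q).map Q.subtype := by
    rw [derivedSeries_succ]
    refine (Subgroup.commutator_mono h1 h1).trans ?_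
    rw [← hQ.1.2.2, _root_.commutator_def, Subgroup.map_commutator, ← MonoidHom.range_eq_map, Subgroup.range_subtype]
  constructor
  · rw [derivedSeries_succ, eq_bot_iff]
    refine (Subgroup.commutator_mono h2 h2).trans ?_
    rw [Subgroup.commutator_le]
    rintro _ ⟨a, ha, rfl⟩ _ ⟨b, hb, rfl⟩
    rw [mem_bot, commutatorElement_eq_one_iff_mul_comm]
    exact congrArg (fun t : Q => (t : S)) (mem_center_iff.1 ha b).symm
  · intro x
    have h3 : x ^ p ∈ Q := by
      apply (QuotientGroup.eq_one_iff _).1
      have h4 := pow_card_eq_one' (x := (QuotientGroup.mk' Q x))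
      rw [hq] at h4
      exact h4
    have h4 : (⟨x ^ p, h3⟩ : Q) ^ p ∈ center Q := by
      rw [← hQ.1.2.1]
      exact Nilp.pow_mem_frattini hQ.1.1 _
    have h5' : ∀ c : center Q, c ^ p = 1 := by
      intro c
      have h6 := pow_card_eq_one' (x := c)
      rwa [hQ.2] at h6
    have h5 : (⟨_, h4⟩ : center Q) ^ p = 1 := h5' _
    have h6 : ((x ^ p) ^ p) ^ p = 1 := congrArg (fun t : center Q => ((t : Q) : S)) h5
    rw [show p ^ 3 = p * p * p by ring, pow_mul, pow_mul]
    exact h6

end Cfsg.Agent.H2.ExIdx
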