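import Mathlib

/-! Filtrations on sequences and the formula of Hall and Petresco. -/

namespace Cfsg.Agent.H2.HallPet
open Subgroup
open scoped commutatorElement

variable {G : Type*} [Group G]

def Filt (N : ℕ → Subgroup G) : Prop :=
  (∀ s, N (s + 1) ≤ N s) ∧ ∀ s t, ∀ x ∈ N s, ∀ y ∈ N t, ⁅x, y⁆ ∈ N (s + t)

theorem anti {N : ℕ → Subgroup G} (h : Filt N) {s t : ℕ} (hst : s ≤ t) : N t ≤ N s :=
  antitone_nat_of_succ_le h.1 hst

theorem conj_mem {N : ℕ → Subgroup G} (h : Filt N) {s t : ℕ} {g u : G} (hg : g ∈ N t) (hu : u ∈ N s) :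
    g * u * g⁻¹ ∈ N s := by
  have h1 : ⁅g, u⁆ ∈ N (t + s) := h.2 t s g hg u hu
  have h2 : N (t + s) ≤ N s := anti h (by omega)
  have h3 : g * u * g⁻¹ = ⁅g, u⁆ * u := by rw [commutatorElement_def]; group
  rw [h3]
  exact mul_mem (h2 h1) hu

def next (T : G →* G) (N : ℕ → Subgroup G) (h : Filt N) (s : ℕ) : Subgroup G where
  carrier := {f | f ∈ N s ∧ f⁻¹ * T f ∈ N (s + 1)}
  one_mem' := by
    refine ⟨one_mem _, ?_⟩
    rw [map_one, inv_one, one_mul]
    exact one_mem _
  mul_mem' := by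
    rintro f g ⟨hf, hf'⟩ ⟨hg, hg'⟩
    refine ⟨mul_mem hf hg, ?_⟩
    have h1 : (f * g)⁻¹ * T (f * g) = (g⁻¹ * (f⁻¹ * T f) * (g⁻¹)⁻¹) * (g⁻¹ * T g) := by
      rw [map_mul]; group
    rw [h1]
    exact mul_mem (conj_mem h (inv_mem hg) hf') hg'
  inv_mem' := by
    rintro f ⟨hf, hf'⟩
    refine ⟨inv_mem hf, ?_⟩
    have h1 : (f⁻¹)⁻¹ * T f⁻¹ = f * (f⁻¹ * T f)⁻¹ * f⁻¹ := by
      rw [map_inv]; group
    rw [h1]
    exact conj_mem h hf (inv_mem hf')

theorem mem_next {T : G →* G} {N : ℕ → Subgroup G} {h : Filt N} {s : ℕ} {f : G} :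
    f ∈ next T N h s ↔ f ∈ N s ∧ f⁻¹ * T f ∈ N (s + 1) := Iff.rfl

theorem filt_next (T : G →* G) (N : ℕ → Subgroup G) (h : Filt N) : Filt (next T N h) := by
  refine ⟨?_, ?_⟩
  · rintro s f ⟨h1, h2⟩
    exact ⟨h.1 s h1, h.1 (s + 1) h2⟩
  · rintro s t f ⟨hf, hf'⟩ g ⟨hg, hg'⟩
    refine ⟨h.2 s t f hf g hg, ?_⟩
    rw [map_commutatorElement]
    set u := f⁻¹ * T f with hu
    set v := g⁻¹ * T g with hv
    have eu : T f = f * u := by rw [hu]; group
    have ev : T g = g * v := by rw [hv]; group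
    rw [eu, ev]
    have h1 : ⁅f, g⁆⁻¹ * ⁅f * u, g * v⁆ =
        (⁅f, g⁆⁻¹ * (f * ⁅u, g * v⁆ * f⁻¹) * (⁅f, g⁆⁻¹)⁻¹) * (g * ⁅f, v⁆ * g⁻¹) := by
      simp only [commutatorElement_def]; group
    rw [h1]
    have hgv : g * v ∈ N t := mul_mem hg (h.1 t hg')
    have h2 : ⁅u, g * v⁆ ∈ N (s + t + 1) := by
      have := h.2 (s + 1) t u hf' (g * v) hgv
      rwa [show s + 1 + t = s + t + 1 by omega] at this
    have h3 : ⁅f, v⁆ ∈ N (s + t + 1) := by
      have := h.2 s (t + 1) f hf v hg'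
      rwa [show s + (t + 1) = s + t + 1 by omega] at this
    exact mul_mem (conj_mem h (inv_mem (h.2 s t f hf g hg)) (conj_mem h hf h2)) (conj_mem h hg h3)

def Q (T : G →* G) (N : {N : ℕ → Subgroup G // Filt N}) : ℕ → {N : ℕ → Subgroup G // Filt N}
  | 0 => N
  | m + 1 => ⟨next T (Q T N m).1 (Q T N m).2, filt_next T (Q T N m).1 (Q T N m).2⟩

def shift (G : Type*) [Group G] : (ℕ → G) →* (ℕ → G) where
  toFun f n := f (n + 1)
  map_one' := rfl
  map_mul' _ _ := rfl

def base (F : {N : ℕ → Subgroup G // Filt N}) : {N : ℕ → Subgroup (ℕ → G) // Filt N} :=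
  ⟨fun s => (F.1 s).comap (Pi.evalMonoidHom (fun _ : ℕ => G) 0), by
    refine ⟨fun s f hf => F.2.1 s hf, fun s t f hf g hg => ?_⟩
    rw [mem_comap, map_commutatorElement]
    exact F.2.2 s t _ hf _ hg⟩

theorem corner (F : {N : ℕ → Subgroup G // Filt N}) (m : ℕ) :
    ∀ (s : ℕ) (f : ℕ → G), f ∈ (Q (shift G) (base F) m).1 s → (∀ j < m, f j = 1) → f m ∈ F.1 (s + m) := by
  induction m with
  | zero => intro s f hf _; exact hf
  | succ m ih =>
    intro s f hf h1
    have h2 := hf.2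
    have h3 := ih (s + 1) _ h2 (fun j hj => by
      change (f j)⁻¹ * f (j + 1) = 1
      rw [h1 j (by omega), h1 (j + 1) (by omega)]; simp)
    have h4 : (f m)⁻¹ * f (m + 1) ∈ F.1 (s + 1 + m) := h3
    rw [h1 m (by omega), inv_one, one_mul, show s + 1 + m = s + (m + 1) by omega] at h4
    exact h4

theorem binom (F : {N : ℕ → Subgroup G // Filt N}) (m : ℕ) :
    ∀ (s k : ℕ) (c : G), c ∈ F.1 (s + k) → (fun n : ℕ => c ^ (n.choose k)) ∈ (Q (shift G) (base F) m).1 s := by
  induction m with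
  | zero =>
    intro s k c hc
    exact pow_mem (anti F.2 (by omega) hc) _
  | succ m ih =>
    intro s k c hc
    refine ⟨ih s k c hc, ?_⟩
    obtain _ | k := k
    · have h1 : (fun n : ℕ => c ^ (n.choose 0))⁻¹ * (shift G) (fun n : ℕ => c ^ (n.choose 0)) = 1 := by
        funext n
        change (c ^ (n.choose 0))⁻¹ * c ^ ((n + 1).choose 0) = 1
        simp
      rw [h1]; exact one_mem _
    · have h1 : (fun n : ℕ => c ^ (n.choose (k + 1)))⁻¹ * (shift G) (fun n : ℕ => c ^ (n.choose (k + 1))) =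
          fun n : ℕ => c ^ (n.choose k) := by
        funext n
        change (c ^ (n.choose (k + 1)))⁻¹ * c ^ ((n + 1).choose (k + 1)) = c ^ (n.choose k)
        rw [Nat.choose_succ_succ, Nat.succ_eq_add_one, Nat.add_comm (n.choose k), pow_add, inv_mul_cancel_left]
      rw [h1]
      exact ih (s + 1) k c (by rwa [show s + 1 + k = s + (k + 1) by omega])

theorem hall (F : {N : ℕ → Subgroup G // Filt N}) (f : ℕ → G)
    (hf : ∀ m, f ∈ (Q (shift G) (base F) m).1 0) (k : ℕ) :
    ∃ c : ℕ → G, (∀ j, c j ∈ F.1 j) ∧ ∀ n < k, f n = ((List.range k).map (fun j => c j ^ n.choose j)).prod := by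
  induction k with
  | zero => exact ⟨fun _ => 1, fun _ => one_mem _, fun n hn => absurd hn (by omega)⟩
  | succ k ih =>
    obtain ⟨c, hc, h1⟩ := ih
    set P : ℕ → G := ((List.range k).map (fun j => (fun n : ℕ => c j ^ n.choose j))).prod with hP
    have hPn : ∀ n, P n = ((List.range k).map (fun j => c j ^ n.choose j)).prod := by
      intro n
      have := map_list_prod (Pi.evalMonoidHom (fun _ : ℕ => G) n) ((List.range k).map (fun j => (fun n : ℕ => c j ^ n.choose j)))
      rw [List.map_map] at this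
      exact this
    have hPQ : P ∈ (Q (shift G) (base F) k).1 0 := by
      rw [hP]
      apply Subgroup.list_prod_mem
      intro g hg
      rw [List.mem_map] at hg
      obtain ⟨j, _, rfl⟩ := hg
      exact binom F k 0 j (c j) (by rw [zero_add]; exact hc j)
    have hQ : P⁻¹ * f ∈ (Q (shift G) (base F) k).1 0 := mul_mem (inv_mem hPQ) (hf k)
    have hk : (P k)⁻¹ * f k ∈ F.1 k := by
      have := corner F k 0 _ hQ (fun j hj => by
        change (P j)⁻¹ * f j = 1
        rw [hPn, ← h1 j hj]; simp)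
      rw [zero_add] at this
      exact this
    refine ⟨fun j => if j = k then (P k)⁻¹ * f k else c j, ?_, ?_⟩
    · intro j
      by_cases hj : j = k
      · simp only [hj, if_true]; exact hk
      · simp only [hj, if_false]; exact hc j
    · intro n hn
      rw [List.range_succ, List.map_append, List.prod_append, List.map_singleton, List.prod_singleton]
      have h2 : (List.range k).map (fun j => (if j = k then (P k)⁻¹ * f k else c j) ^ n.choose j) =
          (List.range k).map (fun j => c j ^ n.choose j) := by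
        apply List.map_congr_left
        intro j hj
        rw [List.mem_range] at hj
        rw [if_neg (by omega)]
      rw [h2, ← hPn]
      simp only [if_true]
      by_cases hnk : n = k
      · subst hnk
        rw [Nat.choose_self, pow_one, mul_inv_cancel_left]
      · rw [Nat.choose_eq_zero_of_lt (by omega), pow_zero, mul_one, hPn]
        exact h1 n (by omega)

end Cfsg.Agent.H2.HallPet
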