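import Mathlib
import Cfsg.Prelude.Def_PLocal
import Cfsg.Agent.H2.HallPet

/-! The formula of Hall and Petresco for the lower central series. -/

namespace Cfsg.Agent.H2.HallPetB
open Subgroup
open scoped commutatorElement

theorem three {H : Type*} [Group H] (N A B C : Subgroup H) [N.Normal] (h1 : ⁅⁅B, C⁆, A⁆ ≤ N)
    (h2 : ⁅⁅C, A⁆, B⁆ ≤ N) : ⁅⁅A, B⁆, C⁆ ≤ N := by
  have key : ∀ X : Subgroup H, X ≤ N ↔ X.map (QuotientGroup.mk' N) = ⊥ := fun X => by
    rw [Subgroup.map_eq_bot_iff, QuotientGroup.ker_mk']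
  rw [key] at h1 h2 ⊢
  rw [map_commutator, map_commutator] at h1 h2 ⊢
  exact commutator_commutator_eq_bot_of_rotate h1 h2

variable {H : Type*} [Group H]

theorem lcs_comm (j : ℕ) : ∀ i, ⁅(⊤ : Subgroup H).lowerCentralSeries i, (⊤ : Subgroup H).lowerCentralSeries j⁆ ≤
    (⊤ : Subgroup H).lowerCentralSeries (i + j + 1) := by
  induction j with
  | zero => intro i; exact le_of_eq rfl
  | succ j ih =>
    intro i
    rw [commutator_comm]
    change ⁅⁅(⊤ : Subgroup H).lowerCentralSeries j, ⊤⁆, (⊤ : Subgroup H).lowerCentralSeries i⁆ ≤ _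
    apply three
    · rw [commutator_comm ⊤]
      have := ih (i + 1)
      rwa [show i + 1 + j + 1 = i + (j + 1) + 1 by omega] at this
    · refine le_trans (commutator_mono (ih i) le_rfl) (le_of_eq ?_)
      rfl

def F (H : Type*) [Group H] : {N : ℕ → Subgroup H // HallPet.Filt N} :=
  ⟨fun s => (⊤ : Subgroup H).lowerCentralSeries (s - 1), by
    refine ⟨fun s => Subgroup.lowerCentralSeries_antitone _ (by omega), fun s t x hx y hy => ?_⟩
    obtain _ | s := s
    · rw [zero_add, commutatorElement_def]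
      exact mul_mem (Subgroup.Normal.conj_mem inferInstance y hy x) (inv_mem hy)
    · obtain _ | t := t
      · rw [commutatorElement_def, mul_assoc, mul_assoc, ← mul_assoc y]
        exact mul_mem hx (Subgroup.Normal.conj_mem inferInstance _ (inv_mem hx) y)
      · have := lcs_comm t s (commutator_mem_commutator hx hy)
        change ⁅x, y⁆ ∈ (⊤ : Subgroup H).lowerCentralSeries (s + 1 + (t + 1) - 1)
        rwa [show s + 1 + (t + 1) - 1 = s + t + 1 by omega]⟩

theorem main (p : ℕ) [hp : Fact p.Prime] (hcl : (⊤ : Subgroup H).lowerCentralSeries (p - 1) = ⊥) (a b : H) :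
    ∃ r ∈ Cfsg.powerClosure p 1 (⁅(⊤ : Subgroup H), ⊤⁆), (a * b) ^ p = a ^ p * b ^ p * r := by
  have hpow : ∀ (x : H) (m : ℕ), (fun n : ℕ => x ^ n) ∈ (HallPet.Q (HallPet.shift H) (HallPet.base (F H)) m).1 0 := by
    intro x m
    have := HallPet.binom (F H) m 0 1 x (Subgroup.mem_top x)
    simpa only [Nat.choose_one_right] using this
  have hf : ∀ m, (fun n : ℕ => a ^ n * b ^ n) ∈ (HallPet.Q (HallPet.shift H) (HallPet.base (F H)) m).1 0 :=
    fun m => mul_mem (hpow a m) (hpow b m)
  obtain ⟨c, hc, h1⟩ := HallPet.hall (F H) _ hf (p + 1)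
  obtain ⟨q, rfl⟩ : ∃ q, p = q + 2 := ⟨p - 2, by have := hp.1.two_le; omega⟩
  have hdec : ∀ n : ℕ, ((List.range (q + 2 + 1)).map (fun j => c j ^ n.choose j)).prod =
      c 0 ^ (n.choose 0) * (c 1 ^ (n.choose 1) * (((List.range q).map (fun j => c (j + 2) ^ n.choose (j + 2))).prod *
        c (q + 2) ^ (n.choose (q + 2)))) := by
    intro n
    rw [List.range_succ_eq_map, List.map_cons, List.prod_cons, List.map_map]
    congr 1
    rw [List.range_succ_eq_map, List.map_cons, List.prod_cons, List.map_map]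
    congr 1
    rw [List.range_succ, List.map_append, List.prod_append, List.map_singleton, List.prod_singleton]
    rfl
  have e0 := h1 0 (by omega)
  have e1 := h1 1 (by omega)
  have ep := h1 (q + 2) (by omega)
  rw [hdec] at e0 e1 ep
  have hz : ∀ n ≤ 1, ((List.range q).map (fun j => c (j + 2) ^ n.choose (j + 2))).prod *
        c (q + 2) ^ (n.choose (q + 2)) = 1 := by
    intro n hn
    rw [Nat.choose_eq_zero_of_lt (by omega), pow_zero, mul_one]
    apply List.prod_eq_one
    intro x hx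
    rw [List.mem_map] at hx
    obtain ⟨j, _, rfl⟩ := hx
    rw [Nat.choose_eq_zero_of_lt (by omega), pow_zero]
  rw [hz 0 (by omega)] at e0
  rw [hz 1 (by omega)] at e1
  have ec0 : c 0 = 1 := by simpa using e0.symm
  have ec1 : c 1 = a * b := by
    have : a * b = c 0 * c 1 := by simpa using e1
    rw [ec0, one_mul] at this
    exact this.symm
  have ecp : c (q + 2) = 1 := by
    have := hc (q + 2)
    have h2 : c (q + 2) ∈ (⊤ : Subgroup H).lowerCentralSeries (q + 2 - 1) := this
    rw [hcl] at h2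
    exact h2
  rw [ec0, ec1, ecp, one_pow, one_pow, one_mul, mul_one, Nat.choose_one_right] at ep
  set R := ((List.range q).map (fun j => c (j + 2) ^ (q + 2).choose (j + 2))).prod with hR
  have hRm : R ∈ Cfsg.powerClosure (q + 2) 1 (⁅(⊤ : Subgroup H), ⊤⁆) := by
    apply Subgroup.list_prod_mem
    intro x hx
    rw [List.mem_map] at hx
    obtain ⟨j, hj, rfl⟩ := hx
    rw [List.mem_range] at hj
    obtain ⟨m, hm⟩ := hp.1.dvd_choose_self (k := j + 2) (by omega) (by omega)
    rw [hm, mul_comm, pow_mul]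
    apply Subgroup.subset_closure
    refine ⟨c (j + 2) ^ m, ?_, by rw [pow_one]⟩
    have h3 : c (j + 2) ∈ (⊤ : Subgroup H).lowerCentralSeries 1 :=
      Subgroup.lowerCentralSeries_antitone _ (show 1 ≤ j + 2 - 1 by omega) (hc (j + 2))
    exact pow_mem h3 m
  have ep' : a ^ (q + 2) * b ^ (q + 2) = (a * b) ^ (q + 2) * R := ep
  refine ⟨R⁻¹, inv_mem hRm, ?_⟩
  rw [ep', mul_inv_cancel_right]

theorem pair {G : Type*} [Group G] (p : ℕ) [hp : Fact p.Prime] (hcl : (⊤ : Subgroup G).lowerCentralSeries (p - 1) = ⊥)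
    (a b : G) : ∃ r ∈ Cfsg.powerClosure p 1 ⁅closure ({a, b} : Set G), closure ({a, b} : Set G)⁆,
      (a * b) ^ p = a ^ p * b ^ p * r := by
  set K := closure ({a, b} : Set G) with hK
  have haK : a ∈ K := subset_closure (by simp)
  have hbK : b ∈ K := subset_closure (by simp)
  have h1 : (⊤ : Subgroup ↥K).lowerCentralSeries (p - 1) = ⊥ := by
    rw [← map_subtype_inj, Subgroup.map_bot, top_subtype_lowerCentralSeries, eq_bot_iff, ← hcl]
    have : ∀ n, K.lowerCentralSeries n ≤ (⊤ : Subgroup G).lowerCentralSeries n := by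
      intro n
      induction n with
      | zero => exact le_top
      | succ n ih => exact commutator_mono ih le_top
    exact this _
  obtain ⟨r, hr, he⟩ := main (H := ↥K) p h1 ⟨a, haK⟩ ⟨b, hbK⟩
  refine ⟨r, ?_, ?_⟩
  · have h2 : Cfsg.powerClosure p 1 ⁅(⊤ : Subgroup ↥K), ⊤⁆ ≤ (Cfsg.powerClosure p 1 ⁅K, K⁆).comap K.subtype := by
      rw [Cfsg.powerClosure, closure_le]
      rintro _ ⟨x, hx, rfl⟩
      apply Subgroup.subset_closure
      refine ⟨x.1, ?_, rfl⟩
      have h3 : K.subtype x ∈ Subgroup.map K.subtype ⁅(⊤ : Subgroup ↥K), (⊤ : Subgroup ↥K)⁆ := mem_map_of_mem _ hx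
      rw [map_commutator, ← MonoidHom.range_eq_map, range_subtype] at h3
      exact h3
    exact h2 hr
  · exact congrArg Subtype.val he

end Cfsg.Agent.H2.HallPetB
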