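import Mathlib
import Cfsg.Agent.Lib.BaerSuzuki
import Cfsg.Agent.Lib.NilpB
set_option autoImplicit false

open Subgroup
open scoped commutatorElement

namespace Cfsg.Agent.H2.Hyper

theorem closure_isPGroup_of_nilpotent {G : Type*} [Group G] [Finite G] {p : ℕ} [Fact p.Prime]
    {S : Set G} (hS : ∀ x ∈ S, ∃ k, orderOf x = p ^ k) (hn : Group.IsNilpotent (closure S)) :
    IsPGroup p (closure S) := by
  obtain ⟨P⟩ := (inferInstance : Nonempty (Sylow p (closure S)))
  have hPn : (P : Subgroup (closure S)).Normal := inferInstance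
  have h1 : closure S ≤ (P : Subgroup (closure S)).map (closure S).subtype := by
    rw [closure_le]
    intro x hx
    obtain ⟨k, hk⟩ := hS x hx
    have hxS : x ∈ closure S := Subgroup.subset_closure hx
    have h2 : IsPGroup p (zpowers (⟨x, hxS⟩ : closure S)) := by
      rw [IsPGroup.iff_card]
      refine ⟨k, ?_⟩
      rw [Nat.card_zpowers, ← hk, ← orderOf_coe]
    obtain ⟨Q, hQ⟩ := h2.exists_le_sylow
    have h3 : Q = P := by
      obtain ⟨g, hg⟩ := MulAction.exists_smul_eq (closure S) P Q
      rw [← hg]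
      exact Sylow.smul_eq_of_normal
    refine ⟨⟨x, hxS⟩, ?_, rfl⟩
    rw [← h3]
    exact hQ (mem_zpowers _)
  exact (P.isPGroup'.map _).to_le h1

theorem commute_of_nilpotent {G : Type*} [Group G] [Finite G] (hn : Group.IsNilpotent G)
    {p q : ℕ} [Fact p.Prime] [Fact q.Prime] (hpq : p ≠ q) {x y : G} (hx : ∃ k, orderOf x = p ^ k)
    (hy : ∃ k, orderOf y = q ^ k) : x * y = y * x := by
  have key : ∀ (r : ℕ) [Fact r.Prime] (z : G), (∃ k, orderOf z = r ^ k) → z ∈ pCore r G := by
    intro r _ z ⟨k, hk⟩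
    have h2 : IsPGroup r (zpowers z) := by
      rw [IsPGroup.iff_card]
      exact ⟨k, by rw [Nat.card_zpowers, hk]⟩
    obtain ⟨Q, hQ⟩ := h2.exists_le_sylow
    have hQn : (Q : Subgroup G).Normal := inferInstance
    exact Cfsg.Agent.Lib.Cores.le_pCore hQn Q.isPGroup' (hQ (mem_zpowers _))
  have h1 := key p x hx
  have h2 := key q y hy
  have n1 := Cfsg.Agent.Lib.Cores.pCore_normal (G := G) p
  have n2 := Cfsg.Agent.Lib.Cores.pCore_normal (G := G) q
  have hd : Disjoint (pCore p G) (pCore q G) :=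
    IsPGroup.disjoint_of_ne p q hpq _ _ (Cfsg.Agent.Lib.Cores.pCore_isPGroup p)
      (Cfsg.Agent.Lib.Cores.pCore_isPGroup q)
  exact commute_of_normal_of_disjoint _ _ n1 n2 hd x y h1 h2

theorem eq_one_of_center_bot {G : Type*} [Group G] [Finite G] (hZ : center G = ⊥) {g : G}
    (hg : ∀ x : G, Group.IsNilpotent (closure ({x, g} : Set G))) : g = 1 := by
  by_contra hg1
  have ho : orderOf g ≠ 1 := fun h => hg1 (orderOf_eq_one_iff.mp h)
  obtain ⟨p, hp, hpd⟩ := Nat.exists_prime_and_dvd ho
  have : Fact p.Prime := ⟨hp⟩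
  set y := g ^ (orderOf g / p) with hy
  have hoy : orderOf y = p := by
    have h1 : orderOf g / p ≠ 0 := (Nat.div_pos (Nat.le_of_dvd (orderOf_pos g) hpd) hp.pos).ne'
    rw [hy, orderOf_pow' _ h1, Nat.gcd_eq_right (Nat.div_dvd_of_dvd hpd),
      Nat.div_div_self hpd (orderOf_pos g).ne']
  have hyT : ∀ x : G, Group.IsNilpotent (closure ({x, y} : Set G)) := by
    intro x
    refine Cfsg.Agent.Lib.Cores.isNilpotent_of_le ?_ (hg x)
    rw [closure_le]
    rintro z (rfl | rfl)
    · exact Subgroup.subset_closure (by simp)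
    · exact pow_mem (Subgroup.subset_closure (by simp)) _
  have hyp : y ∈ pCore p G := by
    apply Cfsg.Agent.Lib.BaerSuzuki.mem_pCore
    intro c
    rw [Set.pair_comm]
    apply closure_isPGroup_of_nilpotent
    · rintro z (rfl | rfl)
      · refine ⟨1, ?_⟩
        have : c * y * c⁻¹ = MulAut.conj c y := rfl
        rw [this, pow_one, ← hoy]
        exact orderOf_injective (MulAut.conj c).toMonoidHom (MulAut.conj c).injective y
      · exact ⟨1, by rw [hoy, pow_one]⟩
    · exact hyT _
  let S : Set G := {x | ∃ q : ℕ, q.Prime ∧ q ≠ p ∧ ∃ k, orderOf x = q ^ k}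
  have hSc : ∀ x ∈ S, ∀ c : G, c * x * c⁻¹ ∈ S := by
    rintro x ⟨q, hq, hqp, k, hk⟩ c
    refine ⟨q, hq, hqp, k, ?_⟩
    have : c * x * c⁻¹ = MulAut.conj c x := rfl
    rw [this, ← hk]
    exact orderOf_injective (MulAut.conj c).toMonoidHom (MulAut.conj c).injective x
  have hyS : y ∈ centralizer S := by
    rw [mem_centralizer_iff]
    rintro x ⟨q, hq, hqp, k, hk⟩
    have : Fact q.Prime := ⟨hq⟩
    have hxm : x ∈ closure ({x, y} : Set G) := Subgroup.subset_closure (by simp)
    have hym : y ∈ closure ({x, y} : Set G) := Subgroup.subset_closure (by simp)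
    have := commute_of_nilpotent (hyT x) hqp (x := ⟨x, hxm⟩) (y := ⟨y, hym⟩)
      ⟨k, by rw [← orderOf_coe]; exact hk⟩ ⟨1, by rw [← orderOf_coe, pow_one]; exact hoy⟩
    exact congrArg Subtype.val this
  let A : Subgroup G := pCore p G ⊓ centralizer S
  have hpn := Cfsg.Agent.Lib.Cores.pCore_normal (G := G) p
  have hAn : A.Normal := by
    constructor
    intro a ha c
    obtain ⟨ha1, ha2⟩ := mem_inf.mp ha
    refine mem_inf.mpr ⟨hpn.conj_mem _ ha1 c, ?_⟩
    rw [mem_centralizer_iff] at ha2 ⊢
    intro x hx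
    have h1 := ha2 _ (hSc x hx c⁻¹)
    calc x * (c * a * c⁻¹) = c * ((c⁻¹ * x * c⁻¹⁻¹) * a) * c⁻¹ := by group
      _ = c * (a * (c⁻¹ * x * c⁻¹⁻¹)) * c⁻¹ := by rw [h1]
      _ = c * a * c⁻¹ * x := by group
  have hyA : y ∈ A := mem_inf.mpr ⟨hyp, hyS⟩
  obtain ⟨P⟩ := (inferInstance : Nonempty (Sylow p G))
  have hPnil : Group.IsNilpotent (P : Subgroup G) := P.isPGroup'.isNilpotent
  have hAP : A ≤ P := inf_le_left.trans (Cfsg.Agent.Lib.Cores.pCore_le_sylow P)
  have hA1 : A.subgroupOf P ≠ ⊥ := by
    intro hbot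
    have hyb : (⟨y, hAP hyA⟩ : (P : Subgroup G)) ∈ A.subgroupOf P := hyA
    rw [hbot, mem_bot] at hyb
    have : y = 1 := congrArg Subtype.val hyb
    rw [this, orderOf_one] at hoy
    exact hp.one_lt.ne hoy
  have h3 := Cfsg.Agent.Lib.Nilp.normal_inf_center_ne_bot (A.subgroupOf (P : Subgroup G)) hA1
  obtain ⟨⟨a, ha⟩, hane⟩ := Subgroup.ne_bot_iff_exists_ne_one.mp h3
  obtain ⟨haA, haZ⟩ := mem_inf.mp ha
  have ha1 : (a : G) ≠ 1 := by
    intro h
    apply hane
    exact Subtype.ext (Subtype.ext h)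
  have hC : centralizer {(a : G)} = ⊤ := by
    apply Cfsg.Agent.Lib.Cores.eq_top_of_sylow_le
    intro q hq
    by_cases hqp : q = p
    · subst hqp
      refine ⟨P, ?_⟩
      intro x hx
      rw [mem_centralizer_singleton_iff]
      exact congrArg Subtype.val (mem_center_iff.mp haZ ⟨x, hx⟩)
    · have : Fact q.Prime := ⟨hq⟩
      obtain ⟨Q⟩ := (inferInstance : Nonempty (Sylow q G))
      refine ⟨Q, ?_⟩
      intro x hx
      rw [mem_centralizer_singleton_iff]
      obtain ⟨k, hk⟩ := IsPGroup.iff_orderOf.mp Q.isPGroup' ⟨x, hx⟩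
      rw [← orderOf_coe] at hk
      exact mem_centralizer_iff.mp (mem_inf.mp (show (a : G) ∈ A from haA)).2 x ⟨q, hq, hqp, k, hk⟩
  have : (a : G) ∈ center G := by
    rw [mem_center_iff]
    intro x
    have hx : x ∈ centralizer {(a : G)} := by rw [hC]; trivial
    exact mem_centralizer_singleton_iff.mp hx
  rw [hZ, mem_bot] at this
  exact ha1 this

theorem exists_stable (G : Type*) [Group G] [Finite G] :
    ∃ n, (⨆ n : ℕ, Subgroup.upperCentralSeries G n) = Subgroup.upperCentralSeries G n ∧
      center (G ⧸ Subgroup.upperCentralSeries G n) = ⊥ := by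
  obtain ⟨n, hn⟩ := WellFoundedGT.monotone_chain_condition
    ⟨fun n => Subgroup.upperCentralSeries G n, Subgroup.upperCentralSeries_mono G⟩
  have hn' : ∀ m, n ≤ m → Subgroup.upperCentralSeries G n = Subgroup.upperCentralSeries G m := hn
  refine ⟨n, ?_, ?_⟩
  · apply le_antisymm
    · apply iSup_le
      intro m
      rcases le_total m n with h | h
      · exact Subgroup.upperCentralSeries_mono G h
      · exact (hn' m h).ge
    · exact le_iSup (fun n => Subgroup.upperCentralSeries G n) n
  · rw [eq_bot_iff]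
    intro x hx
    obtain ⟨y, rfl⟩ := QuotientGroup.mk_surjective x
    rw [mem_bot, QuotientGroup.eq_one_iff, hn' (n + 1) (Nat.le_succ n),
      Subgroup.mem_upperCentralSeries_succ_iff]
    intro z
    have := mem_center_iff.mp hx (QuotientGroup.mk z)
    rw [← QuotientGroup.eq_one_iff]
    simp only [commutatorElement_def, QuotientGroup.mk_mul, QuotientGroup.mk_inv] at this ⊢
    rw [← this]
    group

theorem hyper_iff {G : Type*} [Group G] [Finite G] (g : G) :
    (∀ x : G, Group.IsNilpotent ↥(closure ({x, g} : Set G))) ↔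
      g ∈ ⨆ n : ℕ, Subgroup.upperCentralSeries G n := by
  obtain ⟨n, hn, hZ⟩ := exists_stable G
  rw [hn]
  constructor
  · intro h
    rw [← QuotientGroup.eq_one_iff]
    apply eq_one_of_center_bot hZ
    intro x
    obtain ⟨y, rfl⟩ := QuotientGroup.mk_surjective x
    have h1 := Cfsg.Agent.Lib.Cores.isNilpotent_map (QuotientGroup.mk' (Subgroup.upperCentralSeries G n)) (h y)
    rw [MonoidHom.map_closure, Set.image_pair] at h1
    exact h1
  · intro h x
    rw [isNilpotent_iff_lowerCentralSeries]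
    set H := closure ({x, g} : Set G) with hH
    have h1 : ⁅H, H⁆ ≤ Subgroup.upperCentralSeries G n := by
      have h2 : H ≤ (zpowers (QuotientGroup.mk x : G ⧸ Subgroup.upperCentralSeries G n)).comap
          (QuotientGroup.mk' _) := by
        rw [hH, closure_le]
        rintro z (rfl | rfl)
        · exact mem_zpowers _
        · change (QuotientGroup.mk z : G ⧸ Subgroup.upperCentralSeries G n) ∈
            zpowers (QuotientGroup.mk x : G ⧸ Subgroup.upperCentralSeries G n)
          rw [(QuotientGroup.eq_one_iff z).mpr h]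
          exact one_mem _
      rw [commutator_le]
      intro a ha b hb
      obtain ⟨i, hi⟩ := h2 ha
      obtain ⟨j, hj⟩ := h2 hb
      have hi' : (QuotientGroup.mk x : G ⧸ Subgroup.upperCentralSeries G n) ^ i = QuotientGroup.mk a := hi
      have hj' : (QuotientGroup.mk x : G ⧸ Subgroup.upperCentralSeries G n) ^ j = QuotientGroup.mk b := hj
      rw [← QuotientGroup.eq_one_iff]
      simp only [commutatorElement_def, QuotientGroup.mk_mul, QuotientGroup.mk_inv]
      rw [← hi', ← hj', (Commute.zpow_zpow_self (QuotientGroup.mk x : G ⧸ Subgroup.upperCentralSeries G n) i j).eq]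
      group
    have h2 : ∀ k, k ≤ n → H.lowerCentralSeries (k + 1) ≤ Subgroup.upperCentralSeries G (n - k) := by
      intro k
      induction k with
      | zero => intro _; exact h1
      | succ k ih =>
        intro hk
        have h3 := ih (by omega)
        rw [Subgroup.lowerCentralSeries_succ]
        refine (commutator_mono h3 le_top).trans ?_
        have h4 := commutator_upperCentralSeries_top_le G (n - (k + 1))
        have h5 : n - (k + 1) + 1 = n - k := by omega
        rw [h5] at h4
        exact h4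
    refine ⟨n + 1, ?_⟩
    have := h2 n le_rfl
    rw [Nat.sub_self, Subgroup.upperCentralSeries_zero] at this
    exact le_bot_iff.mp this

end Cfsg.Agent.H2.Hyper
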