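import Mathlib
import Cfsg.Agent.Lib.Nilp
import Cfsg.Agent.Lib.Coprime
import Cfsg.Prelude.Def_Transfer

set_option autoImplicit false

/-! The order of an irreducible module for a group of prime order. -/

open Subgroup Polynomial
open scoped Pointwise commutatorElement

namespace Cfsg.Agent.H2.IrrCard

theorem pow_eq_expand {q : ℕ} [Fact q.Prime] (n : ℕ) (f : (ZMod q)[X]) : f ^ (q ^ n) = expand (ZMod q) (q ^ n) f := by
  induction n with
  | zero => simp
  | succ n ih =>
    rw [pow_succ, pow_mul, ih, ← ZMod.expand_card, expand_expand, mul_comm]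

theorem card_le_of_root {R : Type*} [CommRing R] [IsDomain R] {M : Type*} [Finite M] {N : ℕ} (hN : 1 < N)
    (g : M → R) (hg : Function.Injective g) (hr : ∀ m, g m ^ N = g m) : Nat.card M ≤ N := by
  classical
  haveI : Fintype M := Fintype.ofFinite M
  have h0 : (X : R[X]).degree < (X ^ N : R[X]).degree := by
    rw [degree_X_pow, degree_X]
    exact mod_cast hN
  have hdeg : (X ^ N - X : R[X]).natDegree = N := by
    rw [natDegree_eq_of_degree_eq (degree_sub_eq_left_of_degree_lt h0), natDegree_X_pow]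
  have hne : (X ^ N - X : R[X]) ≠ 0 := by
    apply ne_zero_of_natDegree_gt (n := 1)
    rw [hdeg]
    exact hN
  have h1 : Finset.univ.image g ⊆ (X ^ N - X : R[X]).roots.toFinset := by
    intro r hr'
    obtain ⟨m, -, rfl⟩ := Finset.mem_image.1 hr'
    rw [Multiset.mem_toFinset, mem_roots hne, IsRoot.def, eval_sub, eval_pow, eval_X, hr, sub_self]
  have h2 := Finset.card_le_card h1
  rw [Finset.card_image_of_injective _ hg, Finset.card_univ] at h2
  rw [Nat.card_eq_fintype_card]
  calc Fintype.card M ≤ _ := h2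
    _ ≤ Multiset.card (X ^ N - X : R[X]).roots := Multiset.toFinset_card_le _
    _ ≤ (X ^ N - X : R[X]).natDegree := card_roots' _
    _ = N := hdeg

theorem card_le {q : ℕ} [Fact q.Prime] {M : Type*} [AddCommGroup M] [Module (ZMod q) M] [Finite M]
    (S : Module.End (ZMod q) M) {n : ℕ} (hn : 1 ≤ n) (hS : S ^ (q ^ n) = S)
    (hirr : ∀ W : Submodule (ZMod q) M, (∀ w ∈ W, S w ∈ W) → W = ⊥ ∨ W = ⊤) : Nat.card M ≤ q ^ n := by
  classical
  have hq : q.Prime := Fact.out
  by_cases hM : Subsingleton M
  · rw [Nat.card_of_subsingleton (0 : M)]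
    exact Nat.one_le_pow _ _ hq.pos
  haveI : Nontrivial M := not_subsingleton_iff_nontrivial.1 hM
  set φ : (ZMod q)[X] →ₐ[ZMod q] Module.End (ZMod q) M := aeval S with hφ
  have hcomm : ∀ f g : (ZMod q)[X], φ f * φ g = φ g * φ f := fun f g => by rw [← map_mul, ← map_mul, mul_comm]
  have hSφ : φ X = S := aeval_X S
  let I : Ideal (ZMod q)[X] := RingHom.ker φ
  have hI : ∀ f, f ∈ I ↔ φ f = 0 := fun f => RingHom.mem_ker
  haveI hprime : I.IsPrime := by
    constructor
    · intro h
      have h1 : (1 : (ZMod q)[X]) ∈ I := by rw [h]; trivial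
      rw [hI, map_one] at h1
      exact one_ne_zero h1
    · intro f g hfg
      rw [hI, map_mul] at hfg
      rw [hI, hI]
      have h1 := hirr (LinearMap.ker (φ f)) (by
        intro w hw
        rw [LinearMap.mem_ker] at hw ⊢
        have h2 := LinearMap.congr_fun (hcomm f X) w
        rw [Module.End.mul_apply, Module.End.mul_apply, hw, map_zero, hSφ] at h2
        exact h2)
      rcases h1 with h1 | h1
      · right
        ext w
        have h2 := LinearMap.congr_fun hfg w
        rw [Module.End.mul_apply, LinearMap.zero_apply] at h2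
        rw [LinearMap.zero_apply]
        have h3 : φ g w ∈ LinearMap.ker (φ f) := h2
        rw [h1] at h3
        exact h3
      · left
        exact LinearMap.ker_eq_top.1 h1
  haveI : IsDomain ((ZMod q)[X] ⧸ I) := Ideal.Quotient.isDomain I
  obtain ⟨v, hv⟩ := exists_ne (0 : M)
  -- cyclic module
  let W : Submodule (ZMod q) M :=
    { carrier := {m | ∃ f, φ f v = m}
      add_mem' := by
        rintro _ _ ⟨f, rfl⟩ ⟨g, rfl⟩
        exact ⟨f + g, by rw [map_add, LinearMap.add_apply]⟩
      zero_mem' := ⟨0, by rw [map_zero, LinearMap.zero_apply]⟩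
      smul_mem' := by
        rintro c _ ⟨f, rfl⟩
        exact ⟨c • f, by rw [map_smul, LinearMap.smul_apply]⟩ }
  have hW : W = ⊤ := by
    refine (hirr W ?_).resolve_left ?_
    · rintro _ ⟨f, rfl⟩
      exact ⟨X * f, by rw [map_mul, Module.End.mul_apply, hSφ]⟩
    · intro h
      have h1 : v ∈ W := ⟨1, by rw [map_one, Module.End.one_apply]⟩
      rw [h] at h1
      exact hv h1
  have hex : ∀ m : M, ∃ f, φ f v = m := fun m => by
    have : m ∈ W := by rw [hW]; trivial
    exact this
  choose F hF using hex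
  have hroot : ∀ f : (ZMod q)[X], (Ideal.Quotient.mk I f) ^ (q ^ n) = Ideal.Quotient.mk I f := by
    intro f
    rw [← map_pow, Ideal.Quotient.eq, hI, map_sub, pow_eq_expand, hφ, expand_aeval, hS, sub_self]
  have h1q : 1 < q ^ n := Nat.one_lt_pow (by omega) hq.one_lt
  apply card_le_of_root h1q (fun m => Ideal.Quotient.mk I (F m)) _ (fun m => hroot (F m))
  intro a b hab
  have h1 : Ideal.Quotient.mk I (F a) = Ideal.Quotient.mk I (F b) := hab
  rw [Ideal.Quotient.eq, hI, map_sub, sub_eq_zero] at h1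
  rw [← hF a, ← hF b, h1]

theorem card_le_add' {V : Type*} [AddCommGroup V] [Finite V] {q : ℕ} [Fact q.Prime] [Module (ZMod q) V]
    (σ : V →+ V) {n : ℕ} (hn : 1 ≤ n) (hσ : ∀ v, (σ^[q ^ n]) v = σ v)
    (hirr : ∀ B : AddSubgroup V, (∀ b ∈ B, σ b ∈ B) → B = ⊥ ∨ B = ⊤) : Nat.card V ≤ q ^ n := by
  let S : Module.End (ZMod q) V := AddMonoidHom.toZModLinearMap q σ
  have hSk : ∀ (k : ℕ) (a : V), (S ^ k) a = (σ^[k]) a := by
    intro k
    induction k with
    | zero => intro a; rfl
    | succ k ih =>
      intro a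
      rw [pow_succ, Module.End.mul_apply]
      exact ih (σ a)
  have hS : S ^ (q ^ n) = S := by
    apply LinearMap.ext
    intro a
    exact (hSk (q ^ n) a).trans (hσ _)
  refine card_le S hn hS ?_
  intro W hW
  rcases hirr W.toAddSubgroup (fun b hb => hW _ hb) with h5 | h5
  · left
    rw [eq_bot_iff]
    intro w hw
    have h6 : w ∈ W.toAddSubgroup := hw
    rw [h5] at h6
    exact h6
  · right
    rw [eq_top_iff]
    intro w _
    have h6 : w ∈ W.toAddSubgroup := by rw [h5]; trivial
    exact h6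

theorem card_le_add {V : Type*} [AddCommGroup V] [Finite V] {q : ℕ} [Fact q.Prime] (hV : ∀ v : V, q • v = 0)
    (σ : V →+ V) {n : ℕ} (hn : 1 ≤ n) (hσ : ∀ v, (σ^[q ^ n]) v = σ v)
    (hirr : ∀ B : AddSubgroup V, (∀ b ∈ B, σ b ∈ B) → B = ⊥ ∨ B = ⊤) : Nat.card V ≤ q ^ n :=
  @card_le_add' V _ _ q _ (AddCommGroup.zmodModule hV) σ n hn hσ hirr

theorem card_le_group {V : Type*} [CommGroup V] [Finite V] {q : ℕ} [Fact q.Prime] (hV : ∀ v : V, v ^ q = 1)
    (σ : V →* V) {n : ℕ} (hn : 1 ≤ n) (hσ : ∀ v, (σ^[q ^ n]) v = σ v)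
    (hirr : ∀ B : Subgroup V, (∀ b ∈ B, σ b ∈ B) → B = ⊥ ∨ B = ⊤) : Nat.card V ≤ q ^ n := by
  refine card_le_add (V := Additive V) (fun v => hV v) (MonoidHom.toAdditive σ) hn (fun v => hσ v) ?_
  intro W hW
  rcases hirr (AddSubgroup.toSubgroup' W) (fun b hb => hW _ hb) with h5 | h5
  · left
    rw [eq_bot_iff]
    intro w hw
    have h6 : (Additive.toMul w : V) ∈ AddSubgroup.toSubgroup' W := hw
    rw [h5, mem_bot] at h6
    exact h6
  · right
    rw [eq_top_iff]
    intro w _
    have h6 : (Additive.toMul w : V) ∈ AddSubgroup.toSubgroup' W := by rw [h5]; exact mem_top _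
    exact h6

universe u
variable {G : Type u} [Group G]

theorem pow_eq_self {x : G} {p n : ℕ} (hx : x ^ p = 1) (hn : n % p = 1 % p) : x ^ n = x := by
  rw [← Nat.div_add_mod n p, pow_add, pow_mul, hx, one_pow, one_mul, hn]
  conv_rhs => rw [← pow_one x, ← Nat.div_add_mod 1 p, pow_add, pow_mul, hx, one_pow, one_mul]

/-- order of a minimal normal subgroup with cyclic quotient of prime order -/
theorem card_of_min [Finite G] {p q : ℕ} (hp : p.Prime) (hq : q.Prime) (hpq : q ≠ p) (A : Subgroup G) [hAn : A.Normal]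
    (hA : Cfsg.IsElementaryAbelian q A) (hmin : ∀ B : Subgroup G, B.Normal → B ≤ A → B = ⊥ ∨ B = A) {x : G}
    (hx : x ^ p = 1) (htop : A ⊔ zpowers x = ⊤) (hxA : x ∉ centralizer (A : Set G)) :
    Nat.card A = q ^ orderOf (q : ZMod p) := by
  haveI : Fact p.Prime := ⟨hp⟩
  haveI : Fact q.Prime := ⟨hq⟩
  set e := orderOf (q : ZMod p) with he
  have hqu : IsUnit (q : ZMod p) := by
    rw [ZMod.isUnit_iff_coprime]
    exact (Nat.coprime_primes hq hp).2 hpq
  have hqe : (q : ZMod p) ^ e = 1 := pow_orderOf_eq_one _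
  have he1 : 1 ≤ e := by
    rw [Nat.one_le_iff_ne_zero, he]
    intro h
    rw [orderOf_eq_zero_iff] at h
    apply h
    rw [isOfFinOrder_iff_pow_eq_one]
    refine ⟨p - 1, by have := hp.two_le; omega, ZMod.pow_card_sub_one_eq_one hqu.ne_zero⟩
  have hcomm : ∀ a ∈ A, ∀ b ∈ A, a * b = b * a := fun a ha b hb => congrArg Subtype.val (hA.1.is_comm.comm ⟨a, ha⟩ ⟨b, hb⟩)
  -- normality criterion
  have hnorm : ∀ B : Subgroup G, B ≤ A → (∀ b ∈ B, x * b * x⁻¹ ∈ B) → B.Normal := by
    intro B hBA hB
    rw [← normalizer_eq_top_iff, eq_top_iff, ← htop]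
    apply sup_le
    · intro a ha
      rw [mem_normalizer_iff]
      intro b
      constructor
      · intro hb
        rw [hcomm a ha b (hBA hb), mul_inv_cancel_right]
        exact hb
      · intro hb
        have h1 := hcomm a⁻¹ (A.inv_mem ha) _ (hBA hb)
        have h2 : b = a⁻¹ * (a * b * a⁻¹) * a := by group
        rw [h2, h1]
        rwa [inv_mul_cancel_right]
    · rw [zpowers_le]
      have h1 : (B : Set G).Finite := Set.toFinite _
      apply Cfsg.Agent.Lib.Coprime.mem_normalizer_of_conj_smul_eq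
      apply Subgroup.eq_of_le_of_card_ge
      · rintro _ ⟨b, hb, rfl⟩
        exact hB b hb
      · rw [Cfsg.Agent.Lib.SchurZas.card_conj_smul]
  have hA1 : A ≠ ⊥ := by
    intro h
    apply hxA
    rw [h, mem_centralizer_iff]
    intro y hy
    have : y = 1 := hy
    rw [this, one_mul, mul_one]
  obtain ⟨m, hm⟩ : ∃ m, Nat.card A = q ^ m := by
    have h1 : IsPGroup q A := Cfsg.Agent.Lib.Nilp.isPGroup_of_pow_eq_one hA.2
    exact h1.exists_card_eq
  have hm1 : 1 ≤ m := by
    by_contra h
    have : m = 0 := by omega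
    rw [this, pow_zero] at hm
    exact hA1 (card_eq_one.1 hm)
  -- fixed points
  have hfix : A ⊓ centralizer {x} = ⊥ := by
    refine (hmin _ (hnorm _ inf_le_left ?_) inf_le_left).resolve_right ?_
    · rintro b ⟨hb, hbx⟩
      have h1 := mem_centralizer_singleton_iff.1 hbx
      rw [← h1, mul_inv_cancel_right]
      exact ⟨hb, hbx⟩
    · intro h
      apply hxA
      rw [mem_centralizer_iff]
      intro a ha
      have h1 : a ∈ A ⊓ centralizer {x} := by rw [h]; exact ha
      exact mem_centralizer_singleton_iff.1 h1.2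
  have hmod : q ^ m ≡ 1 [MOD p] := by
    letI : MulAction ↥(zpowers x) ↥A := MulAction.compHom A ((MulAut.conjNormal : G →* MulAut A).comp (zpowers x).subtype)
    have hsmul : ∀ (z : ↥(zpowers x)) (a : A), ((z • a : A) : G) = z * a * (z : G)⁻¹ := fun z a => rfl
    have hxp : IsPGroup p ↥(zpowers x) := by
      have h1 : orderOf x ∣ p := orderOf_dvd_of_pow_eq_one hx
      rcases (Nat.dvd_prime hp).1 h1 with h2 | h2
      · exact IsPGroup.of_card (n := 0) (by rw [Nat.card_zpowers, h2, pow_zero])
      · exact IsPGroup.of_card (n := 1) (by rw [Nat.card_zpowers, h2, pow_one])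
    have h1 := hxp.card_modEq_card_fixedPoints (α := A)
    have h2 : Nat.card (MulAction.fixedPoints ↥(zpowers x) ↥A) = 1 := by
      rw [Nat.card_eq_one_iff_unique]
      refine ⟨⟨?_⟩, ⟨⟨1, ?_⟩⟩⟩
      · have h3 : ∀ a : MulAction.fixedPoints ↥(zpowers x) ↥A, (a : A) = 1 := by
          rintro ⟨a, ha⟩
          have h4 := ha ⟨x, mem_zpowers x⟩
          have h5 : x * (a : G) * x⁻¹ = a := congrArg Subtype.val h4
          have h6 : (a : G) ∈ A ⊓ centralizer {x} := by
            refine ⟨a.2, mem_centralizer_singleton_iff.2 ?_⟩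
            exact (mul_inv_eq_iff_eq_mul.1 h5).symm
          rw [hfix, mem_bot] at h6
          exact Subtype.ext h6
        intro a b
        exact Subtype.ext ((h3 a).trans (h3 b).symm)
      · intro z
        apply Subtype.ext
        rw [hsmul]
        simp
    rw [h2, hm] at h1
    exact h1
  have hem : e ∣ m := by
    apply orderOf_dvd_of_pow_eq_one
    have := (ZMod.natCast_eq_natCast_iff _ _ _).2 hmod
    rw [Nat.cast_pow, Nat.cast_one] at this
    exact this
  have hle : Nat.card A ≤ q ^ e := by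
    letI : CommGroup A := { (inferInstance : Group A) with mul_comm := hA.1.is_comm.comm }
    let f : A →* A := (MulAut.conjNormal x : A ≃* A).toMonoidHom
    have hf : ∀ a : A, ((f a : A) : G) = x * a * x⁻¹ := fun a => rfl
    have hSk : ∀ (k : ℕ) (a : A), (((f^[k]) a : A) : G) = x ^ k * a * (x ^ k)⁻¹ := by
      intro k
      induction k with
      | zero => intro a; simp
      | succ k ih =>
        intro a
        rw [Function.iterate_succ_apply, ih, hf, pow_succ]
        group
    have hmodp : q ^ e % p = 1 % p := by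
      have h1 : ((q ^ e : ℕ) : ZMod p) = ((1 : ℕ) : ZMod p) := by rw [Nat.cast_pow, hqe, Nat.cast_one]
      exact (ZMod.natCast_eq_natCast_iff' _ _ _).1 h1
    apply card_le_group (fun v => Subtype.ext (hA.2 _ v.2)) f he1
    · intro v
      apply Subtype.ext
      rw [hSk, pow_eq_self hx hmodp, hf]
    · intro W hW
      have hBA : W.map A.subtype ≤ A := map_subtype_le _
      have hBW : ∀ a : A, (a : G) ∈ W.map A.subtype ↔ a ∈ W := by
        intro a
        constructor
        · rintro ⟨b, hb, hba⟩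
          have : b = a := Subtype.ext hba
          rw [← this]
          exact hb
        · intro ha
          exact ⟨a, ha, rfl⟩
      have h4 : (W.map A.subtype).Normal := by
        apply hnorm _ hBA
        intro b hb
        have h5 := hW _ ((hBW ⟨b, hBA hb⟩).1 hb)
        exact (hBW ⟨x * b * x⁻¹, hAn.conj_mem b (hBA hb) x⟩).2 h5
      rcases hmin _ h4 hBA with h5 | h5
      · left
        rw [eq_bot_iff]
        intro w hw
        have h6 : ((w : A) : G) ∈ W.map A.subtype := (hBW _).2 hw
        rw [h5, mem_bot] at h6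
        exact Subtype.ext h6
      · right
        rw [eq_top_iff]
        intro w _
        have h6 : ((w : A) : G) ∈ W.map A.subtype := by rw [h5]; exact w.2
        exact (hBW _).1 h6
  rw [hm] at hle ⊢
  have h1 := (Nat.pow_le_pow_iff_right hq.one_lt).1 hle
  have h2 := Nat.le_of_dvd (by omega) hem
  rw [le_antisymm h1 h2]

end Cfsg.Agent.H2.IrrCard
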