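import Mathlib
import Cfsg.Prelude.Def_RootSubgroups
import Cfsg.Agent.Lib.Cores
import Cfsg.Agent.Lib.FrobB

/-! The solvable radical of a finite group. -/

namespace Cfsg.Agent.H2.SolvRad

open Subgroup Cfsg Cfsg.Agent.Lib

variable {G : Type*} [Group G]

theorem le_rad {N : Subgroup G} (hN : N.Normal) (hs : Group.IsSolvable N) : N ≤ solvableRadical G :=
  le_sSup ⟨hN, hs⟩

theorem rad_mem [Finite G] : (solvableRadical G).Normal ∧ Group.IsSolvable (solvableRadical G) := by
  have := Cores.sSup_mem_of_finite {N : Subgroup G | N.Normal ∧ Group.IsSolvable N}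
    ⟨inferInstance, inferInstance⟩ (by
      rintro A ⟨hA, hAs⟩ B ⟨hB, hBs⟩
      refine ⟨inferInstance, ?_⟩
      exact FrobB.isSolvable_sup (by rw [normalizer_eq_top]; exact le_top) hAs hBs)
  exact this

theorem rad_normal [Finite G] : (solvableRadical G).Normal := rad_mem.1

theorem rad_solvable [Finite G] : Group.IsSolvable (solvableRadical G) := rad_mem.2

theorem rad_characteristic [Finite G] : (solvableRadical G).Characteristic := by
  rw [characteristic_iff_map_le]
  intro φ
  have hn := rad_normal (G := G)
  have hs := rad_solvable (G := G)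
  have hs' : Group.IsSolvable ((solvableRadical G).map φ.toMonoidHom) :=
    Group.isSolvable_of_surjective (φ.toMonoidHom.subgroupMap_surjective (solvableRadical G))
  exact le_rad (Normal.map hn _ φ.surjective) hs'

theorem rad_map_le [Finite G] {K : Subgroup G} [K.Normal] :
    (solvableRadical K).map K.subtype ≤ solvableRadical G := by
  have hc := rad_characteristic (G := K)
  have hs := rad_solvable (G := K)
  have hs' : Group.IsSolvable ((solvableRadical K).map K.subtype) :=
    Group.isSolvable_of_surjective (K.subtype.subgroupMap_surjective (solvableRadical K))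
  exact le_rad inferInstance hs'

theorem rad_map_le_of_surjective [Finite G] {H : Type*} [Group H] (f : G →* H) (hf : Function.Surjective f) :
    (solvableRadical G).map f ≤ solvableRadical H := by
  have hn := rad_normal (G := G)
  have hs := rad_solvable (G := G)
  exact le_rad (Normal.map hn f hf) (Group.isSolvable_of_surjective (f.subgroupMap_surjective (solvableRadical G)))

theorem rad_quotient [Finite G] (hn := rad_normal (G := G)) :
    solvableRadical (G ⧸ solvableRadical G) = ⊥ := by
  set R := solvableRadical G with hR
  have hs := rad_solvable (G := G)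
  have h1 : ((solvableRadical (G ⧸ R)).comap (QuotientGroup.mk' R)).Normal := Normal.comap rad_normal _
  have h2 : Group.IsSolvable ((solvableRadical (G ⧸ R)).comap (QuotientGroup.mk' R)) := by
    have hs2 := rad_solvable (G := G ⧸ R)
    let f := (QuotientGroup.mk' R).subgroupComap (solvableRadical (G ⧸ R))
    have hRle : R ≤ (solvableRadical (G ⧸ R)).comap (QuotientGroup.mk' R) := by
      intro x hx
      show QuotientGroup.mk' R x ∈ solvableRadical (G ⧸ R)
      rw [show QuotientGroup.mk' R x = 1 from (QuotientGroup.eq_one_iff x).2 hx]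
      exact one_mem _
    apply Group.isSolvable_of_ker_le_range (inclusion hRle) f
    intro x hx
    have h3 : QuotientGroup.mk' R (x : G) = 1 := congrArg Subtype.val hx
    exact ⟨⟨x, (QuotientGroup.eq_one_iff (x : G)).1 h3⟩, Subtype.ext rfl⟩
  have h3 := le_rad h1 h2
  rw [eq_bot_iff]
  intro y hy
  obtain ⟨x, rfl⟩ := QuotientGroup.mk'_surjective R y
  rw [mem_bot]
  exact (QuotientGroup.eq_one_iff x).2 (h3 hy)

end Cfsg.Agent.H2.SolvRad
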