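import Mathlib
import Cfsg.Prelude.Def_Blocks
import Cfsg.Agent.Lib.BlockHt
import Cfsg.Agent.Lib.BlockOrth
import Cfsg.Agent.Lib.CharLin
import Cfsg.Agent.Lib.CharBurnside
import Cfsg.Agent.Lib.Coprime
import Cfsg.Agent.Lib.CharMod
import Cfsg.Agent.Lib.CharRep
import Cfsg.Agent.H2.SolvRad
import Cfsg.Agent.Lib.MinNil
import Cfsg.Agent.H3.Basic

/-! Kazarin's theorem on conjugacy classes of prime power size. -/

namespace Cfsg.Agent.H2.Kazarin

open Subgroup Cfsg Cfsg.Agent.Lib Cfsg.Agent.Lib.CharBasic Cfsg.Agent.Lib.BlockLoc Cfsg.Agent.Lib.BlockPP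
open Cfsg.Agent.Lib.BlockHt Cfsg.Agent.Lib.BlockOrth Cfsg.Agent.Lib.BlockIdem Representation Module
open scoped ComplexConjugate commutatorElement Pointwise

universe u

theorem linear_of_coprime {G : Type u} [Group G] [Finite G] {x : G} (htop : normalClosure ({x} : Set G) = ⊤)
    {χ : G → ℂ} (hχ : IsIrrCharacter G χ) {d : ℕ} (hd : χ 1 = d)
    (hcop : Nat.Coprime d (centralizer ({x} : Set G)).index) (hx : χ x ≠ 0) : d = 1 := by
  rcases CharBurnside.zero_or_norm_of_coprime hχ x hd hcop with h | h
  · exact absurd h hx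
  · obtain ⟨n, ρ, hρ, rfl⟩ := hχ
    rw [char_one] at hd
    have hd' : finrank ℂ (Fin n → ℂ) = d := by exact_mod_cast hd
    rw [← hd'] at h
    have hscal : x ∈ CharBurnside.scalarSubgroup ρ := (CharRep.norm_char_eq_degree_iff ρ x).mp h
    have hn := CharBurnside.scalarSubgroup_normal ρ
    have htop' : CharBurnside.scalarSubgroup ρ = ⊤ := by
      rw [eq_top_iff, ← htop]
      exact normalClosure_le_normal (by simpa using hscal)
    rw [← hd']
    exact CharBurnside.finrank_one_of_scalar ρ (fun g => by rw [htop']; trivial)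

/-- the abelianization is cyclic generated by the image of `x` -/
theorem zpowers_sup_commutator {G : Type u} [Group G] {x : G} (htop : normalClosure ({x} : Set G) = ⊤) :
    zpowers x ⊔ commutator G = ⊤ := by
  have hn : (zpowers x ⊔ commutator G).Normal := by
    have h1 : commutator G ≤ zpowers x ⊔ commutator G := le_sup_right
    constructor
    intro n hn g
    have h2 : ⁅g, n⁆ ∈ commutator G := commutator_mem_commutator (mem_top g) (mem_top n)
    have h3 : g * n * g⁻¹ = ⁅g, n⁆ * n := by rw [commutatorElement_def]; group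
    rw [h3]
    exact mul_mem (h1 h2) hn
  rw [eq_top_iff, ← htop]
  exact normalClosure_le_normal (by
    rw [Set.singleton_subset_iff]
    exact (le_sup_left : zpowers x ≤ _) (mem_zpowers x))

theorem commutator_index {G : Type u} [Group G] [Finite G] {x : G} (htop : normalClosure ({x} : Set G) = ⊤)
    {r m : ℕ} (hr : r.Prime) (hx : orderOf x = r ^ m) : ∃ a, (commutator G).index = r ^ a := by
  have h1 : zpowers (QuotientGroup.mk' (commutator G) x) = ⊤ := by
    have h2 := congrArg (Subgroup.map (QuotientGroup.mk' (commutator G))) (zpowers_sup_commutator htop)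
    rw [Subgroup.map_sup, MonoidHom.map_zpowers, QuotientGroup.map_mk'_self, sup_bot_eq,
      ← MonoidHom.range_eq_map, QuotientGroup.range_mk'] at h2
    exact h2
  have h2 : (commutator G).index = orderOf (QuotientGroup.mk' (commutator G) x) := by
    rw [← Nat.card_zpowers, h1, card_top]
    rfl
  have h3 : orderOf (QuotientGroup.mk' (commutator G) x) ∣ r ^ m := by
    rw [← hx]; exact orderOf_map_dvd _ x
  rw [h2]
  obtain ⟨a, -, ha⟩ := (Nat.dvd_prime_pow hr).1 h3
  exact ⟨a, ha⟩

theorem no_singular {G : Type u} [Group G] [Finite G] {x : G} (htop : normalClosure ({x} : Set G) = ⊤)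
    {p r k m : ℕ} (hp : p.Prime) (hr : r.Prime) (hpr : p ≠ r) (hx : orderOf x = r ^ m)
    (hidx : (centralizer ({x} : Set G)).index = p ^ k) : ¬ r ∣ Nat.card (commutator G) := by
  classical
  cases nonempty_fintype G
  intro hdvd
  haveI : Fact r.Prime := ⟨hr⟩
  obtain ⟨a, ha⟩ := commutator_index htop hr hx
  obtain ⟨y, hy⟩ := exists_prime_orderOf_dvd_card' (G := commutator G) r hdvd
  obtain ⟨M, hM⟩ := CharMod.exists_pModular hr
  set B := principalBlock M G with hB
  have hBb : IsPBlock M B := principal_isPBlock M G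
  have horth := block_orth' hM hBb (g := (y : G)) (h := 1) (by
    rw [pp_one, isConj_one_left, pp_eq_one_iff hr, orderOf_coe, hy]
    exact fun h => h dvd_rfl)
  rw [finsum_block] at horth
  -- values at x
  have hχx : ∀ χ : IrrCharacter G, χ ∈ B → χ.1 x ≠ 0 := by
    intro χ hχ h0
    have h1 : MemLocalIdeal M (centralChar (fun _ : G => (1 : ℂ)) x - centralChar χ.1 x) := hχ x
    have h2 : centralChar χ.1 x = 0 := by rw [centralChar, h0]; simp
    have h3 : centralChar (fun _ : G => (1 : ℂ)) x = ((p ^ k : ℕ) : ℂ) := by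
      rw [centralChar, hidx]; simp
    rw [h2, h3, sub_zero, max_natCast_iff hM] at h1
    exact hpr ((Nat.prime_dvd_prime_iff_eq hr hp).1 (hr.dvd_of_dvd_pow h1)).symm
  -- linear characters lie in B
  have hlinB : ∀ χ : IrrCharacter G, χ.1 1 = 1 → χ ∈ B := by
    intro χ hχ g
    obtain ⟨l, hl⟩ := exists_lin_of_one (isChar_of_irr χ.2) hχ
    have h1 : centralChar (fun _ : G => (1 : ℂ)) g - centralChar χ.1 g =
        (((centralizer ({g} : Set G)).index : ℕ) : ℂ) * (-((l g : ℂ) - 1)) := by
      rw [centralChar, centralChar, hχ, hl]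
      simp only [div_one, mul_one]
      ring
    rw [h1]
    apply max_mul_left hM (loc_natCast hM _)
    apply max_neg
    apply max_sub_one_of_pow_p_pow hM (k := a)
    have h2 : g ^ (r ^ a) ∈ commutator G := by
      rw [← ha]
      exact pow_index_mem (commutator G) g
    have h3 : l (g ^ (r ^ a)) = 1 := Abelianization.commutator_subset_ker l h2
    rw [map_pow] at h3
    have h4 := congrArg (fun z : ℂˣ => (z : ℂ)) h3
    simpa using h4
  have hliny : ∀ χ : IrrCharacter G, χ.1 1 = 1 → χ.1 (y : G) = 1 := by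
    intro χ hχ
    obtain ⟨l, hl⟩ := exists_lin_of_one (isChar_of_irr χ.2) hχ
    rw [hl]
    have h3 : l (y : G) = 1 := Abelianization.commutator_subset_ker l y.2
    simp [h3]
  -- split the sum
  rw [← Finset.sum_filter_add_sum_filter_not _ (fun χ : IrrCharacter G => χ.1 1 = 1)] at horth
  have hS1 : ∑ χ ∈ (Finset.univ.filter (· ∈ B)).filter (fun χ : IrrCharacter G => χ.1 1 = 1),
      χ.1 (y : G) * χ.1 (1 : G)⁻¹ = ((r ^ a : ℕ) : ℂ) := by
    have h1 : ∀ χ ∈ (Finset.univ.filter (· ∈ B)).filter (fun χ : IrrCharacter G => χ.1 1 = 1),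
        χ.1 (y : G) * χ.1 (1 : G)⁻¹ = 1 := by
      intro χ hχ
      have h2 := (Finset.mem_filter.1 hχ).2
      rw [inv_one, h2, hliny χ h2, one_mul]
    rw [Finset.sum_congr rfl h1, Finset.sum_const, nsmul_eq_mul, mul_one]
    congr 1
    have h3 : (Finset.univ.filter (· ∈ B)).filter (fun χ : IrrCharacter G => χ.1 1 = 1) =
        Finset.univ.filter (fun χ : IrrCharacter G => χ.1 1 = 1) := by
      ext χ
      simp only [Finset.mem_filter, Finset.mem_univ, true_and]
      exact ⟨fun h => h.2, fun h => ⟨hlinB χ h, h⟩⟩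
    rw [h3, ← ha, ← CharLin.card_lin, Nat.card_eq_fintype_card, Fintype.card_subtype]
  have key : ∀ χ : IrrCharacter G, χ ∈ B → χ.1 1 ≠ 1 →
      ∃ z : ℂ, IsIntegral ℤ z ∧ χ.1 (y : G) * χ.1 (1 : G)⁻¹ = p * z := by
    intro χ hχ h1
    obtain ⟨d, hd0, hd⟩ := isIrr_one_eq χ.2
    have hpd : p ∣ d := by
      by_contra hpd
      have hcop : Nat.Coprime d (centralizer ({x} : Set G)).index := by
        rw [hidx]
        exact Nat.Coprime.pow_right k ((Nat.Prime.coprime_iff_not_dvd hp).mpr hpd).symm
      have := linear_of_coprime htop χ.2 hd hcop (hχx χ hχ)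
      rw [this] at hd
      exact h1 (by rw [hd]; simp)
    obtain ⟨c, rfl⟩ := hpd
    refine ⟨c * χ.1 y, (isIntegral_natCast c).mul (char_isIntegral (isChar_of_irr χ.2) y), ?_⟩
    rw [inv_one, hd]; push_cast; ring
  choose! z hz using key
  have hS2 : ∑ χ ∈ (Finset.univ.filter (· ∈ B)).filter (fun χ : IrrCharacter G => ¬ χ.1 1 = 1),
      χ.1 (y : G) * χ.1 (1 : G)⁻¹ =
      p * ∑ χ ∈ (Finset.univ.filter (· ∈ B)).filter (fun χ : IrrCharacter G => ¬ χ.1 1 = 1), z χ := by
    rw [Finset.mul_sum]
    apply Finset.sum_congr rfl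
    intro χ hχ
    rw [Finset.mem_filter, Finset.mem_filter] at hχ
    exact (hz χ hχ.1.2 hχ.2).2
  rw [hS1, hS2] at horth
  have hint : IsIntegral ℤ (∑ χ ∈ (Finset.univ.filter (· ∈ B)).filter (fun χ : IrrCharacter G => ¬ χ.1 1 = 1), z χ) := by
    apply IsIntegral.sum
    intro χ hχ
    rw [Finset.mem_filter, Finset.mem_filter] at hχ
    exact (hz χ hχ.1.2 hχ.2).1
  have hp0 : (p : ℂ) ≠ 0 := by exact_mod_cast hp.ne_zero
  have h1 : ((r ^ a : ℕ) : ℂ) / (p : ℕ) = - ∑ χ ∈ (Finset.univ.filter (· ∈ B)).filter (fun χ : IrrCharacter G => ¬ χ.1 1 = 1), z χ := by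
    field_simp
    linear_combination horth
  have h3 := CharInt.nat_dvd_of_isIntegral hp.ne_zero (h1 ▸ hint.neg)
  exact hpr ((Nat.prime_dvd_prime_iff_eq hp hr).1 (hp.dvd_of_dvd_pow h3))

theorem solvable_of_top {G : Type u} [Group G] [Finite G] {x : G} (htop : normalClosure ({x} : Set G) = ⊤)
    {p r k m : ℕ} (hp : p.Prime) (hr : r.Prime) (hpr : p ≠ r) (hx : orderOf x = r ^ m)
    (hidx : (centralizer ({x} : Set G)).index = p ^ k) : Group.IsSolvable G := by
  have hns := no_singular htop hp hr hpr hx hidx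
  haveI : Fact p.Prime := ⟨hp⟩
  set V := commutator G with hV
  have hcop : (Nat.card (zpowers x)).Coprime (Nat.card V) := by
    rw [Nat.card_zpowers, hx]; exact Nat.Coprime.pow_left m ((hr.coprime_iff_not_dvd).2 hns)
  have hnV : zpowers x ≤ normalizer (V : Set G) := by rw [normalizer_eq_top]; exact le_top
  obtain ⟨P, hP⟩ := Coprime.exists_invariant_sylow hnV hcop (Or.inl inferInstance) p
  have hmul : ((P : Subgroup V) : Set V) * (((centralizer ({x} : Set G)).subgroupOf V : Subgroup V) : Set V) = Set.univ := by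
    apply Basic.mul_eq_univ_of_coprime_index
    have h1 : ((centralizer ({x} : Set G)).subgroupOf V).index ∣ p ^ k := by
      rw [← hidx]
      exact H3.Basic.relIndex_dvd_index_of_normal_right _ V
    exact Nat.Coprime.coprime_dvd_right h1 (((hp.coprime_iff_not_dvd).2 P.not_dvd_index).symm.pow_right k)
  have hzc : ∀ c ∈ centralizer ({x} : Set G), ∀ s ∈ zpowers x, c * s = s * c := by
    rintro c hc s ⟨i, rfl⟩
    have h1 : Commute c x := mem_centralizer_singleton_iff.1 hc
    exact (h1.zpow_right i).eq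
  set W : Subgroup G := ⁅V, zpowers x⁆ with hW
  have hWP : W ≤ (P : Subgroup V).map V.subtype := by
    rw [hW, commutator_le]
    intro v hv s hs
    have h1 : (⟨v, hv⟩ : V) ∈ ((P : Subgroup V) : Set V) * (((centralizer ({x} : Set G)).subgroupOf V : Subgroup V) : Set V) := by
      rw [hmul]; trivial
    obtain ⟨u, hu, c, hc, huc⟩ := h1
    have h2 : v = u * c := (congrArg Subtype.val huc).symm
    have h3 := hzc c hc s hs
    have h4 : ⁅v, s⁆ = (u : G) * (s * (u : G)⁻¹ * s⁻¹) := by
      rw [h2, commutatorElement_def]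
      calc (u : G) * c * s * ((u : G) * c)⁻¹ * s⁻¹ = u * (c * s) * (c : G)⁻¹ * (u : G)⁻¹ * s⁻¹ := by group
        _ = u * (s * c) * (c : G)⁻¹ * (u : G)⁻¹ * s⁻¹ := by rw [h3]
        _ = (u : G) * (s * (u : G)⁻¹ * s⁻¹) := by group
    rw [h4]
    have h5 : (u : G) ∈ (P : Subgroup V).map V.subtype := mem_map_of_mem _ hu
    exact mul_mem h5 ((mem_normalizer_iff.1 (hP hs) _).1 (inv_mem h5))
  have hWp : IsPGroup p W := (P.isPGroup'.map V.subtype).to_le hWP
  have hsup : V ⊔ zpowers x = ⊤ := by rw [sup_comm]; exact zpowers_sup_commutator htop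
  have hWn : W.Normal := by
    rw [← normalizer_eq_top_iff, eq_top_iff, ← hsup]
    exact sup_le (Coprime.le_normalizer_commutator_left _ _) (Coprime.le_normalizer_commutator_right _ _)
  have hcomm : ∀ g : G, ∀ s ∈ zpowers x, ⁅g, s⁆ ∈ W := by
    intro g s hs
    have hg : g ∈ V ⊔ zpowers x := by rw [hsup]; trivial
    obtain ⟨v, hv, s₁, hs₁, rfl⟩ := (mem_sup_of_normal_left).1 hg
    have h1 : s₁ * s = s * s₁ := by
      obtain ⟨i, rfl⟩ := hs₁
      obtain ⟨j, rfl⟩ := hs
      exact (Commute.zpow_zpow_self x i j).eq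
    have h2 : ⁅v * s₁, s⁆ = ⁅v, s⁆ := by
      rw [commutatorElement_def, commutatorElement_def]
      calc v * s₁ * s * (v * s₁)⁻¹ * s⁻¹ = v * (s₁ * s) * s₁⁻¹ * v⁻¹ * s⁻¹ := by group
        _ = v * (s * s₁) * s₁⁻¹ * v⁻¹ * s⁻¹ := by rw [h1]
        _ = v * s * v⁻¹ * s⁻¹ := by group
    rw [h2]
    exact commutator_mem_commutator hv hs
  have htop' : W ⊔ zpowers x = ⊤ := by
    have hn : (W ⊔ zpowers x).Normal := by
      constructor
      intro n hn g
      obtain ⟨w, hw, s, hs, rfl⟩ := (mem_sup_of_normal_left).1 hn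
      have h3 : g * (w * s) * g⁻¹ = (g * w * g⁻¹) * (⁅g, s⁆ * s) := by rw [commutatorElement_def]; group
      rw [h3]
      refine mul_mem ((le_sup_left : W ≤ _) (hWn.conj_mem w hw g)) (mul_mem ((le_sup_left : W ≤ _) (hcomm g s hs)) ?_)
      exact (le_sup_right : zpowers x ≤ _) hs
    rw [eq_top_iff, ← htop]
    exact normalClosure_le_normal (by
      rw [Set.singleton_subset_iff]
      exact (le_sup_right : zpowers x ≤ _) (mem_zpowers x))
  have hWs : Group.IsSolvable W := by
    have := hWp.isNilpotent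
    infer_instance
  have h1 : Group.IsSolvable (W ⊔ zpowers x : Subgroup G) :=
    FrobB.isSolvable_sup (by rw [normalizer_eq_top]; exact le_top) hWs inferInstance
  rw [htop'] at h1
  exact Group.isSolvable_of_surjective (f := (topEquiv : (⊤ : Subgroup G) ≃* G).toMonoidHom) topEquiv.surjective

theorem pcase {G : Type u} [Group G] [Finite G] {x : G} {p k m : ℕ} (hp : p.Prime) (hx : orderOf x = p ^ m)
    (hidx : (centralizer ({x} : Set G)).index = p ^ k) : Group.IsSolvable (normalClosure ({x} : Set G)) := by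
  haveI : Fact p.Prime := ⟨hp⟩
  have h1 : IsPGroup p (zpowers x) := IsPGroup.of_card (n := m) (by rw [Nat.card_zpowers, hx])
  obtain ⟨P, hP⟩ := h1.exists_le_sylow
  have hmul : ((P : Subgroup G) : Set G) * ((centralizer ({x} : Set G) : Subgroup G) : Set G) = Set.univ := by
    apply Basic.mul_eq_univ_of_coprime_index
    rw [hidx]
    exact ((hp.coprime_iff_not_dvd).2 P.not_dvd_index).symm.pow_right k
  have h2 : normalClosure ({x} : Set G) ≤ (P : Subgroup G) := by
    rw [normalClosure, closure_le]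
    intro y hy
    rw [Group.mem_conjugatesOfSet_iff] at hy
    obtain ⟨a, ha, hy⟩ := hy
    rw [Set.mem_singleton_iff] at ha
    subst ha
    obtain ⟨g, rfl⟩ := isConj_iff.1 hy
    have h3 : g ∈ ((P : Subgroup G) : Set G) * ((centralizer ({a} : Set G) : Subgroup G) : Set G) := by
      rw [hmul]; trivial
    obtain ⟨u, hu, c, hc, rfl⟩ := h3
    have h4 : c * a = a * c := mem_centralizer_singleton_iff.1 hc
    have h5 : u * c * a * (u * c)⁻¹ = u * a * u⁻¹ := by
      calc u * c * a * (u * c)⁻¹ = u * (c * a) * c⁻¹ * u⁻¹ := by group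
        _ = u * (a * c) * c⁻¹ * u⁻¹ := by rw [h4]
        _ = u * a * u⁻¹ := by group
    show u * c * a * (u * c)⁻¹ ∈ (P : Subgroup G)
    rw [h5]
    exact mul_mem (mul_mem hu (hP (mem_zpowers a))) (inv_mem hu)
  have h3 : IsPGroup p (normalClosure ({x} : Set G)) := P.isPGroup'.to_le h2
  have := h3.isNilpotent
  infer_instance

theorem aux (n : ℕ) : ∀ (G : Type u) [Group G] [Finite G], Nat.card G ≤ n → ∀ (x : G) (p r k m : ℕ),
    p.Prime → r.Prime → orderOf x = r ^ m → (centralizer ({x} : Set G)).index = p ^ k →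
    Group.IsSolvable (normalClosure ({x} : Set G)) := by
  induction n with
  | zero => intro G _ _ h; exact absurd h (by have := Nat.card_pos (α := G); omega)
  | succ n ih =>
    intro G _ _ hn x p r k m hp hr hx hidx
    by_cases hpr : p = r
    · subst hpr
      exact pcase hp hx hidx
    set K := normalClosure ({x} : Set G) with hK
    by_cases htop : K = ⊤
    · have := solvable_of_top htop hp hr hpr hx hidx
      infer_instance
    have hxK : x ∈ K := subset_normalClosure (Set.mem_singleton x)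
    have hcent : centralizer ({(⟨x, hxK⟩ : K)} : Set K) = (centralizer ({x} : Set G)).subgroupOf K := by
      ext y
      rw [mem_centralizer_singleton_iff, mem_subgroupOf, mem_centralizer_singleton_iff]
      exact ⟨fun h => congrArg Subtype.val h, fun h => Subtype.ext h⟩
    have h1 : (centralizer ({(⟨x, hxK⟩ : K)} : Set K)).index ∣ p ^ k := by
      rw [hcent, ← hidx]
      exact H3.Basic.relIndex_dvd_index_of_normal_right _ K
    obtain ⟨k', -, hk'⟩ := (Nat.dvd_prime_pow hp).1 h1
    have h2 := ih K (by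
      have := Basic.card_lt_card_of_lt (lt_top_iff_ne_top.2 htop)
      rw [card_top] at this
      omega) ⟨x, hxK⟩ p r k' m hp hr (by rw [← hx, orderOf_mk]) hk'
    have h3 : (⟨x, hxK⟩ : K) ∈ solvableRadical K :=
      SolvRad.le_rad inferInstance h2 (subset_normalClosure (Set.mem_singleton _))
    have h4 : x ∈ (solvableRadical K).map K.subtype := ⟨_, h3, rfl⟩
    have hc := SolvRad.rad_characteristic (G := K)
    have hs := SolvRad.rad_solvable (G := K)
    have h5 : K ≤ (solvableRadical K).map K.subtype := by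
      have hn : ((solvableRadical K).map K.subtype).Normal := inferInstance
      exact normalClosure_le_normal (by rw [Set.singleton_subset_iff]; exact h4)
    have h6 : solvableRadical K = ⊤ := by
      rw [eq_top_iff]
      intro y _
      obtain ⟨z, hz, hzy⟩ := h5 y.2
      have : z = y := Subtype.ext hzy
      rwa [← this]
    rw [h6] at hs
    exact Group.isSolvable_of_surjective (f := (topEquiv : (⊤ : Subgroup K) ≃* K).toMonoidHom) topEquiv.surjective

theorem main {G : Type u} [Group G] [Finite G] (x : G) {p : ℕ} (hp : p.Prime) (k : ℕ)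
    (hidx : (centralizer ({x} : Set G)).index = p ^ k) : Group.IsSolvable (normalClosure ({x} : Set G)) := by
  have hx : x ∈ solvableRadical G := by
    by_contra hx
    obtain ⟨q, hq, y, hy, hyR, j, hj⟩ := MinNil.exists_primary_notMem hx
    have h1 : centralizer ({x} : Set G) ≤ centralizer ({y} : Set G) := by
      intro c hc
      obtain ⟨i, rfl⟩ := hy
      have h1 : Commute c x := mem_centralizer_singleton_iff.1 hc
      exact mem_centralizer_singleton_iff.2 (h1.zpow_right i).eq
    have h2 := index_dvd_of_le h1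
    rw [hidx] at h2
    obtain ⟨k', -, hk'⟩ := (Nat.dvd_prime_pow hp).1 h2
    have h3 := aux (Nat.card G) G le_rfl y p q k' j hp hq hj hk'
    exact hyR (SolvRad.le_rad inferInstance h3 (subset_normalClosure (Set.mem_singleton y)))
  have hn := SolvRad.rad_normal (G := G)
  have hs := SolvRad.rad_solvable (G := G)
  have h1 : normalClosure ({x} : Set G) ≤ solvableRadical G :=
    normalClosure_le_normal (by rw [Set.singleton_subset_iff]; exact hx)
  exact Group.isSolvable_of_isSolvable_injective (f := inclusion h1) (inclusion_injective h1)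

end Cfsg.Agent.H2.Kazarin
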