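import Mathlib
import Cfsg.Agent.H2.IrrCard
import Cfsg.Agent.Lib.CoprimeB
import Cfsg.Agent.H2.PUtil

set_option autoImplicit false

/-! Groups of order `p q^e` with an irreducible action. -/

open Subgroup Cfsg.Agent.Lib.Basic Cfsg.Agent.Lib.Cores Cfsg.Agent.Lib.Coprime
open scoped Pointwise commutatorElement

namespace Cfsg.Agent.H2.MinPC

universe u
variable {G : Type u} [Group G] [Finite G]

theorem struct {p : ℕ} (hp : p.Prime) {N : Subgroup G} [hNn : N.Normal] (hN1 : N ≠ ⊥) (hNp : (Nat.card N).Coprime p)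
    {x : G} (hx : orderOf x = p) (hC : ∀ B : Subgroup G, B.Normal → B ≠ ⊥ → B ≤ N → x ∉ centralizer (B : Set G))
    (hF : ∀ Q : Subgroup G, Q ≤ N → x ∈ normalizer (Q : Set G) → Q ⊔ zpowers x ≠ ⊤ → x ∈ centralizer (Q : Set G)) :
    ∃ q : ℕ, q.Prime ∧ q ≠ p ∧ Nat.card G = p * q ^ orderOf (q : ZMod p) ∧
      ∃ A : Subgroup G, A.Normal ∧ Nat.card ↥A = q ^ orderOf (q : ZMod p) ∧ Cfsg.IsElementaryAbelian q A ∧
        ∀ B : Subgroup G, B.Normal → B ≤ A → B = ⊥ ∨ B = A := by
  haveI : Fact p.Prime := ⟨hp⟩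
  have hnn : ∀ (B : Subgroup G) [B.Normal], ∀ g : G, g ∈ normalizer (B : Set G) := fun B _ g => by
    rw [normalizer_eq_top]; exact mem_top g
  have hcX : Nat.card (zpowers x) = p := by rw [Nat.card_zpowers, hx]
  have htopB : ∀ B : Subgroup G, B.Normal → B ≠ ⊥ → B ≤ N → B ⊔ zpowers x = ⊤ := by
    intro B hB hB1 hBN
    by_contra hne
    exact hC B hB hB1 hBN (hF B hBN (hnn B x) hne)
  have hcardB : ∀ B : Subgroup G, B.Normal → B ≠ ⊥ → B ≤ N → Nat.card G = Nat.card B * p := by
    intro B hB hB1 hBN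
    have h1 := card_sup_of_inf_eq_bot (N := B) (H := zpowers x) (by rw [normalizer_eq_top]; exact le_top) (by
      apply (disjoint_of_coprime_natCard _).eq_bot
      rw [hcX]
      exact Nat.Coprime.coprime_dvd_left (card_dvd_of_le hBN) hNp)
    rw [htopB B hB hB1 hBN, card_top, hcX] at h1
    exact h1
  have hmin : ∀ B : Subgroup G, B.Normal → B ≤ N → B = ⊥ ∨ B = N := by
    intro B hB hBN
    by_cases hB1 : B = ⊥
    · exact Or.inl hB1
    · right
      apply eq_of_le_of_card_ge hBN
      have h1 := hcardB B hB hB1 hBN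
      have h2 := hcardB N hNn hN1 le_rfl
      rw [h1] at h2
      exact (Nat.eq_of_mul_eq_mul_right hp.pos h2).symm.le
  -- `N` is a `q`-group
  have hxN : x ∉ centralizer (N : Set G) := hC N hNn hN1 le_rfl
  have hXN : zpowers x ≤ normalizer (N : Set G) := by rw [normalizer_eq_top]; exact le_top
  have hcop : (Nat.card (zpowers x)).Coprime (Nat.card N) := by rw [hcX]; exact hNp.symm
  have hXs : Group.IsSolvable (zpowers x) := by
    apply Cfsg.Agent.Lib.CoprimeB.isSolvable_of_isPGroup (p := p)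
    exact IsPGroup.of_card (n := 1) (by rw [hcX, pow_one])
  obtain ⟨q, hq, hNq⟩ : ∃ q : ℕ, q.Prime ∧ IsPGroup q N := by
    by_contra hcon
    push Not at hcon
    apply hxN
    have h1 : (centralizer ({x} : Set G)).subgroupOf N = ⊤ := by
      apply eq_top_of_sylow_le
      intro q hq
      haveI : Fact q.Prime := ⟨hq⟩
      obtain ⟨S, hS⟩ := exists_invariant_sylow (A := zpowers x) (K := N) hXN hcop (Or.inl hXs) q
      refine ⟨S, ?_⟩
      set Q := (S : Subgroup N).map N.subtype with hQ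
      have hQN : Q ≤ N := map_subtype_le _
      have hQne : Q ≠ N := by
        intro h
        apply hcon q hq
        rw [← h]
        exact S.isPGroup'.map _
      have hxQ : x ∈ centralizer (Q : Set G) := by
        apply hF Q hQN (hS (mem_zpowers x))
        intro htop
        apply hQne
        apply eq_of_le_of_card_ge hQN
        have h1 := card_sup_of_inf_eq_bot (N := Q) (H := zpowers x) hS (by
          apply (disjoint_of_coprime_natCard _).eq_bot
          rw [hcX]
          exact Nat.Coprime.coprime_dvd_left (card_dvd_of_le hQN) hNp)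
        rw [htop, card_top, hcX] at h1
        have h2 := hcardB N hNn hN1 le_rfl
        rw [h1] at h2
        exact (Nat.eq_of_mul_eq_mul_right hp.pos h2).symm.le
      intro y hy
      rw [mem_subgroupOf, mem_centralizer_singleton_iff]
      exact mem_centralizer_iff.1 hxQ (y : G) ⟨y, hy, rfl⟩
    rw [subgroupOf_eq_top] at h1
    rw [mem_centralizer_iff]
    intro y hy
    exact mem_centralizer_singleton_iff.1 (h1 hy)
  haveI : Fact q.Prime := ⟨hq⟩
  have hNs : Group.IsSolvable N := Cfsg.Agent.Lib.CoprimeB.isSolvable_of_isPGroup hNq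
  obtain ⟨hNc, r, hr, hNr⟩ := Cfsg.Agent.Lib.Nilp.minimal_normal_solvable_elementary hNs hN1 hmin
  obtain ⟨y, hy, hyo⟩ := Cfsg.Agent.H2.PUtil.exists_orderOf_prime hq hN1 hNq
  have hrq : r = q := by
    have h1 : orderOf y ∣ r := orderOf_dvd_of_pow_eq_one (hNr y hy)
    rw [hyo] at h1
    exact ((Nat.prime_dvd_prime_iff_eq hq hr).1 h1).symm
  subst hrq
  have hqp : r ≠ p := by
    rintro rfl
    have h1 : orderOf (⟨y, hy⟩ : N) ∣ Nat.card N := _root_.orderOf_dvd_natCard _
    rw [Subgroup.orderOf_mk, hyo] at h1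
    rw [Nat.coprime_comm, hr.coprime_iff_not_dvd] at hNp
    exact hNp h1
  have hel : Cfsg.IsElementaryAbelian r N := ⟨hNc, hNr⟩
  have hc := IrrCard.card_of_min hp hq hqp N hel hmin (by rw [← hx]; exact pow_orderOf_eq_one x)
    (htopB N hNn hN1 le_rfl) hxN
  refine ⟨r, hq, hqp, ?_, N, hNn, hc, hel, hmin⟩
  rw [hcardB N hNn hN1 le_rfl, hc, mul_comm]

end Cfsg.Agent.H2.MinPC
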