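import Mathlib
import Cfsg.Prelude
import Cfsg.Agent.Lib.PNilp
import Cfsg.Agent.Lib.SylRel
import Cfsg.Agent.H2.SixElt
import Cfsg.Agent.H2.CNC

set_option autoImplicit false

/-! A normal `p`-complement criterion relative to a strongly closed subgroup. -/

namespace Cfsg.Agent.H2.SClosed

open Subgroup Cfsg.Agent.Lib Cfsg.Agent.Lib.PNilp Cfsg.Agent.Lib.SylRel

universe u
variable {G : Type u} [Group G]

theorem mem_of_coprime_pow {C : Subgroup G} {n : G} {a b : ℕ} (ha : n ^ a ∈ C) (hb : n ^ b ∈ C) (h : a.Coprime b) : n ∈ C := by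
  have h1 := Nat.gcd_eq_gcd_ab a b
  rw [h] at h1
  have h2 : n = (n ^ a) ^ (a.gcdA b) * (n ^ b) ^ (a.gcdB b) := by
    rw [← zpow_natCast, ← zpow_natCast, ← zpow_mul, ← zpow_mul, ← zpow_add, ← h1]
    simp
  rw [h2]
  exact mul_mem (zpow_mem ha _) (zpow_mem hb _)

/-- the relative Frobenius criterion -/
theorem pNil_of_rel [Finite G] {p : ℕ} [hp : Fact p.Prime] {X : Subgroup G}
    (h : ∀ Q : Subgroup G, IsPGroup p Q → Q ≤ X → ∀ y ∈ X, y ∈ normalizer (Q : Set G) → (orderOf y).Coprime p → y ∈ centralizer (Q : Set G)) :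
    PNil p X := by
  apply pNil_of_frobCond
  intro Q hQ g hg hgo
  have h1 := h (Q.map X.subtype) (hQ.map _) (map_subtype_le _) (g : G) g.2 (by
    have := le_normalizer_map (f := X.subtype) (H := Q) (mem_map_of_mem X.subtype hg)
    exact this) (by rwa [orderOf_coe])
  rw [mem_centralizer_iff] at h1 ⊢
  intro x hx
  exact Subtype.ext (h1 x (mem_map_of_mem _ hx))

/-- conjugating to fully normalised position -/
theorem exists_fn [Finite G] {p : ℕ} [hp : Fact p.Prime] {X S Q : Subgroup G} (hS : SylIn p S X) (hQX : Q ≤ X) (hQ : IsPGroup p Q) :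
    ∃ g ∈ X, Q.map (MulAut.conj g).toMonoidHom ≤ S ∧
      SylIn p (S ⊓ normalizer ((Q.map (MulAut.conj g).toMonoidHom : Subgroup G) : Set G))
        (X ⊓ normalizer ((Q.map (MulAut.conj g).toMonoidHom : Subgroup G) : Set G)) := by
  obtain ⟨T, hT, hQT⟩ := exists_sylIn (H := X ⊓ normalizer (Q : Set G)) (le_inf hQX le_normalizer) hQ
  obtain ⟨g, hg, hgT⟩ := hS.conj_le (hT.le.trans inf_le_left) hT.isPGroup
  refine ⟨g, hg, map_conj_le.2 fun x hx => hgT x (hQT hx), ?_⟩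
  obtain ⟨Q', hQ'⟩ : ∃ Q', Q' = Q.map (MulAut.conj g).toMonoidHom := ⟨_, rfl⟩
  rw [← hQ']
  have hnorm : ∀ x, x ∈ normalizer (Q : Set G) → g * x * g⁻¹ ∈ normalizer (Q' : Set G) := by
    intro x hx
    apply SixElt.mem_norm_fin
    rw [hQ']
    rintro _ ⟨q, hq, rfl⟩
    refine ⟨x * q * x⁻¹, (mem_normalizer_iff.mp hx q).mp hq, ?_⟩
    change g * (x * q * x⁻¹) * g⁻¹ = g * x * g⁻¹ * (g * q * g⁻¹) * (g * x * g⁻¹)⁻¹
    group
  have hnorm' : ∀ x, x ∈ normalizer (Q' : Set G) → g⁻¹ * x * g ∈ normalizer (Q : Set G) := by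
    intro x hx
    apply SixElt.mem_norm_fin
    intro q hq
    have h1 : x * (g * q * g⁻¹) * x⁻¹ ∈ Q' := (mem_normalizer_iff.mp hx _).mp (hQ' ▸ ⟨q, hq, rfl⟩)
    rw [hQ'] at h1
    obtain ⟨q', hq', h2⟩ := h1
    have h3 : g⁻¹ * x * g * q * (g⁻¹ * x * g)⁻¹ = q' := by
      have h4 : g * q' * g⁻¹ = x * (g * q * g⁻¹) * x⁻¹ := h2
      calc g⁻¹ * x * g * q * (g⁻¹ * x * g)⁻¹ = g⁻¹ * (x * (g * q * g⁻¹) * x⁻¹) * g := by group
        _ = g⁻¹ * (g * q' * g⁻¹) * g := by rw [h4]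
        _ = q' := by group
    rw [h3]; exact hq'
  -- the conjugate of `T` is Sylow
  have hcard : Nat.card (X ⊓ normalizer (Q' : Set G) : Subgroup G) = Nat.card (X ⊓ normalizer (Q : Set G) : Subgroup G) := by
    have h1 : (X ⊓ normalizer (Q' : Set G) : Subgroup G) = (X ⊓ normalizer (Q : Set G) : Subgroup G).map (MulAut.conj g).toMonoidHom := by
      apply le_antisymm
      · intro x hx
        obtain ⟨hxX, hxn⟩ := mem_inf.mp hx
        refine ⟨g⁻¹ * x * g, mem_inf.mpr ⟨mul_mem (mul_mem (inv_mem hg) hxX) hg, hnorm' x hxn⟩, ?_⟩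
        change g * (g⁻¹ * x * g) * g⁻¹ = x
        group
      · rintro _ ⟨x, hx, rfl⟩
        obtain ⟨hxX, hxn⟩ := mem_inf.mp hx
        exact mem_inf.mpr ⟨mul_mem (mul_mem hg hxX) (inv_mem hg), hnorm x hxn⟩
    rw [h1, card_map_conj]
  have hSN : IsPGroup p (S ⊓ normalizer (Q' : Set G) : Subgroup G) := hS.isPGroup.to_le inf_le_left
  obtain ⟨R, hR, hle⟩ := exists_sylIn (H := X ⊓ normalizer (Q' : Set G)) (inf_le_inf_right _ hS.le) hSN
  have h2 : T.map (MulAut.conj g).toMonoidHom ≤ S ⊓ normalizer (Q' : Set G) := by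
    refine le_inf (map_conj_le.2 hgT) (map_conj_le.2 fun x hx => hnorm x (mem_inf.mp (hT.le hx)).2)
  apply hR.of_card (inf_le_inf_right _ hS.le) hSN
  refine le_trans ?_ (card_le_of_le h2)
  rw [card_map_conj]
  -- `|R| = |T|` as both are Sylow in groups of the same order
  obtain ⟨a, ha⟩ := IsPGroup.iff_card.mp hR.isPGroup
  obtain ⟨b, hb⟩ := IsPGroup.iff_card.mp hT.isPGroup
  have e1 := relIndex_mul_card' hR.le
  have e2 := relIndex_mul_card' hT.le
  rw [hcard, ← e2] at e1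
  have h3 : Nat.card R ∣ T.relIndex (X ⊓ normalizer (Q : Set G)) * Nat.card T := ⟨_, by rw [← e1, mul_comm]⟩
  have h4 : (Nat.card R).Coprime (T.relIndex (X ⊓ normalizer (Q : Set G))) := by
    rw [ha]; exact Nat.Coprime.pow_left a ((Nat.Prime.coprime_iff_not_dvd hp.out).mpr hT.not_dvd)
  exact Nat.le_of_dvd Nat.card_pos (h4.dvd_of_dvd_mul_left h3)

theorem norm_sup [Finite G] {A B : Subgroup G} {x : G} (hA : x ∈ normalizer (A : Set G)) (hB : x ∈ normalizer (B : Set G)) :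
    x ∈ normalizer ((A ⊔ B : Subgroup G) : Set G) := by
  apply SixElt.mem_norm_fin
  have h : A ⊔ B ≤ (A ⊔ B).comap (MulAut.conj x).toMonoidHom := by
    apply sup_le
    · intro a ha
      exact (le_sup_left : A ≤ _) ((mem_normalizer_iff.mp hA a).mp ha)
    · intro b hb
      exact (le_sup_right : B ≤ _) ((mem_normalizer_iff.mp hB b).mp hb)
  exact fun z hz => h hz

/-- if `n` normalises everything relevant modulo a subgroup closed under ... : powers modulo a normalised subgroup -/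
theorem pow_mod {C : Subgroup G} {d y : G} (hd : d ∈ C) (hn : ∀ c ∈ C, (d * y) * c * (d * y)⁻¹ ∈ C) (hy : y ^ orderOf y = 1 := pow_orderOf_eq_one y) :
    (d * y) ^ orderOf y ∈ C := by
  have key : ∀ j : ℕ, (d * y) ^ j * (y ^ j)⁻¹ ∈ C := by
    intro j
    induction j with
    | zero => simp [one_mem]
    | succ j ih =>
      have e : (d * y) ^ (j + 1) * (y ^ (j + 1))⁻¹ = (d * y) * ((d * y) ^ j * (y ^ j)⁻¹) * (d * y)⁻¹ * d := by
        rw [pow_succ' (d * y), pow_succ' y]; simp only [mul_assoc, mul_inv_rev, inv_mul_cancel, mul_one]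
      rw [e]
      exact mul_mem (hn _ ih) hd
  have := key (orderOf y)
  rwa [hy, inv_one, mul_one] at this

theorem orderOf_ppart {p : ℕ} (hp : p.Prime) {n : G} {k m' : ℕ} (h : orderOf n = p ^ k * m') (hm : ¬ p ∣ m') : (orderOf (n ^ p ^ k)).Coprime p := by
  rw [orderOf_pow' n (pow_pos hp.pos k).ne', h, Nat.gcd_eq_right (Dvd.intro _ rfl), Nat.mul_div_cancel_left _ (pow_pos hp.pos k)]
  exact ((Nat.Prime.coprime_iff_not_dvd hp).mpr hm).symm

/-- the case of a normal subgroup `U` -/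
theorem normal_case [Finite G] {p : ℕ} [hp : Fact p.Prime] {X S D U : Subgroup G} (hS : SylIn p S X) (hDS : D ≤ S)
    (hsc : ∀ x ∈ D, ∀ g ∈ X, g * x * g⁻¹ ∈ S → g * x * g⁻¹ ∈ D) (hUD : U ≤ D) (hXU : X ≤ normalizer (U : Set G))
    (hE : ¬ D ⊓ centralizer (U : Set G) ≤ U)
    (hbig : ∀ V : Subgroup G, V ≤ D → Nat.card U < Nat.card V → PNil p (X ⊓ normalizer (V : Set G) : Subgroup G)) : PNil p X := by
  classical
  have hDX : D ≤ X := hDS.trans hS.le
  have hDp : IsPGroup p D := hS.isPGroup.to_le hDS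
  have hUp : IsPGroup p U := hDp.to_le hUD
  -- `S` normalises `D`
  have hSD : ∀ s ∈ S, ∀ d ∈ D, s * d * s⁻¹ ∈ D := fun s hs d hd => hsc d hd s (hS.le hs) (mul_mem (mul_mem hs (hDS hd)) (inv_mem hs))
  obtain ⟨E, hEdef⟩ : ∃ E, E = D ⊓ centralizer (U : Set G) := ⟨_, rfl⟩
  have hEU : PNil p (X ⊓ normalizer (E : Set G) : Subgroup G) := by
    have h1 : U < E ⊔ U := by
      refine lt_of_le_of_ne le_sup_right fun h => hE ?_
      rw [← hEdef]
      calc E ≤ E ⊔ U := le_sup_left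
        _ = U := h.symm
    have h2 : Nat.card U < Nat.card (E ⊔ U : Subgroup G) := by
      by_contra hcon
      push Not at hcon
      exact h1.ne (eq_of_le_of_card_ge h1.le hcon)
    refine PNil.of_le (hbig (E ⊔ U) (sup_le (hEdef ▸ inf_le_left) hUD) h2) ?_
    intro x hx
    obtain ⟨hxX, hxE⟩ := mem_inf.mp hx
    refine mem_inf.mpr ⟨hxX, ?_⟩
    exact norm_sup hxE (hXU hxX)
  -- coprime elements centralise `U`
  have hcU : ∀ y ∈ X, (orderOf y).Coprime p → y ∈ centralizer (U : Set G) := by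
    intro y hy hyo
    have hCn : X ≤ normalizer ((X ⊓ centralizer (U : Set G) : Subgroup G) : Set G) := by
      intro x hx
      apply SixElt.mem_norm_fin
      intro c hc
      obtain ⟨hcX, hcU⟩ := mem_inf.mp hc
      refine mem_inf.mpr ⟨mul_mem (mul_mem hx hcX) (inv_mem hx), ?_⟩
      rw [mem_centralizer_iff]
      intro u hu
      have h1 : x⁻¹ * u * x ∈ U := by
        have := (mem_normalizer_iff.mp (inv_mem (hXU hx)) u).mp hu
        rwa [inv_inv] at this
      have h2 := mem_centralizer_iff.mp hcU _ h1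
      calc u * (x * c * x⁻¹) = x * ((x⁻¹ * u * x) * c) * x⁻¹ := by group
        _ = x * (c * (x⁻¹ * u * x)) * x⁻¹ := by rw [h2]
        _ = _ := by group
    have hT : SylIn p (S ⊓ (X ⊓ centralizer (U : Set G))) (X ⊓ centralizer (U : Set G)) := hS.inf_normal inf_le_left hCn
    obtain ⟨d, hd, hdy⟩ := hT.frattini (g := y) (fun x hx => (mem_normalizer_iff.mp (hCn hy) x).mp hx)
    obtain ⟨hdX, hdU⟩ := mem_inf.mp hd
    obtain ⟨n, hn⟩ : ∃ n, n = d * y := ⟨_, rfl⟩
    have hnX : n ∈ X := hn ▸ mul_mem hdX hy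
    have hnE : n ∈ normalizer (E : Set G) := by
      apply SixElt.mem_norm_fin
      intro e he
      rw [hEdef] at he
      obtain ⟨heD, heU⟩ := mem_inf.mp he
      have h1 := hdy e (mem_inf.mpr ⟨hDS heD, mem_inf.mpr ⟨hDX heD, heU⟩⟩)
      rw [← hn] at h1
      obtain ⟨h2, h3⟩ := mem_inf.mp h1
      rw [hEdef]
      exact mem_inf.mpr ⟨hsc e heD n hnX h2, (mem_inf.mp h3).2⟩
    -- `n` modulo the centraliser
    obtain ⟨k, m', hpm, hkm⟩ := Nat.exists_eq_pow_mul_and_not_dvd (n := orderOf n) (orderOf_pos n).ne' p hp.out.one_lt.ne'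
    have h1 : n ^ p ^ k ∈ centralizer (U : Set G) := by
      have hUN : U ≤ X ⊓ normalizer (E : Set G) := by
        refine le_inf (hUD.trans hDX) ?_
        intro u hu
        apply SixElt.mem_norm_fin
        intro e he
        rw [hEdef] at he
        have h2 : u * e = e * u := mem_centralizer_iff.mp (mem_inf.mp he).2 u hu
        rw [h2, mul_inv_cancel_right, hEdef]; exact he
      refine centralizes_of_pNil hUp hUN (inf_le_left.trans hXU) hEU (pow_mem (mem_inf.mpr ⟨hnX, hnE⟩) _) ?_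
      exact orderOf_ppart hp.out hkm hpm
    have h2 : n ^ orderOf y ∈ centralizer (U : Set G) := by
      have h3 : n ^ orderOf y ∈ X ⊓ centralizer (U : Set G) := by
        rw [hn]
        exact pow_mod hd (fun c hc => (mem_normalizer_iff.mp (hCn (hn ▸ hnX)) c).mp hc)
      exact (mem_inf.mp h3).2
    have h3 : n ∈ centralizer (U : Set G) := mem_of_coprime_pow h1 h2 (Nat.Coprime.pow_left k hyo.symm)
    have h4 : y = d⁻¹ * n := by rw [hn]; group
    rw [h4]
    exact mul_mem (inv_mem hdU) h3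
  -- the Frobenius condition
  by_contra hnot
  obtain ⟨Q, ⟨hQp, hQX, y, hyX, hyQ, hyo, hyc⟩, hmax⟩ := Set.exists_max_image
    {Q : Subgroup G | IsPGroup p Q ∧ Q ≤ X ∧ ∃ y ∈ X, y ∈ normalizer (Q : Set G) ∧ (orderOf y).Coprime p ∧ y ∉ centralizer (Q : Set G)}
    (fun Q => Nat.card Q) (Set.toFinite _) (by
      by_contra hemp
      rw [Set.not_nonempty_iff_eq_empty] at hemp
      apply hnot
      apply pNil_of_rel
      intro Q hQ hQX y hyX hyQ hyo
      by_contra hyc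
      have : Q ∈ {Q : Subgroup G | IsPGroup p Q ∧ Q ≤ X ∧ ∃ y ∈ X, y ∈ normalizer (Q : Set G) ∧ (orderOf y).Coprime p ∧ y ∉ centralizer (Q : Set G)} :=
        ⟨hQ, hQX, y, hyX, hyQ, hyo, hyc⟩
      rw [hemp] at this
      exact this)
  -- `U ≤ Q`
  have hUQ : U ≤ Q := by
    have hyU := hXU hyX
    have h1 : IsPGroup p (Q ⊔ U : Subgroup G) := by
      have h2 : Q ≤ normalizer (U : Set G) := hQX.trans hXU
      exact hQp.to_sup_of_normal_right' hUp h2
    have h2 := hmax (Q ⊔ U) ⟨h1, sup_le hQX (hUD.trans hDX), y, hyX, norm_sup hyQ hyU, hyo, fun h => hyc (centralizer_le (SetLike.coe_subset_coe.mpr le_sup_left) h)⟩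
    have h3 : Q = Q ⊔ U := eq_of_le_of_card_ge le_sup_left h2
    rw [h3]; exact le_sup_right
  -- fully normalised
  obtain ⟨g, hg, hgS, hgfn⟩ := exists_fn hS hQX hQp
  obtain ⟨Q', hQ'⟩ : ∃ Q', Q' = Q.map (MulAut.conj g).toMonoidHom := ⟨_, rfl⟩
  rw [← hQ'] at hgS hgfn
  obtain ⟨z, hz⟩ : ∃ z, z = g * y * g⁻¹ := ⟨_, rfl⟩
  have hzX : z ∈ X := hz ▸ mul_mem (mul_mem hg hyX) (inv_mem hg)
  have hzo : (orderOf z).Coprime p := by
    rw [hz, show g * y * g⁻¹ = MulAut.conj g y from rfl, MulEquiv.orderOf_eq]; exact hyo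
  have hzQ : z ∈ normalizer (Q' : Set G) := by
    apply SixElt.mem_norm_fin
    rw [hQ']
    rintro _ ⟨q, hq, rfl⟩
    refine ⟨y * q * y⁻¹, (mem_normalizer_iff.mp hyQ q).mp hq, ?_⟩
    rw [hz]
    change g * (y * q * y⁻¹) * g⁻¹ = g * y * g⁻¹ * (g * q * g⁻¹) * (g * y * g⁻¹)⁻¹
    group
  have hzc : z ∉ centralizer (Q' : Set G) := by
    intro h
    apply hyc
    rw [mem_centralizer_iff] at h ⊢
    intro q hq
    have h1 := h (g * q * g⁻¹) (hQ' ▸ ⟨q, hq, rfl⟩)
    rw [hz] at h1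
    calc q * y = g⁻¹ * ((g * q * g⁻¹) * (g * y * g⁻¹)) * g := by group
      _ = g⁻¹ * ((g * y * g⁻¹) * (g * q * g⁻¹)) * g := by rw [h1]
      _ = y * q := by group
  have hQ'p : IsPGroup p Q' := hQ' ▸ hQp.map _
  have hUQ' : U ≤ Q' := by
    intro u hu
    rw [hQ']
    refine ⟨g⁻¹ * u * g, hUQ ?_, ?_⟩
    · have := (mem_normalizer_iff.mp (inv_mem (hXU hg)) u).mp hu
      rwa [inv_inv] at this
    · change g * (g⁻¹ * u * g) * g⁻¹ = u
      group
  apply hzc
  have hQ'X : Q' ≤ X := hgS.trans hS.le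
  obtain ⟨V, hV⟩ : ∃ V, V = Q' ⊓ D := ⟨_, rfl⟩
  have hUV : U ≤ V := hV ▸ le_inf hUQ' hUD
  rcases lt_or_ge (Nat.card U) (Nat.card V) with hlt | hge
  · -- `V` is larger than `U`
    have h1 := hbig V (hV ▸ inf_le_right) hlt
    have hVn : ∀ w ∈ X, w ∈ normalizer (Q' : Set G) → w ∈ normalizer (V : Set G) := by
      intro w hw hwQ
      apply SixElt.mem_norm_fin
      intro v hv
      rw [hV] at hv ⊢
      obtain ⟨hv1, hv2⟩ := mem_inf.mp hv
      have h2 := (mem_normalizer_iff.mp hwQ v).mp hv1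
      exact mem_inf.mpr ⟨h2, hsc v hv2 w hw (hgS h2)⟩
    have hle : Q' ≤ (X ⊓ normalizer (V : Set G)) ⊓ normalizer (Q' : Set G) :=
      le_inf (le_inf hQ'X (fun q hq => hVn q (hQ'X hq) (le_normalizer hq))) le_normalizer
    exact centralizes_of_pNil hQ'p hle inf_le_right (h1.of_le inf_le_left) (mem_inf.mpr ⟨mem_inf.mpr ⟨hzX, hVn z hzX hzQ⟩, hzQ⟩) hzo
  · have hVU : V = U := (eq_of_le_of_card_ge hUV hge).symm
    -- the normaliser of `Q'` in `D`
    obtain ⟨D₁, hD₁⟩ : ∃ D₁, D₁ = D ⊓ normalizer (Q' : Set G) := ⟨_, rfl⟩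
    have hQD : Q' ≤ normalizer (D : Set G) := by
      intro q hq
      exact SixElt.mem_norm_fin (fun d hd => hSD q (hgS hq) d hd)
    have hUD₁ : U ≤ D₁ := hD₁ ▸ le_inf hUD (hUQ'.trans le_normalizer)
    have hlt : Nat.card U < Nat.card D₁ := by
      by_contra hcon
      push Not at hcon
      have h1 : D₁ = U := (eq_of_le_of_card_ge hUD₁ hcon).symm
      -- `Q' < Q' ⊔ D`
      have h2 : Q' < Q' ⊔ D := by
        refine lt_of_le_of_ne le_sup_left fun h => hE ?_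
        have h3 : D ≤ Q' := h ▸ le_sup_right
        have h4 : D = U := by rw [← hVU, hV]; exact (inf_eq_right.mpr h3).symm
        exact inf_le_left.trans h4.le
      have h3 : IsPGroup p (Q' ⊔ D : Subgroup G) := hS.isPGroup.to_le (sup_le hgS hDS)
      have h4 := lt_inf_normalizer h3.isNilpotent h2
      obtain ⟨x, hx, hxQ⟩ := SetLike.exists_of_lt h4
      obtain ⟨hx1, hx2⟩ := mem_inf.mp hx
      rw [sup_comm] at hx1
      obtain ⟨q, hq, d, hd, rfl⟩ := (Basic.mem_sup_iff_right hQD).mp hx1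
      have h5 : d ∈ D₁ := by
        rw [hD₁]
        refine mem_inf.mpr ⟨hd, ?_⟩
        have : d = q⁻¹ * (q * d) := by group
        rw [this]
        exact mul_mem (inv_mem (le_normalizer hq)) hx2
      rw [h1] at h5
      exact hxQ (mul_mem hq (hUQ' h5))
    have hPD₁ := hbig D₁ (hD₁ ▸ inf_le_left) hlt
    have hnU : ∀ w ∈ X, ∀ u ∈ U, w * u * w⁻¹ ∈ U := fun w hw u hu => (mem_normalizer_iff.mp (hXU hw) u).mp hu
    have hnU' : ∀ w ∈ X, ∀ u ∈ U, w⁻¹ * u * w ∈ U := fun w hw u hu => by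
      have := hnU w⁻¹ (inv_mem hw) u hu
      rwa [inv_inv] at this
    -- the centraliser of `Q' / U`
    obtain ⟨C, hC⟩ : ∃ C : Subgroup G, ∀ l, l ∈ C ↔ (l ∈ X ∧ l ∈ normalizer (Q' : Set G)) ∧ ∀ q ∈ Q', l * q * l⁻¹ * q⁻¹ ∈ U := by
      refine ⟨{ carrier := {l | (l ∈ X ∧ l ∈ normalizer (Q' : Set G)) ∧ ∀ q ∈ Q', l * q * l⁻¹ * q⁻¹ ∈ U}
                one_mem' := ⟨⟨one_mem _, one_mem _⟩, fun q _ => by simp⟩
                mul_mem' := ?_
                inv_mem' := ?_ }, fun l => Iff.rfl⟩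
      · rintro a b ⟨⟨ha1, ha2⟩, ha3⟩ ⟨⟨hb1, hb2⟩, hb3⟩
        refine ⟨⟨mul_mem ha1 hb1, mul_mem ha2 hb2⟩, fun q hq => ?_⟩
        have e : a * b * q * (a * b)⁻¹ * q⁻¹ = (a * (b * q * b⁻¹ * q⁻¹) * a⁻¹) * (a * q * a⁻¹ * q⁻¹) := by group
        rw [e]
        exact mul_mem (hnU a ha1 _ (hb3 q hq)) (ha3 q hq)
      · rintro a ⟨⟨ha1, ha2⟩, ha3⟩
        refine ⟨⟨inv_mem ha1, inv_mem ha2⟩, fun q hq => ?_⟩
        have e : a⁻¹ * q * a⁻¹⁻¹ * q⁻¹ = a⁻¹ * (a * q * a⁻¹ * q⁻¹)⁻¹ * a := by group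
        rw [e]
        exact hnU' a ha1 _ (inv_mem (ha3 q hq))
    have hCle : C ≤ X ⊓ normalizer (Q' : Set G) := fun l hl => mem_inf.mpr ((hC l).mp hl).1
    have hCn : X ⊓ normalizer (Q' : Set G) ≤ normalizer (C : Set G) := by
      intro x hx
      obtain ⟨hxX, hxQ⟩ := mem_inf.mp hx
      apply SixElt.mem_norm_fin
      intro c hc
      obtain ⟨⟨h1, h2⟩, h3⟩ := (hC c).mp hc
      refine (hC _).mpr ⟨⟨mul_mem (mul_mem hxX h1) (inv_mem hxX), mul_mem (mul_mem hxQ h2) (inv_mem hxQ)⟩, fun q hq => ?_⟩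
      have h4 : x⁻¹ * q * x ∈ Q' := by
        have := (mem_normalizer_iff.mp (inv_mem hxQ) q).mp hq
        rwa [inv_inv] at this
      have e : x * c * x⁻¹ * q * (x * c * x⁻¹)⁻¹ * q⁻¹ = x * (c * (x⁻¹ * q * x) * c⁻¹ * (x⁻¹ * q * x)⁻¹) * x⁻¹ := by group
      rw [e]
      exact hnU x hxX _ (h3 _ h4)
    have hT : SylIn p ((S ⊓ normalizer (Q' : Set G)) ⊓ C) C := hgfn.inf_normal hCle hCn
    have hzN : z ∈ X ⊓ normalizer (Q' : Set G) := mem_inf.mpr ⟨hzX, hzQ⟩
    obtain ⟨d, hd, hdz⟩ := hT.frattini (g := z) (fun x hx => (mem_normalizer_iff.mp (hCn hzN) x).mp hx)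
    obtain ⟨n, hn⟩ : ∃ n, n = d * z := ⟨_, rfl⟩
    have hnN : n ∈ X ⊓ normalizer (Q' : Set G) := hn ▸ mul_mem (hCle hd) hzN
    obtain ⟨hnX, hnQ⟩ := mem_inf.mp hnN
    have hD₁C : D₁ ≤ C := by
      intro d hd
      rw [hD₁] at hd
      obtain ⟨hd1, hd2⟩ := mem_inf.mp hd
      refine (hC d).mpr ⟨⟨hDX hd1, hd2⟩, fun q hq => ?_⟩
      rw [← hVU, hV]
      refine mem_inf.mpr ⟨mul_mem ((mem_normalizer_iff.mp hd2 q).mp hq) (inv_mem hq), ?_⟩
      have e : d * q * d⁻¹ * q⁻¹ = d * (q * d⁻¹ * q⁻¹) := by group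
      rw [e]
      exact mul_mem hd1 (hSD q (hgS hq) _ (inv_mem hd1))
    have hnD₁ : n ∈ normalizer (D₁ : Set G) := by
      apply SixElt.mem_norm_fin
      intro d' hd'
      have hd'2 := hd'
      rw [hD₁] at hd'2
      obtain ⟨h1, h2⟩ := mem_inf.mp hd'2
      have h3 := hdz d' (mem_inf.mpr ⟨mem_inf.mpr ⟨hDS h1, h2⟩, hD₁C hd'⟩)
      rw [← hn] at h3
      obtain ⟨h4, -⟩ := mem_inf.mp h3
      obtain ⟨h5, h6⟩ := mem_inf.mp h4
      rw [hD₁]
      exact mem_inf.mpr ⟨hsc d' h1 n hnX h5, h6⟩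
    have hQD₁ : Q' ≤ normalizer (D₁ : Set G) := by
      intro q hq
      apply SixElt.mem_norm_fin
      intro d' hd'
      rw [hD₁] at hd' ⊢
      obtain ⟨h1, h2⟩ := mem_inf.mp hd'
      exact mem_inf.mpr ⟨hSD q (hgS hq) d' h1, mul_mem (mul_mem (le_normalizer hq) h2) (inv_mem (le_normalizer hq))⟩
    obtain ⟨k, m', hpm, hkm⟩ := Nat.exists_eq_pow_mul_and_not_dvd (n := orderOf n) (orderOf_pos n).ne' p hp.out.one_lt.ne'
    have h1 : n ^ p ^ k ∈ C := by
      have hle : Q' ≤ (X ⊓ normalizer (D₁ : Set G)) ⊓ normalizer (Q' : Set G) := le_inf (le_inf hQ'X hQD₁) le_normalizer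
      have h2 := centralizes_of_pNil hQ'p hle inf_le_right (hPD₁.of_le inf_le_left)
        (pow_mem (mem_inf.mpr ⟨mem_inf.mpr ⟨hnX, hnD₁⟩, hnQ⟩ : n ∈ _) (p ^ k)) (orderOf_ppart hp.out hkm hpm)
      refine (hC _).mpr ⟨⟨pow_mem hnX _, pow_mem hnQ _⟩, fun q hq => ?_⟩
      rw [← mem_centralizer_iff.mp h2 q hq, mul_inv_cancel_right, mul_inv_cancel]
      exact one_mem _
    have h2 : n ^ orderOf z ∈ C := by
      rw [hn]
      exact pow_mod hd (fun c hc => (mem_normalizer_iff.mp (hCn (hn ▸ hnN)) c).mp hc)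
    have h3 : n ∈ C := mem_of_coprime_pow h1 h2 (Nat.Coprime.pow_left k hzo.symm)
    have h4 : z ∈ C := by
      have : z = d⁻¹ * n := by rw [hn]; group
      rw [this]; exact mul_mem (inv_mem hd) h3
    -- `z` centralises `U` and `Q' / U`
    have hzU := hcU z hzX hzo
    rw [mem_centralizer_iff]
    intro q hq
    obtain ⟨u, hu⟩ : ∃ u, u = z * q * z⁻¹ * q⁻¹ := ⟨_, rfl⟩
    have huU : u ∈ U := hu ▸ ((hC z).mp h4).2 q hq
    have hzu : u * z = z * u := mem_centralizer_iff.mp hzU u huU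
    have key : ∀ j : ℕ, z ^ j * q * (z ^ j)⁻¹ = u ^ j * q := by
      intro j
      induction j with
      | zero => simp
      | succ j ih =>
        have e : z ^ (j + 1) * q * (z ^ (j + 1))⁻¹ = z * (z ^ j * q * (z ^ j)⁻¹) * z⁻¹ := by
          rw [pow_succ' z]; simp only [mul_assoc, mul_inv_rev]
        have e2 : z * u ^ j = u ^ j * z := ((show Commute u z from hzu).pow_left j).eq.symm
        rw [e, ih]
        calc z * (u ^ j * q) * z⁻¹ = (z * u ^ j) * q * z⁻¹ := by group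
          _ = u ^ j * z * q * z⁻¹ := by rw [e2]
          _ = u ^ j * (z * q * z⁻¹ * q⁻¹) * q := by simp only [mul_assoc, inv_mul_cancel, mul_one]
          _ = u ^ (j + 1) * q := by rw [← hu, pow_succ]
    have h5 := key (orderOf z)
    rw [pow_orderOf_eq_one, one_mul, inv_one, mul_one] at h5
    have h6 : u ^ orderOf z = 1 := by
      have : u ^ orderOf z * q = 1 * q := by rw [← h5, one_mul]
      exact mul_right_cancel this
    obtain ⟨i, hi⟩ := hUp ⟨u, huU⟩
    have hi' : u ^ p ^ i = 1 := congrArg Subtype.val hi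
    have h7 : u = 1 := by
      have := mem_of_coprime_pow (C := (⊥ : Subgroup G)) (n := u) (mem_bot.mpr h6) (mem_bot.mpr hi') (Nat.Coprime.pow_right i hzo)
      exact mem_bot.mp this
    rw [h7] at hu
    exact (mul_inv_eq_iff_eq_mul.mp (mul_inv_eq_one.mp hu.symm)).symm

/-- the criterion, relative form -/
theorem main [Finite G] {p : ℕ} [hp : Fact p.Prime] (m : ℕ) : ∀ (X S D : Subgroup G), Nat.card X ≤ m → SylIn p S X → D ≤ S →
    (∀ x ∈ D, ∀ g ∈ X, g * x * g⁻¹ ∈ S → g * x * g⁻¹ ∈ D) →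
    (∀ U : Subgroup G, U ≤ D → D ⊓ centralizer (U : Set G) ≤ U → PNil p (X ⊓ normalizer (U : Set G) : Subgroup G)) → PNil p X := by
  induction m with
  | zero =>
    intro X S D hc
    exact absurd hc (by have : 0 < Nat.card X := Nat.card_pos; omega)
  | succ m ih =>
    intro X S D hc hS hDS hsc hyp
    by_contra hX
    obtain ⟨U₀, ⟨hU₀D, hU₀n⟩, hmax⟩ := Set.exists_max_image {U : Subgroup G | U ≤ D ∧ ¬ PNil p (X ⊓ normalizer (U : Set G) : Subgroup G)}
      (fun U => Nat.card U) (Set.toFinite _) ⟨⊥, bot_le, fun h => hX (by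
        refine PNil.of_le h ?_
        rw [normalizer_eq_top]; exact le_inf le_rfl le_top)⟩
    have hU₀X : U₀ ≤ X := hU₀D.trans (hDS.trans hS.le)
    have hU₀p : IsPGroup p U₀ := hS.isPGroup.to_le (hU₀D.trans hDS)
    obtain ⟨g, hg, hgS, hgfn⟩ := exists_fn hS hU₀X hU₀p
    obtain ⟨U, hU⟩ : ∃ U, U = U₀.map (MulAut.conj g).toMonoidHom := ⟨_, rfl⟩
    rw [← hU] at hgS hgfn
    have hUD : U ≤ D := by
      rw [hU]
      rintro _ ⟨u, hu, rfl⟩
      have h1 : g * u * g⁻¹ ∈ S := hgS (hU ▸ ⟨u, hu, rfl⟩)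
      exact hsc u (hU₀D hu) g hg h1
    have hcard : Nat.card U = Nat.card U₀ := by rw [hU, card_map_conj]
    have hUn : ¬ PNil p (X ⊓ normalizer (U : Set G) : Subgroup G) := by
      intro h
      apply hU₀n
      have hmem : ∀ x : (X ⊓ normalizer (U₀ : Set G) : Subgroup G), g * (x : G) * g⁻¹ ∈ X ⊓ normalizer (U : Set G) := by
        rintro ⟨x, hx⟩
        obtain ⟨hxX, hxn⟩ := mem_inf.mp hx
        refine mem_inf.mpr ⟨mul_mem (mul_mem hg hxX) (inv_mem hg), ?_⟩
        apply SixElt.mem_norm_fin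
        rw [hU]
        rintro _ ⟨u, hu, rfl⟩
        refine ⟨x * u * x⁻¹, (mem_normalizer_iff.mp hxn u).mp hu, ?_⟩
        change g * (x * u * x⁻¹) * g⁻¹ = g * x * g⁻¹ * (g * u * g⁻¹) * (g * x * g⁻¹)⁻¹
        group
      refine h.of_injective (((MulAut.conj g).toMonoidHom.comp (X ⊓ normalizer (U₀ : Set G) : Subgroup G).subtype).codRestrict _ hmem) ?_
      intro a b hab
      have h1 : g * (a : G) * g⁻¹ = g * (b : G) * g⁻¹ := congrArg Subtype.val hab
      exact Subtype.ext (mul_left_cancel (mul_right_cancel h1))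
    have hbig : ∀ V : Subgroup G, V ≤ D → Nat.card U < Nat.card V → PNil p (X ⊓ normalizer (V : Set G) : Subgroup G) := by
      intro V hVD hlt
      by_contra hV
      have := hmax V ⟨hVD, hV⟩
      omega
    have hE : ¬ D ⊓ centralizer (U : Set G) ≤ U := fun h => hUn (hyp U hUD h)
    by_cases hXU : X ≤ normalizer (U : Set G)
    · exact hX (normal_case hS hDS hsc hUD hXU hE hbig)
    · obtain ⟨H, hH⟩ : ∃ H, H = X ⊓ normalizer (U : Set G) := ⟨_, rfl⟩
      have hHX : H < X := by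
        refine lt_of_le_of_ne (hH ▸ inf_le_left) fun h => hXU ?_
        rw [← h, hH]; exact inf_le_right
      have hHc : Nat.card H ≤ m := by
        have h1 : Nat.card H < Nat.card X := by
          by_contra hcon
          push Not at hcon
          exact hHX.ne (eq_of_le_of_card_ge hHX.le hcon)
        omega
      apply hUn
      rw [← hH] at hgfn ⊢
      have hUN : U ≤ normalizer (U : Set G) := le_normalizer
      refine ih H (S ⊓ normalizer (U : Set G)) (D ⊓ normalizer (U : Set G)) hHc hgfn (inf_le_inf_right _ hDS) ?_ ?_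
      · intro x hx g hg hgx
        obtain ⟨hx1, hx2⟩ := mem_inf.mp hx
        obtain ⟨h1, h2⟩ := mem_inf.mp hgx
        exact mem_inf.mpr ⟨hsc x hx1 g (hHX.le hg) h1, h2⟩
      · intro V hV hCV
        by_contra hnot
        have hVD : V ≤ D := hV.trans inf_le_left
        have h1 : ¬ PNil p (X ⊓ normalizer ((V ⊔ U : Subgroup G) : Set G) : Subgroup G) := by
          intro h
          apply hnot
          refine h.of_le ?_
          intro x hx
          obtain ⟨hx1, hx2⟩ := mem_inf.mp hx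
          rw [hH] at hx1
          obtain ⟨hx3, hx4⟩ := mem_inf.mp hx1
          exact mem_inf.mpr ⟨hx3, norm_sup hx2 hx4⟩
        have h2 : Nat.card (V ⊔ U : Subgroup G) ≤ Nat.card U := by
          by_contra hcon
          push Not at hcon
          exact h1 (hbig (V ⊔ U) (sup_le hVD hUD) hcon)
        have h3 : U = V ⊔ U := eq_of_le_of_card_ge le_sup_right h2
        have hVU : V ≤ U := by rw [h3]; exact le_sup_left
        apply hE
        refine le_trans ?_ hVU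
        refine le_trans ?_ hCV
        intro x hx
        obtain ⟨hx1, hx2⟩ := mem_inf.mp hx
        refine mem_inf.mpr ⟨mem_inf.mpr ⟨hx1, ?_⟩, centralizer_le hVU hx2⟩
        apply SixElt.mem_norm_fin
        intro u hu
        rw [← mem_centralizer_iff.mp hx2 u hu, mul_inv_cancel_right]; exact hu

/-- the criterion -/
theorem criterion [Finite G] {p : ℕ} [hp : Fact p.Prime] (S : Sylow p G) (D : Subgroup G) (hD : Cfsg.IsStronglyClosed D (S : Subgroup G))
    (h : ∀ U : Subgroup G, U ≤ D → D ⊓ centralizer (U : Set G) ≤ U → PNil p (normalizer (U : Set G))) : PNil p G := by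
  have h1 : PNil p (⊤ : Subgroup G) := by
    refine main (Nat.card (⊤ : Subgroup G)) ⊤ S D le_rfl (sylIn_of_sylow S) hD.1 (fun x hx g _ hg => hD.2 x hx g hg) ?_
    intro U hU hCU
    exact (h U hU hCU).of_le inf_le_right
  exact h1.of_equiv Subgroup.topEquiv

end Cfsg.Agent.H2.SClosed
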