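import Mathlib
import Cfsg.Agent.Lib.PNilp
import Cfsg.Agent.Lib.Cores

/-! Soft subgroups of `p`-groups -/

set_option autoImplicit false
set_option linter.unusedSectionVars false

namespace Cfsg.Agent.H2.Soft

open Subgroup Cfsg.Agent.Lib

universe u

variable {P : Type u} [Group P] [Finite P] {p : ℕ} [Fact p.Prime]

theorem lt_card {A B : Subgroup P} (h : A < B) : Nat.card A < Nat.card B :=
  Set.ncard_lt_ncard h (Set.toFinite _)

theorem eq_of_prime {A B C : Subgroup P} (hAB : A ≤ B) (hBC : B ≤ C) (h : Nat.card C = p * Nat.card A) :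
    B = A ∨ B = C := by
  have hp : p.Prime := Fact.out
  obtain ⟨a, ha⟩ := Subgroup.card_dvd_of_le hAB
  obtain ⟨b, hb⟩ := Subgroup.card_dvd_of_le hBC
  have hA : 0 < Nat.card A := Nat.card_pos
  have h1 : a * b = p := by
    have : Nat.card A * (a * b) = Nat.card A * p := by rw [← mul_assoc, ← ha, ← hb, h, mul_comm]
    exact Nat.eq_of_mul_eq_mul_left hA this
  rcases (Nat.dvd_prime hp).1 (Dvd.intro _ h1) with h2 | h2
  · left
    rw [h2, mul_one] at ha
    exact (Subgroup.eq_of_le_of_card_ge hAB ha.le).symm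
  · right
    have hb1 : b = 1 := by
      rw [h2] at h1
      exact Nat.eq_of_mul_eq_mul_left hp.pos (by rw [h1, mul_one])
    rw [hb1, mul_one] at hb
    exact Subgroup.eq_of_le_of_card_ge hBC hb.le

/-- commutators lie in a normal subgroup of prime index -/
theorem comm_mem {A B : Subgroup P} (hAB : A ≤ B) (hB : B ≤ normalizer (A : Set P)) (h : Nat.card B = p * Nat.card A)
    {x y : P} (hx : x ∈ B) (hy : y ∈ B) : x * y * x⁻¹ * y⁻¹ ∈ A := by
  haveI hn : (A.subgroupOf B).Normal := (normal_subgroupOf_iff_le_normalizer hAB).2 hB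
  have hc : Nat.card (B ⧸ A.subgroupOf B) = p := by
    have h1 := Subgroup.card_eq_card_quotient_mul_card_subgroup (A.subgroupOf B)
    have h2 : Nat.card (A.subgroupOf B) = Nat.card A := Nat.card_congr (Subgroup.subgroupOfEquivOfLe hAB).toEquiv
    rw [h2, h] at h1
    exact (Nat.eq_of_mul_eq_mul_right Nat.card_pos h1).symm
  haveI : IsCyclic (B ⧸ A.subgroupOf B) := isCyclic_of_prime_card hc
  have h3 : (QuotientGroup.mk' (A.subgroupOf B)) (⟨x, hx⟩ * ⟨y, hy⟩ * ⟨x, hx⟩⁻¹ * ⟨y, hy⟩⁻¹) = 1 := by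
    have hcomm := (IsCyclic.commGroup (α := B ⧸ A.subgroupOf B)).mul_comm
    rw [map_mul, map_mul, map_mul, map_inv, map_inv]
    rw [show (QuotientGroup.mk' (A.subgroupOf B)) ⟨x, hx⟩ * (QuotientGroup.mk' (A.subgroupOf B)) ⟨y, hy⟩ =
      (QuotientGroup.mk' (A.subgroupOf B)) ⟨y, hy⟩ * (QuotientGroup.mk' (A.subgroupOf B)) ⟨x, hx⟩ from hcomm _ _]
    group
  have h4 := (QuotientGroup.eq_one_iff _).1 h3
  exact h4

structure IsSoft (p : ℕ) (E : Subgroup P) : Prop where
  comm : ∀ x ∈ E, ∀ y ∈ E, x * y = y * x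
  cent : centralizer (E : Set P) ≤ E
  norm : Nat.card ↥(normalizer (E : Set P)) = p * Nat.card E
  idx : p ^ 2 * Nat.card E ≤ Nat.card P

variable {E : Subgroup P}

theorem IsSoft.le_cent (h : IsSoft p E) : E ≤ centralizer (E : Set P) := fun x hx => by
  rw [mem_centralizer_iff]; intro y hy; exact h.comm y hy x hx

theorem IsSoft.norm_ne_top (h : IsSoft p E) : normalizer (E : Set P) ≠ ⊤ := by
  intro ht
  have h1 := h.norm
  rw [ht, Subgroup.card_top] at h1
  have h2 := h.idx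
  rw [h1] at h2
  have hp : 1 < p := (Fact.out : p.Prime).one_lt
  have hE : 0 < Nat.card E := Nat.card_pos
  have : p ^ 2 ≤ p := Nat.le_of_mul_le_mul_right h2 hE
  nlinarith

theorem IsSoft.center_le (h : IsSoft p E) : center P ≤ E :=
  (Subgroup.center_le_centralizer _).trans h.cent

/-- overgroups contain the normalizer -/
theorem IsSoft.norm_le (h : IsSoft p E) (hP : IsPGroup p P) {K : Subgroup P} (hEK : E ≤ K) (hne : K ≠ E) :
    normalizer (E : Set P) ≤ K := by
  have hnil : Group.IsNilpotent K := (hP.to_subgroup K).isNilpotent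
  have h1 := PNilp.lt_inf_normalizer hnil (lt_of_le_of_ne hEK hne.symm)
  rcases eq_of_prime (p := p) h1.le inf_le_right h.norm with h2 | h2
  · rw [h2] at h1; exact absurd h1 (lt_irrefl _)
  · rw [← h2]; exact inf_le_left

theorem conj_mem_iff {g x : P} {A : Subgroup P} (hg : g ∈ normalizer (A : Set P)) : g * x * g⁻¹ ∈ A ↔ x ∈ A :=
  (mem_normalizer_iff.1 hg x).symm

/-- the second abelian subgroup and the centre of `N(E)` -/
theorem IsSoft.second (h : IsSoft p E) {g : P}
    (hg : g ∈ normalizer ((normalizer (E : Set P) : Subgroup P) : Set P)) :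
    ∀ x ∈ normalizer (E : Set P), ∀ y ∈ normalizer (E : Set P), x * y * x⁻¹ * y⁻¹ ∈ E ∧
      x * y * x⁻¹ * y⁻¹ ∈ E.map (MulAut.conj g).toMonoidHom := by
  intro x hx y hy
  refine ⟨comm_mem (p := p) le_normalizer le_rfl h.norm hx hy, ?_⟩
  have hx' : g⁻¹ * x * g⁻¹⁻¹ ∈ normalizer (E : Set P) := (conj_mem_iff (inv_mem hg)).2 hx
  have hy' : g⁻¹ * y * g⁻¹⁻¹ ∈ normalizer (E : Set P) := (conj_mem_iff (inv_mem hg)).2 hy
  have h1 := comm_mem (p := p) le_normalizer le_rfl h.norm hx' hy'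
  refine ⟨_, h1, ?_⟩
  show g * _ * g⁻¹ = _
  group

theorem IsSoft.sup_eq (h : IsSoft p E) {X : Subgroup P} (hX : X ≤ normalizer (E : Set P)) (hXE : ¬ X ≤ E) :
    E ⊔ X = normalizer (E : Set P) := by
  rcases eq_of_prime (p := p) (le_sup_left : E ≤ E ⊔ X) (sup_le le_normalizer hX) h.norm with h2 | h2
  · exact absurd (le_sup_right.trans h2.le) hXE
  · exact h2

theorem map_conj_le {g₀ : P} (hg : g₀ ∈ normalizer ((normalizer (E : Set P) : Subgroup P) : Set P)) :
    E.map (MulAut.conj g₀).toMonoidHom ≤ normalizer (E : Set P) := by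
  rintro _ ⟨x, hx, rfl⟩
  exact (conj_mem_iff hg).2 (le_normalizer hx)

theorem exists_norm (hP : IsPGroup p P) {N : Subgroup P} (hN : N ≠ ⊤) : ∃ g ∈ normalizer (N : Set P), g ∉ N := by
  have hnil : Group.IsNilpotent P := hP.isNilpotent
  exact SetLike.exists_of_lt (Group.normalizerCondition_of_isNilpotent N (lt_top_iff_ne_top.2 hN))

theorem IsSoft.conj_not_le {g : P} (hgN : g ∉ normalizer (E : Set P)) :
    ¬ E.map (MulAut.conj g).toMonoidHom ≤ E := by
  intro hle
  apply hgN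
  have hc : Nat.card (E.map (MulAut.conj g).toMonoidHom) = Nat.card E :=
    Nat.card_congr (E.equivMapOfInjective _ (MulAut.conj g).injective).symm.toEquiv
  have heq := Subgroup.eq_of_le_of_card_ge hle hc.ge
  rw [mem_normalizer_iff]
  intro y
  constructor
  · intro hy; exact hle ⟨y, hy, rfl⟩
  · intro hy
    have hy' : g * y * g⁻¹ ∈ E.map (MulAut.conj g).toMonoidHom := by rw [heq]; exact hy
    obtain ⟨z, hz, e⟩ := hy'
    have e' : g * z * g⁻¹ = g * y * g⁻¹ := e
    have : z = y := by simpa using e'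
    rwa [← this]

/-- elements of `E ∩ E^g` centralize `N(E)` -/
theorem IsSoft.inf_cent (h : IsSoft p E) {g : P}
    (hg : g ∈ normalizer ((normalizer (E : Set P) : Subgroup P) : Set P)) (hgN : g ∉ normalizer (E : Set P)) {d : P}
    (hd : d ∈ E) (hd' : d ∈ E.map (MulAut.conj g).toMonoidHom) : ∀ n ∈ normalizer (E : Set P), d * n = n * d := by
  have hsup := h.sup_eq (map_conj_le hg) (IsSoft.conj_not_le hgN)
  have h1 : E ⊔ E.map (MulAut.conj g).toMonoidHom ≤ centralizer {d} := by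
    refine sup_le (fun x hx => ?_) ?_
    · rw [mem_centralizer_singleton_iff]
      exact h.comm x hx d hd
    · rintro _ ⟨x, hx, rfl⟩
      obtain ⟨y, hy, rfl⟩ := hd'
      rw [mem_centralizer_singleton_iff]
      show g * x * g⁻¹ * (g * y * g⁻¹) = g * y * g⁻¹ * (g * x * g⁻¹)
      have := h.comm x hx y hy
      calc g * x * g⁻¹ * (g * y * g⁻¹) = g * (x * y) * g⁻¹ := by group
        _ = g * (y * x) * g⁻¹ := by rw [this]
        _ = _ := by group
  intro n hn
  rw [← hsup] at hn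
  exact (mem_centralizer_singleton_iff.1 (h1 hn)).symm

theorem IsSoft.comm_cent (h : IsSoft p E) (hP : IsPGroup p P) : ∀ x ∈ normalizer (E : Set P), ∀ y ∈ normalizer (E : Set P),
    ∀ n ∈ normalizer (E : Set P), (x * y * x⁻¹ * y⁻¹) * n = n * (x * y * x⁻¹ * y⁻¹) := by
  obtain ⟨g, hg, hgN⟩ := exists_norm hP h.norm_ne_top
  intro x hx y hy n hn
  obtain ⟨h1, h2⟩ := h.second hg x hx y hy
  exact h.inf_cent hg hgN h1 h2 n hn

theorem card_mul_rel {A B : Subgroup P} (h : A ≤ B) : A.relIndex B * Nat.card A = Nat.card B := by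
  have := Subgroup.relIndex_mul_relIndex (⊥ : Subgroup P) A B bot_le h
  rw [Subgroup.relIndex_bot_left, Subgroup.relIndex_bot_left] at this
  rw [mul_comm]; exact this

theorem rel_of_card {A B : Subgroup P} (h : A ≤ B) {n : ℕ} (hn : Nat.card B = n * Nat.card A) : A.relIndex B = n := by
  have := card_mul_rel h
  rw [hn] at this
  exact Nat.eq_of_mul_eq_mul_right Nat.card_pos this

theorem IsSoft.norm_norm (h : IsSoft p E) (hP : IsPGroup p P) :
    Nat.card ↥(normalizer ((normalizer (E : Set P) : Subgroup P) : Set P)) = p * Nat.card ↥(normalizer (E : Set P)) := by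
  have hp : p.Prime := Fact.out
  obtain ⟨g, hg, hgN⟩ := exists_norm hP h.norm_ne_top
  set N := normalizer (E : Set P) with hN
  set H := normalizer (N : Set P) with hH
  set F := E.map (MulAut.conj g).toMonoidHom with hF
  have hEN : E ≤ N := le_normalizer
  have hNH : N ≤ H := le_normalizer
  have hFN : F ≤ N := map_conj_le hg
  have hFc : Nat.card F = Nat.card E :=
    Nat.card_congr (E.equivMapOfInjective _ (MulAut.conj g).injective).symm.toEquiv
  have hFE : ¬ F ≤ E := IsSoft.conj_not_le hgN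
  have hEF : ¬ E ≤ F := fun hle => hFE (Subgroup.eq_of_le_of_card_ge hle hFc.le).ge
  obtain ⟨x, hxE, hxF⟩ := SetLike.not_le_iff_exists.1 hEF
  let D : Subgroup P := E ⊓ F
  have hDN : D.relIndex N ≤ p * p := by
    refine (Subgroup.relIndex_inf_le).trans ?_
    rw [rel_of_card hEN h.norm, rel_of_card hFN (by rw [hFc]; exact h.norm)]
  have hDE : D.relIndex E ≤ p := by
    have h1 := Subgroup.relIndex_mul_relIndex D E N inf_le_left hEN
    rw [rel_of_card hEN h.norm] at h1
    rw [← h1] at hDN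
    exact Nat.le_of_mul_le_mul_right hDN hp.pos
  have hD1 : D.relIndex E ≠ 1 := by
    rw [Ne, Subgroup.relIndex_eq_one]
    intro hle
    exact hEF (hle.trans inf_le_right)
  have hDEp : Nat.card E = p * Nat.card D := by
    have h1 := card_mul_rel (inf_le_left : D ≤ E)
    obtain ⟨n, hn⟩ := IsPGroup.iff_card.1 (hP.to_subgroup E)
    have h2 : D.relIndex E ∣ p ^ n := by rw [← hn, ← h1]; exact Dvd.intro _ rfl
    obtain ⟨k, hk, hk2⟩ := (Nat.dvd_prime_pow hp).1 h2
    have h3 : k = 1 := by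
      rcases k with _ | _ | k
      · exact absurd (by rw [hk2, pow_zero]) hD1
      · rfl
      · exfalso
        rw [hk2] at hDE
        have h4 : p ^ 1 < p ^ (k + 1 + 1) := Nat.pow_lt_pow_right hp.one_lt (by omega)
        rw [pow_one] at h4
        omega
    rw [← h1, hk2, h3, pow_one]
  -- `D` is normalized by `H`
  have hDc : ∀ d ∈ D, ∀ n ∈ N, d * n = n * d := fun d hd n hn => h.inf_cent hg hgN hd.1 hd.2 n hn
  have hZD : ∀ z ∈ N, (∀ n ∈ N, z * n = n * z) → z ∈ D := by
    intro z hz hzc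
    have key : ∀ w ∈ N, (∀ n ∈ N, w * n = n * w) → w ∈ E := by
      intro w _ hwc
      apply h.cent
      rw [mem_centralizer_iff]
      intro e he
      exact (hwc e (hEN he)).symm
    refine ⟨key z hz hzc, ⟨g⁻¹ * z * g⁻¹⁻¹, key _ ((conj_mem_iff (inv_mem hg)).2 hz) ?_, ?_⟩⟩
    · intro n hn
      have h1 := hzc (g * n * g⁻¹) ((conj_mem_iff hg).2 hn)
      calc g⁻¹ * z * g⁻¹⁻¹ * n = g⁻¹ * (z * (g * n * g⁻¹)) * g := by group
        _ = g⁻¹ * ((g * n * g⁻¹) * z) * g := by rw [h1]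
        _ = _ := by group
    · show g * (g⁻¹ * z * g⁻¹⁻¹) * g⁻¹ = z
      group
  have hDH : ∀ u ∈ H, ∀ d ∈ D, u * d * u⁻¹ ∈ D := by
    intro u hu d hd
    apply hZD _ ((conj_mem_iff hu).2 (hEN hd.1))
    intro n hn
    have hn' : u⁻¹ * n * u⁻¹⁻¹ ∈ N := (conj_mem_iff (inv_mem hu)).2 hn
    have h1 := hDc d hd _ hn'
    calc u * d * u⁻¹ * n = u * (d * (u⁻¹ * n * u⁻¹⁻¹)) * u⁻¹ := by group
      _ = u * ((u⁻¹ * n * u⁻¹⁻¹) * d) * u⁻¹ := by rw [h1]
      _ = _ := by group
  have hxD : x ∉ D := fun hx => hxF hx.2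
  have hDx : D ⊔ zpowers x = E := by
    rcases eq_of_prime (p := p) (le_sup_left : D ≤ D ⊔ zpowers x) (sup_le inf_le_left ((zpowers_le).2 hxE)) hDEp with h1 | h1
    · exact absurd (h1.le (le_sup_right (a := D) (mem_zpowers x))) hxD
    · exact h1
  have hmem : ∀ u ∈ H, x⁻¹ * (u * x * u⁻¹) ∈ D → u ∈ N := by
    intro u hu hux
    have h1 : E ≤ E.comap (MulAut.conj u).toMonoidHom := by
      calc E = D ⊔ zpowers x := hDx.symm
        _ ≤ _ := by
          refine sup_le (fun d hd => ?_) ((zpowers_le).2 ?_)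
          · exact (hDH u hu d hd).1
          · show u * x * u⁻¹ ∈ E
            have := E.mul_mem hxE hux.1
            rwa [mul_inv_cancel_left] at this
    have hle : E.map (MulAut.conj u).toMonoidHom ≤ E := map_le_iff_le_comap.2 h1
    by_contra hu2
    exact IsSoft.conj_not_le hu2 hle
  let f : H ⧸ N.subgroupOf H → N ⧸ D.subgroupOf N := fun q =>
    QuotientGroup.mk (s := D.subgroupOf N) (⟨(q.out : P) * x * (q.out : P)⁻¹, (conj_mem_iff q.out.2).2 (hEN hxE)⟩ : N)
  have hfinj : Function.Injective f := by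
    intro q q' hqq
    have h1 := QuotientGroup.eq.1 hqq
    have h2 : ((q.out : P) * x * (q.out : P)⁻¹)⁻¹ * ((q'.out : P) * x * (q'.out : P)⁻¹) ∈ D := h1
    have h3 := hDH (q.out : P)⁻¹ (inv_mem q.out.2) _ h2
    have h4 := hmem ((q.out : P)⁻¹ * q'.out) (H.mul_mem (H.inv_mem q.out.2) q'.out.2) (by
      have e : x⁻¹ * ((q.out : P)⁻¹ * q'.out * x * ((q.out : P)⁻¹ * q'.out)⁻¹) =
        (q.out : P)⁻¹ * (((q.out : P) * x * (q.out : P)⁻¹)⁻¹ * ((q'.out : P) * x * (q'.out : P)⁻¹)) * (q.out : P)⁻¹⁻¹ := by group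
      rw [e]; exact h3)
    have h5 : q.out⁻¹ * q'.out ∈ N.subgroupOf H := h4
    have h6 := QuotientGroup.eq.2 h5
    rwa [QuotientGroup.out_eq', QuotientGroup.out_eq'] at h6
  have hnot : (QuotientGroup.mk (s := D.subgroupOf N) (1 : N)) ∉ Set.range f := by
    rintro ⟨q, hq⟩
    have h1 := QuotientGroup.eq.1 hq.symm
    have h2 : (1 : P)⁻¹ * ((q.out : P) * x * (q.out : P)⁻¹) ∈ D := h1
    rw [inv_one, one_mul] at h2
    have h3 := hDH (q.out : P)⁻¹ (inv_mem q.out.2) _ h2
    apply hxD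
    have e : (q.out : P)⁻¹ * ((q.out : P) * x * (q.out : P)⁻¹) * (q.out : P)⁻¹⁻¹ = x := by group
    rwa [e] at h3
  have hlt : N.relIndex H < D.relIndex N := by
    classical
    haveI : Fintype (H ⧸ N.subgroupOf H) := Fintype.ofFinite _
    haveI : Fintype (N ⧸ D.subgroupOf N) := Fintype.ofFinite _
    have := Fintype.card_lt_of_injective_of_notMem f hfinj hnot
    rwa [← Nat.card_eq_fintype_card, ← Nat.card_eq_fintype_card] at this
  have h1 := card_mul_rel hNH
  have hN1 : N.relIndex H ≠ 1 := by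
    rw [Ne, Subgroup.relIndex_eq_one]
    intro hle
    exact hgN (hle hg)
  obtain ⟨n, hn⟩ := IsPGroup.iff_card.1 (hP.to_subgroup H)
  have h2 : N.relIndex H ∣ p ^ n := by rw [← hn, ← h1]; exact Dvd.intro _ rfl
  obtain ⟨k, hk, hk2⟩ := (Nat.dvd_prime_pow hp).1 h2
  have h3 : k = 1 := by
    rcases k with _ | _ | k
    · exact absurd (by rw [hk2, pow_zero]) hN1
    · rfl
    · exfalso
      have h4 : p * p ≤ p ^ (k + 1 + 1) := by
        rw [← pow_two]
        exact Nat.pow_le_pow_right hp.pos (by omega)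
      omega
  rw [← h1, hk2, h3, pow_one]

end Cfsg.Agent.H2.Soft
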