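import Cfsg.Agent.H2.Soft

/-! Soft subgroups of `p`-groups: quotients and the induction -/

set_option autoImplicit false
set_option linter.unusedSectionVars false

namespace Cfsg.Agent.H2.SoftB

open Subgroup Cfsg.Agent.Lib Cfsg.Agent.H2.Soft

universe u

variable {P : Type u} [Group P] [Finite P] {p : ℕ} [Fact p.Prime] {E : Subgroup P}

theorem mul_le_of_lt (hP : IsPGroup p P) {A B : Subgroup P} (h : A < B) : p * Nat.card A ≤ Nat.card B := by
  have h1 := card_mul_rel h.le
  have hp : p.Prime := Fact.out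
  obtain ⟨n, hn⟩ := IsPGroup.iff_card.1 (hP.to_subgroup B)
  have h2 : A.relIndex B ∣ p ^ n := by rw [← hn, ← h1]; exact Dvd.intro _ rfl
  obtain ⟨k, hk, hk2⟩ := (Nat.dvd_prime_pow hp).1 h2
  rw [← h1, hk2]
  apply Nat.mul_le_mul_right
  rcases k with _ | k
  · exfalso
    rw [pow_zero, Subgroup.relIndex_eq_one] at hk2
    exact absurd hk2 h.not_ge
  · rw [pow_succ]
    exact Nat.le_mul_of_pos_left _ (pow_pos hp.pos _)

section quot
variable (Z : Subgroup P) [hZn : Z.Normal]

theorem card_map {K : Subgroup P} (h : Z ≤ K) : Nat.card (K.map (QuotientGroup.mk' Z)) * Nat.card Z = Nat.card K := by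
  have h1 := Subgroup.relIndex_ker (K := K) (QuotientGroup.mk' Z)
  rw [QuotientGroup.ker_mk'] at h1
  rw [← h1]
  exact card_mul_rel h

theorem comap_map {K : Subgroup P} (h : Z ≤ K) : (K.map (QuotientGroup.mk' Z)).comap (QuotientGroup.mk' Z) = K :=
  Subgroup.comap_map_eq_self (by rwa [QuotientGroup.ker_mk'])

theorem map_le {K L : Subgroup P} (hL : Z ≤ L) (h : K.map (QuotientGroup.mk' Z) ≤ L.map (QuotientGroup.mk' Z)) : K ≤ L := by
  rw [Subgroup.map_le_iff_le_comap, comap_map Z hL] at h
  exact h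

theorem norm_map {K : Subgroup P} (h : Z ≤ K) :
    normalizer ((K.map (QuotientGroup.mk' Z) : Subgroup (P ⧸ Z)) : Set (P ⧸ Z)) = (normalizer (K : Set P)).map (QuotientGroup.mk' Z) := by
  have hs : Function.Surjective (QuotientGroup.mk' Z) := QuotientGroup.mk'_surjective Z
  have h1 := Subgroup.comap_normalizer_eq_of_surjective (K.map (QuotientGroup.mk' Z)) hs
  rw [comap_map Z h] at h1
  rw [← h1, Subgroup.map_comap_eq_self_of_surjective hs]

theorem map_ne_top {K : Subgroup P} (h : Z ≤ K) (hK : K ≠ ⊤) : K.map (QuotientGroup.mk' Z) ≠ ⊤ := by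
  intro ht
  apply hK
  rw [← comap_map Z h, ht, Subgroup.comap_top]

theorem card_quot : Nat.card (P ⧸ Z) * Nat.card Z = Nat.card P := by
  rw [← Subgroup.card_eq_card_quotient_mul_card_subgroup]

theorem mem_of_map {K : Subgroup P} (h : Z ≤ K) {x : P} (hx : (x : P ⧸ Z) ∈ K.map (QuotientGroup.mk' Z)) : x ∈ K := by
  have : x ∈ (K.map (QuotientGroup.mk' Z)).comap (QuotientGroup.mk' Z) := hx
  rwa [comap_map Z h] at this

theorem q_comm_aux (h : IsSoft p E) : ∀ x ∈ E.map (QuotientGroup.mk' Z), ∀ y ∈ E.map (QuotientGroup.mk' Z), x * y = y * x := by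
  rintro _ ⟨x, hx, rfl⟩ _ ⟨y, hy, rfl⟩
  rw [← map_mul, h.comm x hx y hy, map_mul]

theorem q_norm (h : IsSoft p E) (hZ : Z ≤ E) :
    Nat.card ↥(normalizer ((E.map (QuotientGroup.mk' Z) : Subgroup (P ⧸ Z)) : Set (P ⧸ Z))) =
      p * Nat.card ↥(E.map (QuotientGroup.mk' Z)) := by
  have h1 := card_map Z (hZ.trans (le_normalizer : E ≤ normalizer (E : Set P)))
  rw [norm_map Z hZ]
  rw [h.norm, ← card_map Z hZ, ← mul_assoc] at h1
  exact Nat.eq_of_mul_eq_mul_right Nat.card_pos h1

theorem q2 (h : IsSoft p E) (hZ : Z ≤ E)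
    (hab : ∃ a ∈ normalizer (E : Set P), ∃ b ∈ normalizer (E : Set P), a * b * a⁻¹ * b⁻¹ ∉ Z) :
    IsSoft p (E.map (QuotientGroup.mk' Z)) := by
  refine ⟨q_comm_aux Z h, ?_, q_norm Z h hZ, ?_⟩
  · intro c hc
    by_contra hcE
    have hcN : c ∈ normalizer ((E.map (QuotientGroup.mk' Z) : Subgroup (P ⧸ Z)) : Set (P ⧸ Z)) := by
      rw [mem_normalizer_iff]
      intro x
      rw [mem_centralizer_iff] at hc
      constructor
      · intro hx
        rw [← hc x hx, mul_inv_cancel_right]; exact hx
      · intro hx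
        have h1 := hc _ hx
        have h2 : c * x * c⁻¹ * c * c⁻¹ = c * (c * x * c⁻¹) * c⁻¹ := by rw [h1]
        have h3 : c * x * c⁻¹ = x := by
          have h4 : c * x = c * (c * x * c⁻¹) := by
            calc c * x = c * x * c⁻¹ * c := by group
              _ = _ := h1
          have := mul_left_cancel h4
          exact this.symm
        rwa [h3] at hx
    have hsup : E.map (QuotientGroup.mk' Z) ⊔ zpowers c = normalizer ((E.map (QuotientGroup.mk' Z) : Subgroup (P ⧸ Z)) : Set (P ⧸ Z)) := by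
      rcases eq_of_prime (p := p) (le_sup_left : E.map (QuotientGroup.mk' Z) ≤ E.map (QuotientGroup.mk' Z) ⊔ zpowers c)
        (sup_le le_normalizer (zpowers_le.2 hcN)) (q_norm Z h hZ) with h2 | h2
      · exact absurd (h2.le (le_sup_right (a := E.map (QuotientGroup.mk' Z)) (mem_zpowers c))) hcE
      · exact h2
    have hab' : ∀ x ∈ normalizer ((E.map (QuotientGroup.mk' Z) : Subgroup (P ⧸ Z)) : Set (P ⧸ Z)),
        ∀ y ∈ normalizer ((E.map (QuotientGroup.mk' Z) : Subgroup (P ⧸ Z)) : Set (P ⧸ Z)), x * y = y * x := by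
      have h1 : E.map (QuotientGroup.mk' Z) ⊔ zpowers c ≤
          centralizer ((E.map (QuotientGroup.mk' Z) ⊔ zpowers c : Subgroup (P ⧸ Z)) : Set (P ⧸ Z)) := by
        have hc' := hc
        rw [mem_centralizer_iff] at hc'
        apply sup_le
        · rw [Subgroup.le_centralizer_iff]
          apply sup_le
          · intro x hx
            rw [mem_centralizer_iff]
            intro y hy
            exact q_comm_aux Z h y hy x hx
          · rw [zpowers_le]; exact hc
        · rw [zpowers_le, mem_centralizer_iff]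
          intro y hy
          have h2 : E.map (QuotientGroup.mk' Z) ⊔ zpowers c ≤ centralizer {c} := by
            apply sup_le
            · intro x hx
              rw [mem_centralizer_singleton_iff]
              exact hc' x hx
            · rw [zpowers_le, mem_centralizer_singleton_iff]
          exact mem_centralizer_singleton_iff.1 (h2 hy)
      intro x hx y hy
      rw [← hsup] at hx hy
      exact mem_centralizer_iff.1 (h1 hy) x hx
    obtain ⟨a, ha, b, hb, habZ⟩ := hab
    apply habZ
    have h1 := hab' (QuotientGroup.mk' Z a) (by rw [norm_map Z hZ]; exact ⟨a, ha, rfl⟩)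
      (QuotientGroup.mk' Z b) (by rw [norm_map Z hZ]; exact ⟨b, hb, rfl⟩)
    rw [← QuotientGroup.eq_one_iff]
    show QuotientGroup.mk' Z (a * b * a⁻¹ * b⁻¹) = 1
    rw [map_mul, map_mul, map_mul, map_inv, map_inv, h1]
    group
  · have h1 := h.idx
    rw [← card_quot Z, ← card_map Z hZ, ← mul_assoc] at h1
    exact Nat.le_of_mul_le_mul_right h1 Nat.card_pos

theorem q1 (h : IsSoft p E) (hP : IsPGroup p P) (hZ : Z ≤ E)
    (hab : ∀ a ∈ normalizer (E : Set P), ∀ b ∈ normalizer (E : Set P), a * b * a⁻¹ * b⁻¹ ∈ Z)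
    (hidx : p ^ 2 * Nat.card ↥(normalizer (E : Set P)) ≤ Nat.card P) :
    IsSoft p ((normalizer (E : Set P)).map (QuotientGroup.mk' Z)) := by
  have hZN : Z ≤ normalizer (E : Set P) := hZ.trans le_normalizer
  refine ⟨?_, ?_, ?_, ?_⟩
  · rintro _ ⟨x, hx, rfl⟩ _ ⟨y, hy, rfl⟩
    have h1 : QuotientGroup.mk' Z (x * y * x⁻¹ * y⁻¹) = 1 := (QuotientGroup.eq_one_iff _).2 (hab x hx y hy)
    rw [map_mul, map_mul, map_mul, map_inv, map_inv] at h1
    have h2 := mul_inv_eq_one.1 h1
    exact mul_inv_eq_iff_eq_mul.1 h2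
  · rw [← norm_map Z hZ]
    refine (Subgroup.centralizer_le (le_normalizer)).trans ?_
    intro c hc
    rw [mem_centralizer_iff] at hc
    rw [mem_normalizer_iff]
    intro x
    constructor
    · intro hx
      rw [← hc x hx, mul_inv_cancel_right]; exact hx
    · intro hx
      have h1 := hc _ hx
      have h3 : c * x * c⁻¹ = x := by
        have h4 : c * x = c * (c * x * c⁻¹) := by
          calc c * x = c * x * c⁻¹ * c := by group
            _ = _ := h1
        exact (mul_left_cancel h4).symm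
      rwa [h3] at hx
  · have h1 := card_map Z (hZN.trans (le_normalizer : normalizer (E : Set P) ≤ normalizer ((normalizer (E : Set P) : Subgroup P) : Set P)))
    rw [norm_map Z hZN]
    rw [h.norm_norm hP, ← card_map Z hZN, ← mul_assoc] at h1
    exact Nat.eq_of_mul_eq_mul_right Nat.card_pos h1
  · rw [← card_quot Z, ← card_map Z hZN, ← mul_assoc] at hidx
    exact Nat.le_of_mul_le_mul_right hidx Nat.card_pos

end quot

theorem center_ne (hP : IsPGroup p P) (h : IsSoft p E) : center P ≠ ⊥ := by
  have hp : p.Prime := Fact.out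
  have h1 : 1 < Nat.card P := by
    have h2 := h.idx
    have h3 : 0 < Nat.card E := Nat.card_pos
    have h4 := hp.one_lt
    have h5 : p ^ 2 ≤ p ^ 2 * Nat.card E := Nat.le_mul_of_pos_right _ h3
    have h6 : p ≤ p ^ 2 := by rw [pow_two]; exact Nat.le_mul_of_pos_left _ hp.pos
    omega
  haveI : Nontrivial P := Finite.one_lt_card_iff_nontrivial.1 h1
  haveI := hP.center_nontrivial
  exact (Subgroup.nontrivial_iff_ne_bot _).1 this

theorem card_quot_lt {Z : Subgroup P} (hZ : Z ≠ ⊥) : Nat.card (P ⧸ Z) < Nat.card P := by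
  rw [← Subgroup.card_eq_card_quotient_mul_card_subgroup Z |>.symm]
  have h1 : 1 < Nat.card Z := Subgroup.one_lt_card_iff_ne_bot Z |>.2 hZ
  exact lt_mul_of_one_lt_right Nat.card_pos h1

/-- passing to subgroups -/
theorem IsSoft.sub (hP : IsPGroup p P) (h : IsSoft p E) {L : Subgroup P} (hL : normalizer (E : Set P) < L) :
    IsSoft p (E.subgroupOf L) := by
  have hEL : E ≤ L := le_normalizer.trans hL.le
  have hc : Nat.card (E.subgroupOf L) = Nat.card E := Nat.card_congr (Subgroup.subgroupOfEquivOfLe hEL).toEquiv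
  refine ⟨fun x hx y hy => Subtype.ext (h.comm x hx y hy), ?_, ?_, ?_⟩
  · intro c hc
    have h1 : (c : P) ∈ centralizer (E : Set P) := by
      rw [mem_centralizer_iff]
      intro e he
      have := mem_centralizer_iff.1 hc ⟨e, hEL he⟩ he
      exact congrArg Subtype.val this
    exact h.cent h1
  · have h1 := Subgroup.subgroupOf_normalizer_eq (H := E) (N := L) hEL
    rw [← h1, hc, ← h.norm]
    exact Nat.card_congr (Subgroup.subgroupOfEquivOfLe hL.le).toEquiv
  · have h1 := mul_le_of_lt (p := p) hP hL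
    rw [hc]
    rw [h.norm, ← mul_assoc, ← pow_two] at h1
    exact h1

/-- statements (1) and (2) -/
theorem main12 : ∀ n : ℕ, ∀ (P : Type u) [Group P] [Finite P], Nat.card P = n → IsPGroup p P →
    ∀ E : Subgroup P, IsSoft p E → (∀ K L : Subgroup P, E ≤ K → E ≤ L → K ≤ L ∨ L ≤ K) ∧
      (∀ K : Subgroup P, E ≤ K → K ≠ ⊤ → Nat.card ↥(normalizer (K : Set P)) = p * Nat.card K) := by
  intro n
  induction n using Nat.strong_induction_on with
  | _ n ih =>
  intro P _ _ hn hP E h
  have hZE : center P ≤ E := h.center_le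
  have hlt : Nat.card (P ⧸ center P) < n := by rw [← hn]; exact card_quot_lt (center_ne hP h)
  have hlift : ∀ F : Subgroup P, E ≤ F → IsSoft p (F.map (QuotientGroup.mk' (center P))) →
      (∀ K : Subgroup P, E ≤ K → K ≠ E → F ≤ K) →
      (∀ K L : Subgroup P, E ≤ K → E ≤ L → K ≤ L ∨ L ≤ K) ∧
      (∀ K : Subgroup P, E ≤ K → K ≠ ⊤ → Nat.card ↥(normalizer (K : Set P)) = p * Nat.card K) := by
    intro F hEF hF hK
    obtain ⟨h1, h2⟩ := ih _ hlt (P ⧸ center P) rfl (hP.to_quotient _) _ hF
    constructor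
    · intro K L hEK hEL
      by_cases hKE : K = E
      · left; rw [hKE]; exact hEL
      by_cases hLE : L = E
      · right; rw [hLE]; exact hEK
      rcases h1 _ _ (Subgroup.map_mono (hK K hEK hKE)) (Subgroup.map_mono (hK L hEL hLE)) with h3 | h3
      · left; exact map_le _ (hZE.trans hEL) h3
      · right; exact map_le _ (hZE.trans hEK) h3
    · intro K hEK hKt
      by_cases hKE : K = E
      · rw [hKE]; exact h.norm
      have hZK : center P ≤ K := hZE.trans hEK
      have h3 := h2 (K.map (QuotientGroup.mk' (center P))) (Subgroup.map_mono (hK K hEK hKE)) (map_ne_top _ hZK hKt)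
      rw [norm_map _ hZK] at h3
      rw [← card_map (center P) (hZK.trans (le_normalizer : K ≤ normalizer (K : Set P))), h3, mul_assoc, card_map _ hZK]
  by_cases hab : ∃ a ∈ normalizer (E : Set P), ∃ b ∈ normalizer (E : Set P), a * b * a⁻¹ * b⁻¹ ∉ center P
  · exact hlift E le_rfl (q2 _ h hZE hab) (fun K hK _ => hK)
  push Not at hab
  by_cases hNN : normalizer ((normalizer (E : Set P) : Subgroup P) : Set P) = ⊤
  · have hc : Nat.card ↥(⊤ : Subgroup P) = p * Nat.card ↥(normalizer (E : Set P)) := by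
      rw [← hNN]; exact h.norm_norm hP
    constructor
    · intro K L hEK hEL
      by_cases hKE : K = E
      · left; rw [hKE]; exact hEL
      by_cases hLE : L = E
      · right; rw [hLE]; exact hEK
      have h1 := h.norm_le hP hEK hKE
      have h2 := h.norm_le hP hEL hLE
      rcases eq_of_prime (p := p) h1 le_top hc with h3 | h3
      · left; rw [h3]; exact h2
      · right; rw [h3]; exact le_top
    · intro K hEK hKt
      by_cases hKE : K = E
      · rw [hKE]; exact h.norm
      have h1 := h.norm_le hP hEK hKE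
      rcases eq_of_prime (p := p) h1 le_top hc with h3 | h3
      · rw [h3]; exact h.norm_norm hP
      · exact absurd h3 hKt
  · apply hlift (normalizer (E : Set P)) le_normalizer ?_ (fun K hK hKE => h.norm_le hP hK hKE)
    apply q1 _ h hP hZE hab
    have h1 := mul_le_of_lt (p := p) hP (lt_top_iff_ne_top.2 hNN)
    rw [h.norm_norm hP, ← mul_assoc, ← pow_two, Subgroup.card_top] at h1
    exact h1

end Cfsg.Agent.H2.SoftB
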