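import Cfsg.Agent.H2.SoftB

/-! Soft subgroups of `p`-groups: the class -/

set_option autoImplicit false
set_option linter.unusedSectionVars false

namespace Cfsg.Agent.H2.SoftC

open Subgroup Cfsg.Agent.Lib Cfsg.Agent.H2.Soft Cfsg.Agent.H2.SoftB

universe u

variable {P : Type u} [Group P] [Finite P] {p : ℕ} [Fact p.Prime] {E : Subgroup P}

theorem card_sub_lt {L : Subgroup P} (hL : L ≠ ⊤) : Nat.card L < Nat.card P := by
  have := lt_card (lt_top_iff_ne_top.2 hL)
  rwa [Subgroup.card_top] at this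

theorem lt_norm (hP : IsPGroup p P) {K : Subgroup P} (hK : K ≠ ⊤) : K < normalizer (K : Set P) := by
  have hnil : Group.IsNilpotent P := hP.isNilpotent
  exact Group.normalizerCondition_of_isNilpotent K (lt_top_iff_ne_top.2 hK)

/-- the centre of a normal overgroup -/
theorem Z_facts (h : IsSoft p E) (hP : IsPGroup p P) {K : Subgroup P} (hEK : E ≤ K) (hK : normalizer (K : Set P) = ⊤) :
    (K ⊓ centralizer (K : Set P)).Normal ∧ K ⊓ centralizer (K : Set P) ≤ E ∧ K ⊓ centralizer (K : Set P) ≠ ⊥ := by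
  have hKn : K.Normal := Subgroup.normalizer_eq_top_iff.1 hK
  refine ⟨inferInstance, ?_, ?_⟩
  · exact inf_le_right.trans ((Subgroup.centralizer_le hEK).trans h.cent)
  · intro h0
    apply center_ne hP h
    rw [eq_bot_iff, ← h0]
    exact le_inf (h.center_le.trans hEK) (Subgroup.center_le_centralizer _)

theorem mainC : ∀ n : ℕ, ∀ (P : Type u) [Group P] [Finite P], Nat.card P = n → IsPGroup p P →
    ∀ E : Subgroup P, IsSoft p E → ∀ K : Subgroup P, normalizer (E : Set P) ≤ K → K ≠ ⊤ →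
      ∀ a ∈ normalizer (E : Set P), ∀ b ∈ normalizer (E : Set P), ∀ k ∈ K,
        (a * b * a⁻¹ * b⁻¹) * k = k * (a * b * a⁻¹ * b⁻¹) := by
  intro n
  induction n using Nat.strong_induction_on with
  | _ n ih =>
  intro P _ _ hn hP E h K hNK hKt
  obtain ⟨hch, hno⟩ := main12 (p := p) _ P rfl hP E h
  have hEN : E ≤ normalizer (E : Set P) := le_normalizer
  have hEK : E ≤ K := hEN.trans hNK
  by_cases hKN : K = normalizer (E : Set P)
  · rw [hKN]; exact h.comm_cent hP
  have hNltK : normalizer (E : Set P) < K := lt_of_le_of_ne hNK (Ne.symm hKN)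
  by_cases hK : normalizer (K : Set P) = ⊤
  swap
  · have hlt := lt_norm hP hKt
    have hNL : normalizer (E : Set P) < normalizer (K : Set P) := lt_of_le_of_lt hNK hlt
    have h1 := ih _ (by rw [← hn]; exact card_sub_lt hK) (normalizer (K : Set P)) rfl (hP.to_subgroup _)
      (E.subgroupOf (normalizer (K : Set P))) (IsSoft.sub hP h hNL) (K.subgroupOf (normalizer (K : Set P)))
      (by
        rw [← Subgroup.subgroupOf_normalizer_eq (hEK.trans hlt.le)]
        exact Subgroup.comap_mono hNK)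
      (by
        intro ht
        rw [Subgroup.subgroupOf_eq_top] at ht
        exact hlt.not_ge ht)
    rw [← Subgroup.subgroupOf_normalizer_eq (hEK.trans hlt.le)] at h1
    intro a ha b hb k hk
    have h2 := h1 ⟨a, hNL.le ha⟩ ha ⟨b, hNL.le hb⟩ hb ⟨k, hlt.le hk⟩ hk
    exact congrArg Subtype.val h2
  obtain ⟨hZn, hZE, hZne⟩ := Z_facts h hP hEK hK
  have hKn : K.Normal := Subgroup.normalizer_eq_top_iff.1 hK
  by_contra hcon
  push Not at hcon
  obtain ⟨a₀, ha₀, b₀, hb₀, k₀, hk₀, hne₀⟩ := hcon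
  generalize hZdef : K ⊓ centralizer (K : Set P) = Z at hZn hZE hZne
  have hmemZ : ∀ x, x ∈ Z ↔ x ∈ K ∧ ∀ k ∈ K, k * x = x * k := by
    intro x
    rw [← hZdef, Subgroup.mem_inf, mem_centralizer_iff]
    rfl
  have hq2 : IsSoft p (E.map (QuotientGroup.mk' Z)) := by
    refine q2 Z h hZE ⟨a₀, ha₀, b₀, hb₀, fun hz => ?_⟩
    exact hne₀ (((hmemZ _).1 hz).2 k₀ hk₀).symm
  have hZK : Z ≤ K := hZE.trans hEK
  -- the maximal subgroup `M`
  obtain ⟨M, hM⟩ := (Set.toFinite {M : Subgroup P | normalizer (E : Set P) ≤ M ∧ M < K}).exists_maximal ⟨_, le_rfl, hNltK⟩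
  obtain ⟨hNM, hMK⟩ := hM.prop
  have hMt : M ≠ ⊤ := fun ht => hMK.not_ge (by rw [ht]; exact le_top)
  have hMcard := hno M (hEN.trans hNM) hMt
  have hnilK : Group.IsNilpotent K := (hP.to_subgroup K).isNilpotent
  have hM1 := PNilp.lt_inf_normalizer hnilK hMK
  have hKM : K ≤ normalizer (M : Set P) := by
    by_contra hcon
    have h2 : K ⊓ normalizer (M : Set P) < K := lt_of_le_of_ne inf_le_left (fun e => hcon (e ▸ inf_le_right))
    exact hM1.not_ge (hM.2 ⟨hNM.trans hM1.le, h2⟩ hM1.le)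
  have hKeq : K = normalizer (M : Set P) := by
    rcases eq_of_prime (p := p) hMK.le hKM hMcard with h2 | h2
    · exact absurd h2 hMK.ne'
    · exact h2
  have hcM : ∀ a ∈ normalizer (E : Set P), ∀ b ∈ normalizer (E : Set P), ∀ m ∈ M,
        (a * b * a⁻¹ * b⁻¹) * m = m * (a * b * a⁻¹ * b⁻¹) := by
    have h1 := ih _ (by rw [← hn]; exact card_sub_lt hKt) K rfl (hP.to_subgroup _)
      (E.subgroupOf K) (IsSoft.sub hP h hNltK) (M.subgroupOf K)
      (by
        rw [← Subgroup.subgroupOf_normalizer_eq hEK]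
        exact Subgroup.comap_mono hNM)
      (by
        intro ht
        rw [Subgroup.subgroupOf_eq_top] at ht
        exact hMK.not_ge ht)
    rw [← Subgroup.subgroupOf_normalizer_eq hEK] at h1
    intro a ha b hb k hk
    have h2 := h1 ⟨a, hNK ha⟩ ha ⟨b, hNK hb⟩ hb ⟨k, hMK.le hk⟩ hk
    exact congrArg Subtype.val h2
  -- the centralizer of the commutators is `M`
  have hM₁ : ∀ x ∈ K, (∀ a ∈ normalizer (E : Set P), ∀ b ∈ normalizer (E : Set P),
      (a * b * a⁻¹ * b⁻¹) * x = x * (a * b * a⁻¹ * b⁻¹)) → x ∈ M := by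
    let M₁ : Subgroup P := K ⊓ centralizer {n | ∃ a ∈ normalizer (E : Set P), ∃ b ∈ normalizer (E : Set P), n = a * b * a⁻¹ * b⁻¹}
    have h1 : M ≤ M₁ := by
      refine le_inf hMK.le fun m hm => ?_
      rw [mem_centralizer_iff]
      rintro _ ⟨a, ha, b, hb, rfl⟩
      exact hcM a ha b hb m hm
    have h2 : M₁ ≠ K := by
      intro e
      have h3 : k₀ ∈ M₁ := by rw [e]; exact hk₀
      exact hne₀ (mem_centralizer_iff.1 h3.2 _ ⟨a₀, ha₀, b₀, hb₀, rfl⟩)
    have h3 : M₁ = M := by
      rcases eq_of_prime (p := p) h1 (inf_le_left : M₁ ≤ K) (by rw [← hMcard, ← hKeq]) with h4 | h4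
      · exact h4
      · exact absurd h4 h2
    intro x hx hxc
    rw [← h3]
    refine ⟨hx, ?_⟩
    show x ∈ centralizer _
    rw [mem_centralizer_iff]
    rintro _ ⟨a, ha, b, hb, rfl⟩
    exact hxc a ha b hb
  -- commutators are central in `K` modulo `Z`
  have hmod : ∀ a ∈ normalizer (E : Set P), ∀ b ∈ normalizer (E : Set P), ∀ k ∈ K,
      (QuotientGroup.mk' Z) (a * b * a⁻¹ * b⁻¹) * (QuotientGroup.mk' Z) k = (QuotientGroup.mk' Z) k * (QuotientGroup.mk' Z) (a * b * a⁻¹ * b⁻¹) := by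
    have h1 := ih _ (by rw [← hn]; exact card_quot_lt hZne) (P ⧸ Z) rfl (hP.to_quotient _)
      (E.map (QuotientGroup.mk' Z)) hq2 (K.map (QuotientGroup.mk' Z))
      (by rw [norm_map Z hZE]; exact Subgroup.map_mono hNK) (map_ne_top Z hZK hKt)
    rw [norm_map Z hZE] at h1
    intro a ha b hb k hk
    have h2 := h1 _ ⟨a, ha, rfl⟩ _ ⟨b, hb, rfl⟩ _ ⟨k, hk, rfl⟩
    rw [map_mul, map_mul, map_mul, map_inv, map_inv]
    exact h2
  obtain ⟨g, hg⟩ : ∃ g, g ∉ K := by
    by_contra hcon
    push Not at hcon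
    exact hKt (eq_top_iff.2 fun x _ => hcon x)
  have hgE : ∀ a ∈ normalizer (E : Set P), ∀ b ∈ normalizer (E : Set P), g * (a * b * a⁻¹ * b⁻¹) * g⁻¹ ∈ E := by
    intro a ha b hb
    apply mem_of_map Z hZE
    apply hq2.cent
    rw [mem_centralizer_iff]
    rintro _ ⟨e, he, rfl⟩
    have h1 : g⁻¹ * e * g ∈ K := by
      have := hKn.conj_mem e (hEK he) g⁻¹
      rwa [inv_inv] at this
    have h2 := hmod a ha b hb _ h1
    rw [← map_mul, ← map_mul] at h2
    show (QuotientGroup.mk' Z) e * (QuotientGroup.mk' Z) (g * (a * b * a⁻¹ * b⁻¹) * g⁻¹) =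
      (QuotientGroup.mk' Z) (g * (a * b * a⁻¹ * b⁻¹) * g⁻¹) * (QuotientGroup.mk' Z) e
    rw [← map_mul, ← map_mul]
    have e1 : e * (g * (a * b * a⁻¹ * b⁻¹) * g⁻¹) = g * (g⁻¹ * e * g * (a * b * a⁻¹ * b⁻¹)) * g⁻¹ := by group
    have e2 : g * (a * b * a⁻¹ * b⁻¹) * g⁻¹ * e = g * ((a * b * a⁻¹ * b⁻¹) * (g⁻¹ * e * g)) * g⁻¹ := by group
    rw [e1, e2, map_mul, map_mul, ← h2, ← map_mul, ← map_mul]
  have hEM : E ≤ M.map (MulAut.conj g).toMonoidHom := by
    intro e he
    have h1 : g⁻¹ * e * g ∈ K := by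
      have := hKn.conj_mem e (hEK he) g⁻¹
      rwa [inv_inv] at this
    refine ⟨g⁻¹ * e * g, hM₁ _ h1 ?_, ?_⟩
    · intro a ha b hb
      have h2 := h.comm _ (hgE a ha b hb) e he
      have e1 : (a * b * a⁻¹ * b⁻¹) * (g⁻¹ * e * g) = g⁻¹ * (g * (a * b * a⁻¹ * b⁻¹) * g⁻¹ * e) * g := by group
      have e2 : (g⁻¹ * e * g) * (a * b * a⁻¹ * b⁻¹) = g⁻¹ * (e * (g * (a * b * a⁻¹ * b⁻¹) * g⁻¹)) * g := by group
      rw [e1, e2, h2]
    · show g * (g⁻¹ * e * g) * g⁻¹ = e
      group
  have hcc : Nat.card (M.map (MulAut.conj g).toMonoidHom) = Nat.card M :=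
    Nat.card_congr (M.equivMapOfInjective _ (MulAut.conj g).injective).symm.toEquiv
  have hMM : M.map (MulAut.conj g).toMonoidHom = M := by
    rcases hch _ _ (hEN.trans hNM) hEM with h1 | h1
    · exact (Subgroup.eq_of_le_of_card_ge h1 hcc.le).symm
    · exact Subgroup.eq_of_le_of_card_ge h1 hcc.ge
  apply hg
  rw [hKeq, mem_normalizer_iff]
  intro y
  constructor
  · intro hy
    have : g * y * g⁻¹ ∈ M.map (MulAut.conj g).toMonoidHom := ⟨y, hy, rfl⟩
    rwa [hMM] at this
  · intro hy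
    have hy' : g * y * g⁻¹ ∈ M.map (MulAut.conj g).toMonoidHom := by rw [hMM]; exact hy
    obtain ⟨z, hz, e⟩ := hy'
    have e' : g * z * g⁻¹ = g * y * g⁻¹ := e
    have : z = y := by simpa using e'
    rwa [← this]

theorem class_eq {A B : Type*} [Group A] [Group B] [Finite A] [Finite B] (hA : Group.IsNilpotent A) (e : A ≃* B) :
    Group.nilpotencyClass A = Group.nilpotencyClass B := by
  haveI hB : Group.IsNilpotent B := Group.nilpotent_of_mulEquiv e
  exact le_antisymm (Group.nilpotencyClass_le_of_surjective e.symm.toMonoidHom e.symm.surjective)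
    (Group.nilpotencyClass_le_of_surjective e.toMonoidHom e.surjective)

/-- class of a group and of its image modulo its centre -/
theorem class_step {K Z : Subgroup P} [hZn : Z.Normal] (hP : IsPGroup p P) (hKne : K ≠ ⊥)
    (hZ : ∀ x, x ∈ Z ↔ x ∈ K ∧ ∀ k ∈ K, k * x = x * k) :
    Group.nilpotencyClass K = Group.nilpotencyClass (K.map (QuotientGroup.mk' Z)) + 1 := by
  haveI : Group.IsNilpotent K := (hP.to_subgroup K).isNilpotent
  haveI : Nontrivial K := (Subgroup.nontrivial_iff_ne_bot K).2 hKne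
  rw [Group.nilpotencyClass_eq_quotient_center_plus_one]
  congr 1
  let f : K →* K.map (QuotientGroup.mk' Z) := (QuotientGroup.mk' Z).subgroupMap K
  have hf : Function.Surjective f := (QuotientGroup.mk' Z).subgroupMap_surjective K
  have hker : center K = f.ker := by
    ext x
    rw [MonoidHom.mem_ker]
    have h1 : f x = 1 ↔ (x : P) ∈ Z := by
      constructor
      · intro h
        have h2 := congrArg Subtype.val h
        exact (QuotientGroup.eq_one_iff _).1 h2
      · intro h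
        apply Subtype.ext
        exact (QuotientGroup.eq_one_iff _).2 h
    rw [h1, hZ, Subgroup.mem_center_iff]
    constructor
    · intro h
      exact ⟨x.2, fun k hk => congrArg Subtype.val (h ⟨k, hk⟩)⟩
    · rintro ⟨-, h⟩ k
      exact Subtype.ext (h k k.2)
  exact class_eq (Group.nilpotent_quotient_of_nilpotent _)
    ((QuotientGroup.quotientMulEquivOfEq hker).trans (QuotientGroup.quotientKerEquivOfSurjective f hf))

theorem main3 : ∀ n : ℕ, ∀ (P : Type u) [Group P] [Finite P], Nat.card P = n → IsPGroup p P →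
    ∀ E : Subgroup P, IsSoft p E → ∀ (i : ℕ) (K : Subgroup P), E ≤ K → K ≠ ⊤ → Nat.card K = p ^ i * Nat.card E →
      Group.nilpotencyClass K = i + 1 := by
  intro n
  induction n using Nat.strong_induction_on with
  | _ n ih =>
  intro P _ _ hn hP E h i K hEK hKt hcard
  have hp : p.Prime := Fact.out
  have hEN : E ≤ normalizer (E : Set P) := le_normalizer
  have hEne : E ≠ ⊥ := by
    rintro rfl
    exact center_ne hP h (le_bot_iff.1 h.center_le)
  rcases i with _ | i
  · rw [pow_zero, one_mul] at hcard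
    have hKE : K = E := (Subgroup.eq_of_le_of_card_ge hEK hcard.le).symm
    rw [hKE]
    haveI : Group.IsNilpotent E := (hP.to_subgroup E).isNilpotent
    apply le_antisymm
    · rw [zero_add, Group.IsNilpotent.nilpotencyClass_le_one_iff]
      exact ⟨⟨fun a b => Subtype.ext (h.comm a a.2 b b.2)⟩⟩
    · rw [zero_add, Nat.one_le_iff_ne_zero, Ne, Group.nilpotencyClass_zero_iff_subsingleton]
      intro hs
      exact hEne ((Subgroup.eq_bot_iff_forall _).2 fun x hx => congrArg Subtype.val (hs.elim (⟨x, hx⟩ : E) 1))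
  have hKE : K ≠ E := by
    intro e
    rw [e] at hcard
    have h1 : 0 < Nat.card E := Nat.card_pos
    have h2 : 1 < p ^ (i + 1) := Nat.one_lt_pow (by omega) hp.one_lt
    have h3 : 1 * Nat.card E < p ^ (i + 1) * Nat.card E := Nat.mul_lt_mul_of_pos_right h2 h1
    omega
  have hNK := h.norm_le hP hEK hKE
  by_cases hK : normalizer (K : Set P) = ⊤
  swap
  · have hlt := lt_norm hP hKt
    have hNL : normalizer (E : Set P) < normalizer (K : Set P) := lt_of_le_of_lt hNK hlt
    have hcE : Nat.card (E.subgroupOf (normalizer (K : Set P))) = Nat.card E :=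
      Nat.card_congr (Subgroup.subgroupOfEquivOfLe (hEK.trans hlt.le)).toEquiv
    have hcK : Nat.card (K.subgroupOf (normalizer (K : Set P))) = Nat.card K :=
      Nat.card_congr (Subgroup.subgroupOfEquivOfLe hlt.le).toEquiv
    have h1 := ih _ (by rw [← hn]; exact card_sub_lt hK) (normalizer (K : Set P)) rfl (hP.to_subgroup _)
      (E.subgroupOf (normalizer (K : Set P))) (IsSoft.sub hP h hNL) (i + 1) (K.subgroupOf (normalizer (K : Set P)))
      (Subgroup.comap_mono hEK)
      (by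
        intro ht
        rw [Subgroup.subgroupOf_eq_top] at ht
        exact hlt.not_ge ht) (by rw [hcE, hcK]; exact hcard)
    rw [← h1]
    exact (class_eq ((hP.to_subgroup _).to_subgroup _).isNilpotent (Subgroup.subgroupOfEquivOfLe hlt.le)).symm
  obtain ⟨hZn, hZE, hZne⟩ := Z_facts h hP hEK hK
  generalize hZdef : K ⊓ centralizer (K : Set P) = Z at hZn hZE hZne
  have hmemZ : ∀ x, x ∈ Z ↔ x ∈ K ∧ ∀ k ∈ K, k * x = x * k := by
    intro x
    rw [← hZdef, Subgroup.mem_inf, mem_centralizer_iff]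
    rfl
  have hZK : Z ≤ K := hZE.trans hEK
  have hZN : Z ≤ normalizer (E : Set P) := hZE.trans hEN
  have hC := mainC (p := p) _ P rfl hP E h K hNK hKt
  have hab : ∀ a ∈ normalizer (E : Set P), ∀ b ∈ normalizer (E : Set P), a * b * a⁻¹ * b⁻¹ ∈ Z := by
    intro a ha b hb
    rw [hmemZ]
    refine ⟨hNK ?_, fun k hk => (hC a ha b hb k hk).symm⟩
    exact (normalizer (E : Set P)).mul_mem ((normalizer (E : Set P)).mul_mem ((normalizer (E : Set P)).mul_mem ha hb) (inv_mem ha)) (inv_mem hb)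
  have hKne : K ≠ ⊥ := by
    rintro rfl
    exact hEne (le_bot_iff.1 hEK)
  rw [class_step hP hKne hmemZ]
  congr 1
  rcases i with _ | i
  · -- K = N(E)
    have hKN : K = normalizer (E : Set P) := by
      rw [zero_add, pow_one, ← h.norm] at hcard
      exact (Subgroup.eq_of_le_of_card_ge hNK hcard.le).symm
    haveI : Group.IsNilpotent (K.map (QuotientGroup.mk' Z)) := ((hP.to_quotient Z).to_subgroup _).isNilpotent
    apply le_antisymm
    · rw [zero_add, Group.IsNilpotent.nilpotencyClass_le_one_iff]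
      refine ⟨⟨?_⟩⟩
      rintro ⟨_, x, hx, rfl⟩ ⟨_, y, hy, rfl⟩
      apply Subtype.ext
      show (QuotientGroup.mk' Z) x * (QuotientGroup.mk' Z) y = (QuotientGroup.mk' Z) y * (QuotientGroup.mk' Z) x
      have hx' : x ∈ normalizer (E : Set P) := by rw [← hKN]; exact hx
      have hy' : y ∈ normalizer (E : Set P) := by rw [← hKN]; exact hy
      have h1 : QuotientGroup.mk' Z (x * y * x⁻¹ * y⁻¹) = 1 := (QuotientGroup.eq_one_iff _).2 (hab x hx' y hy')
      rw [map_mul, map_mul, map_mul, map_inv, map_inv] at h1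
      exact mul_inv_eq_iff_eq_mul.1 (mul_inv_eq_one.1 h1)
    · rw [zero_add, Nat.one_le_iff_ne_zero, Ne, Group.nilpotencyClass_zero_iff_subsingleton]
      intro hs
      have h1 : K.map (QuotientGroup.mk' Z) = ⊥ :=
        (Subgroup.eq_bot_iff_forall _).2 fun x hx => congrArg Subtype.val (hs.elim (⟨x, hx⟩ : K.map (QuotientGroup.mk' Z)) 1)
      have h2 : K ≤ Z := by
        intro x hx
        have : (QuotientGroup.mk' Z) x ∈ K.map (QuotientGroup.mk' Z) := ⟨x, hx, rfl⟩
        rw [h1, mem_bot] at this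
        exact (QuotientGroup.eq_one_iff _).1 this
      exact hKE (le_antisymm (h2.trans hZE) hEK)
  · have hidx : p ^ 2 * Nat.card ↥(normalizer (E : Set P)) ≤ Nat.card P := by
      have h1 := mul_le_of_lt (p := p) hP (lt_top_iff_ne_top.2 hKt)
      rw [Subgroup.card_top, hcard] at h1
      rw [h.norm]
      refine le_trans ?_ h1
      have e : p * (p ^ (i + 1 + 1) * Nat.card E) = p ^ i * (p ^ 2 * (p * Nat.card E)) := by ring
      rw [e]
      exact Nat.le_mul_of_pos_left _ (pow_pos hp.pos _)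
    have hq1 := q1 Z h hP hZE hab hidx
    refine ih _ (by rw [← hn]; exact card_quot_lt hZne) (P ⧸ Z) rfl (hP.to_quotient _)
      _ hq1 (i + 1) (K.map (QuotientGroup.mk' Z)) (Subgroup.map_mono hNK) (map_ne_top Z hZK hKt) ?_
    have h1 := card_map Z hZK
    rw [hcard] at h1
    have h2 := card_map Z hZN
    rw [h.norm] at h2
    apply Nat.eq_of_mul_eq_mul_right (Nat.card_pos : 0 < Nat.card Z)
    rw [h1, mul_assoc, h2]
    ring

end Cfsg.Agent.H2.SoftC
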